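import Groth.Agent.H29RR.GenBundle
import Groth.Agent.H06Mod.StalkPullback

/-!
# Globally generated coherent modules are generated by finitely many sections
-/

set_option autoImplicit false
set_option linter.style.haveILetI false
universe u

open CategoryTheory CategoryTheory.Limits AlgebraicGeometry TopologicalSpace Opposite

namespace Groth.Agent.H29RR

variable {X : Scheme.{u}}

/-- Global generation gives generation of every stalk. -/
theorem spansAt_of_globallyGenerated {M : X.Modules} (h : Curv2.IsGloballyGenerated M) (x : X) :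
    SpansAt M x := by
  obtain ⟨ι, a', ha'⟩ := h
  let a : H10Coh.freeMod X ι ⟶ M := a'
  haveI : Epi a := ha'
  let P : Submodule (X.presheaf.stalk x) (M.presheaf.stalk x) :=
    Submodule.span (X.presheaf.stalk x) (Set.range fun g : Γ(M, ⊤) => M.presheaf.germ ⊤ x trivial g)
  let ψ : M ⟶ H06Mod.sky x (M.presheaf.stalk x ⧸ P) := H06Mod.homOfStalk P.mkQ
  have h0 : a ≫ ψ = a ≫ 0 := by
    refine H10Coh.free_hom_ext _ _ fun i => ?_
    refine Scheme.Modules.hom_ext _ _ fun W => ?_
    ext r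
    refine H06Mod.skyEval_ext (x := x) (N := M.presheaf.stalk x ⧸ P) fun hxW => ?_
    let g : Γ(M, ⊤) := (H10Coh.freeIncl ι i ≫ a).app ⊤ (1 : Γ(X, ⊤))
    have hr : (H10Coh.freeIncl ι i ≫ a).app W r =
        (show Γ(X, W) from r) • M.presheaf.map (homOfLE (le_top : W ≤ ⊤)).op g :=
      H06Mod.app_unit _ W r
    change H06Mod.skyEval x _ W hxW (ψ.app W ((H10Coh.freeIncl ι i ≫ a).app W r)) = _
    rw [hr, H06Mod.skyEval_homOfStalk, H06Mod.germ_smul, TopCat.Presheaf.germ_res_apply]
    exact (Submodule.Quotient.mk_eq_zero P).2 (P.smul_mem _ (Submodule.subset_span ⟨g, rfl⟩))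
  have hψ : ψ = 0 := (cancel_epi a).1 h0
  rw [SpansAt, eq_top_iff]
  rintro v -
  obtain ⟨W, hW, m, rfl⟩ := M.presheaf.exists_germ_eq v
  exact (Submodule.Quotient.mk_eq_zero P).1 ((H06Mod.skyEval_homOfStalk P.mkQ W hW m).symm.trans
    (congrArg (H06Mod.skyEval x _ W hW) (congr($(congrArg (fun k => Scheme.Modules.Hom.app k W) hψ) m))))

/-- Finitely many global sections suffice on a quasi-compact locally Noetherian scheme. -/
theorem exists_spansStalks [IsLocallyNoetherian X] [CompactSpace X] {M : X.Modules} (hM : Coh.IsCoh M)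
    (h : ∀ x : X, SpansAt M x) : ∃ (N : ℕ) (g : Fin N → Γ(M, ⊤)), SpansStalks M g := by
  classical
  have key : ∀ x : X, ∃ (S : Finset Γ(M, ⊤)) (U : X.Opens), x ∈ U ∧ ∀ y ∈ U,
      Submodule.span (X.presheaf.stalk y) ((fun g => M.presheaf.germ ⊤ y trivial g) '' (S : Set Γ(M, ⊤))) = ⊤ := by
    intro x
    haveI := H29Ref.finite_stalk M hM.2 x
    obtain ⟨T, hT, hTs⟩ := (Submodule.fg_span_iff_fg_span_finset_subset _).1
      (show (Submodule.span (X.presheaf.stalk x) (Set.range fun g : Γ(M, ⊤) => M.presheaf.germ ⊤ x trivial g)).FG from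
        (h x).symm ▸ Module.Finite.fg_top)
    choose gs hgs using fun v : T => hT v.2
    let S : Finset Γ(M, ⊤) := Finset.univ.image gs
    let N := Fintype.card S
    let ε : Fin N ≃ S := (Fintype.equivFin S).symm
    let φ : FlatMod.freeMod X N ⟶ M := Sigma.desc fun j => H11Tilde.homOfGlobal M (ε j).1
    have hO : Coh.IsCoh (FlatMod.freeMod X N) :=
      H16Derived.KFlat.Stalk.isCoh_of_isFinLocFree (H22Alg.KModel.finLocFree_free N)
    have hC := H10Coh.isCoh_cokernel φ hO.1 hM
    have hgen : ∀ (j : Fin N) (y : X), H06Mod.stalkLin φ y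
        ((DerSch.stalkFunctor X y).map (Sigma.ι (fun _ : Fin N => Coh.structureModule X) j) |>.hom
          ((Coh.structureModule X).presheaf.germ ⊤ y trivial (H11Ample.one ⊤))) =
        M.presheaf.germ ⊤ y trivial (ε j).1 := by
      intro j y
      refine (stalkLin_comp _ _ y _).symm.trans ?_
      rw [Sigma.ι_desc, germ_app]
      congr 1
      exact (H11Tilde.homOfGlobal_app M _ ⊤ _).trans ((one_smul _ _).trans
        (ConcreteCategory.congr_hom (M.presheaf.map_id (op ⊤)) _))
    have hx : x ∉ CohB1.support (cokernel φ) := by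
      refine not_not.2 (H10Coh.subsingleton_stalk_cokernel φ x ?_)
      show Function.Surjective (H06Mod.stalkLin φ x)
      rw [← LinearMap.range_eq_top, eq_top_iff, ← h x, hTs, Submodule.span_le]
      intro v hv
      refine ⟨_, (hgen (ε.symm ⟨gs ⟨v, hv⟩, Finset.mem_image.2 ⟨⟨v, hv⟩, Finset.mem_univ _, rfl⟩⟩) x).trans ?_⟩
      rw [Equiv.apply_symm_apply]
      exact hgs ⟨v, hv⟩
    refine ⟨S, ⟨(CohB1.support (cokernel φ))ᶜ, (H10Coh.isClosed_support _ hC.2).isOpen_compl⟩, hx, fun y hy => ?_⟩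
    rw [eq_top_iff, ← LinearMap.range_eq_top.2 (surjective_stalk_of_notMem_support φ hy),
      LinearMap.range_eq_map, ← spansStalks_of_epi (𝟙 (FlatMod.freeMod X N)) y, Submodule.map_span]
    refine Submodule.span_mono ?_
    rintro _ ⟨_, ⟨j, rfl⟩, rfl⟩
    refine ⟨(ε j).1, (ε j).2, ?_⟩
    simp only [Category.comp_id]
    rw [← hgen j y]
    exact congrArg (H06Mod.stalkLin φ y) (germ_app (Sigma.ι (fun _ : Fin N => Coh.structureModule X) j) y
      (H11Ample.one ⊤))
  choose S U hxU hU using key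
  obtain ⟨F, hF⟩ := isCompact_univ.elim_finite_subcover (fun x : X => (U x : Set X)) (fun x => (U x).2)
    fun x _ => Set.mem_iUnion.2 ⟨x, hxU x⟩
  let S' := F.biUnion S
  refine ⟨Fintype.card S', fun j => ((Fintype.equivFin S').symm j).1, fun y => ?_⟩
  obtain ⟨x, hxF, hy⟩ := Set.mem_iUnion₂.1 (hF (Set.mem_univ y))
  rw [eq_top_iff, ← hU x y hy]
  refine Submodule.span_mono ?_
  rintro _ ⟨g, hg, rfl⟩
  exact ⟨Fintype.equivFin S' ⟨g, Finset.mem_biUnion.2 ⟨x, hxF, hg⟩⟩, by simp⟩

end Groth.Agent.H29RR
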