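import Groth.Agent.H29RR.Common
import Groth.Agent.H25Par.FibKer
import Groth.Agent.H25Par.StalkProd
import Groth.Agent.LeadVan.Vanishing

/-!
# Degrees of invertible modules on proper integral curves
-/

set_option autoImplicit false
set_option linter.style.haveILetI false
set_option maxHeartbeats 400000
universe u

open CategoryTheory CategoryTheory.Limits AlgebraicGeometry Opposite TopologicalSpace

namespace Groth.Agent.H29RR

variable {k : Type u} [Field k] {X : Scheme.{u}} [X.Over (Spec (CommRingCat.of k))]
  [IsProper (X ↘ Spec (CommRingCat.of k))]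

omit [Field k] [X.Over (Spec (CommRingCat.of k))] [IsProper (X ↘ Spec (CommRingCat.of k))] in
theorem rank_one_of_isInvertible {L : X.Modules} (hL : PicF.IsInvertible L) :
    FlatMod.IsFinLocFreeOfRank 1 L := fun x =>
  let ⟨U, hxU, ⟨e⟩⟩ := hL x
  ⟨U, hxU, ⟨e ≪≫ (coproductUniqueIso fun _ : Fin 1 => Coh.structureModule (↑U)).symm⟩⟩

include k in
theorem isNoetherian_of_proper : IsNoetherian X := by
  haveI : IsLocallyNoetherian X := LocallyOfFiniteType.isLocallyNoetherian (X ↘ Spec (CommRingCat.of k))
  haveI : CompactSpace X := QuasiCompact.compactSpace_of_compactSpace (X ↘ Spec (CommRingCat.of k))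
  exact ⟨⟩

/-- The tensor product with an invertible module does not change modules with finite support. -/
theorem finrank_h0_tensor_of_finite_support {Q M : X.Modules} (hM : PicF.IsInvertible M)
    (hfin : (CohB1.support Q).Finite) (hcl : ∀ z ∈ CohB1.support Q, IsClosed ({z} : Set X)) :
    Module.finrank k (Coh.HH X (CohB1.tensorMod Q M) 0) = Module.finrank k (Coh.HH X Q 0) := by
  haveI := isNoetherian_of_proper (k := k) (X := X)
  have hQ : ∀ y, y ∉ CohB1.support Q → Subsingleton (Q.presheaf.stalk y) := fun y hy => not_not.1 hy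
  have hT : ∀ y, y ∉ CohB1.support Q → Subsingleton ((CohB1.tensorMod Q M).presheaf.stalk y) := fun y hy =>
    not_not.1 fun h => hy (H25Euler.support_tensor_subset Q M h)
  have e : ∀ y : CohB1.support Q, H25Par.Stk k (CohB1.tensorMod Q M) y.1 ≃ₗ[k] H25Par.Stk k Q y.1 := fun y => by
    obtain ⟨hf, hfn, hr⟩ := H25Par.finrank_stalk (rank_one_of_isInvertible hM) y.1
    haveI := hf
    haveI := hfn
    exact H25Par.stkEquiv ((H16Derived.KFlat.Stalk.stalkEquiv Q M y.1).symm ≪≫ₗ
      TensorProduct.congr (LinearEquiv.refl _ _)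
        (LinearEquiv.ofFinrankEq (R := X.presheaf.stalk y.1) _ (X.presheaf.stalk y.1)
          (hr.trans (Module.finrank_self _).symm)) ≪≫ₗ TensorProduct.rid _ _)
  exact LinearEquiv.finrank_eq
    ((LinearEquiv.ofBijective _ (H25Par.germs_bijective (k := k) _ hfin hcl hT)) ≪≫ₗ
      LinearEquiv.piCongrRight e ≪≫ₗ
      (LinearEquiv.ofBijective _ (H25Par.germs_bijective (k := k) _ hfin hcl hQ)).symm)

variable [IsIntegral X]

/-- The change of Euler characteristics along a monomorphism which is surjective at the generic point. -/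
theorem euler_sub_of_mono (hdim : topologicalKrullDim X ≤ 1) {F G : X.Modules} (hF : Coh.IsCoh F)
    (hG : Coh.IsCoh G) (i : F ⟶ G) [Mono i] (hi : genericPoint X ∉ CohB1.support (cokernel i)) :
    Coh.IsCoh (cokernel i) ∧ (CohB1.support (cokernel i)).Finite ∧
      (∀ z ∈ CohB1.support (cokernel i), IsClosed ({z} : Set X)) ∧
      Curv2.euler k X G = Curv2.euler k X F + (Module.finrank k (Coh.HH X (cokernel i) 0) : ℤ) := by
  haveI := isNoetherian_of_proper (k := k) (X := X)
  have hC := H10Coh.isCoh_cokernel i hF.1 hG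
  obtain ⟨hfin, hcl⟩ := H25Par.finite_of_isClosed_of_notMem hdim
    (H10Coh.isClosed_support _ hC.2) hi
  have h := H25Par.euler_sub_eq_h0 (k := k) hF hG i hC hfin hcl
  exact ⟨hC, hfin, hcl, by omega⟩

/-- Twisting changes the Euler characteristic of modules of the same generic rank by the same amount. -/
theorem euler_tensor_sub_of_mono (hdim : topologicalKrullDim X ≤ 1) {F G M : X.Modules}
    (hM : PicF.IsInvertible M) (hF : Coh.IsCoh F)
    (hG : Coh.IsCoh G) (i : F ⟶ G) [Mono i] (hi : genericPoint X ∉ CohB1.support (cokernel i)) :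
    Curv2.euler k X (CohB1.tensorMod G M) - Curv2.euler k X G =
      Curv2.euler k X (CohB1.tensorMod F M) - Curv2.euler k X F := by
  haveI := isNoetherian_of_proper (k := k) (X := X)
  obtain ⟨hC, hfin, hcl, he⟩ := euler_sub_of_mono (k := k) hdim hF hG i hi
  have hflat : FlatMod.IsFlat M :=
    H16Derived.KFlat.Stalk.isFlat_of_isFinLocFree (H28Pinch.isFinLocFree_of_isInvertible hM)
  let T := (DCoh.tensorBi (X := X)).flip.obj M
  have hS : (ShortComplex.mk i (cokernel.π i) (cokernel.condition i)).ShortExact :=
    { exact := ShortComplex.exact_cokernel _ }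
  have hS' := H16Derived.KFlat.Stalk.isFlatObj_of_isFlat hflat _ hS
  have hadd := H25Euler.euler_add (k := k) (X := X)
    (S := (ShortComplex.mk i (cokernel.π i) (cokernel.condition i)).map T) hS'
    (show Coh.IsCoh (T.obj F) from H11Ample.isCoh_tensor hF hM)
    (show Coh.IsCoh (T.obj G) from H11Ample.isCoh_tensor hG hM)
    (show Coh.IsCoh (T.obj (cokernel i)) from H11Ample.isCoh_tensor hC hM)
  change Curv2.euler k X (CohB1.tensorMod G M) = Curv2.euler k X (CohB1.tensorMod F M) +
    Curv2.euler k X (CohB1.tensorMod (cokernel i) M) at hadd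
  have hv : ∀ p, 1 ≤ p → Subsingleton (Coh.HH X (CohB1.tensorMod (cokernel i) M) p) := fun p hp =>
    H25Par.subsingleton_HH_of_finite_support _ hfin hcl
      (fun y hy => not_not.1 fun h => hy (H25Euler.support_tensor_subset (cokernel i) M h)) hp
  rw [H25Euler.euler_eq_sum _ 1 hv, Finset.sum_range_one, pow_zero, one_mul,
    finrank_h0_tensor_of_finite_support (k := k) hM hfin hcl] at hadd
  omega

omit [IsIntegral X] in
theorem euler_structureModule_tensor (M : X.Modules) :
    Curv2.euler k X (CohB1.tensorMod (Coh.structureModule X) M) = Curv2.euler k X M :=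
  H25Euler.euler_congr (H10Coh.Tw.leftUnitIso M)

omit [IsProper (X ↘ Spec (CommRingCat.of k))] [IsIntegral X] in
theorem deg_def (L : X.Modules) :
    Curv2.deg k X L 1 = Curv2.euler k X L - Curv2.euler k X (Coh.structureModule X) := by
  rw [Curv2.deg, Nat.cast_one, one_mul]

/-- The degree is additive on invertible modules. -/
theorem deg_tensor (hdim : topologicalKrullDim X ≤ 1) {L M : X.Modules}
    (hL : PicF.IsInvertible L) (hM : PicF.IsInvertible M) :
    Curv2.deg k X (CohB1.tensorMod L M) 1 = Curv2.deg k X L 1 + Curv2.deg k X M 1 := by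
  haveI := isNoetherian_of_proper (k := k) (X := X)
  obtain ⟨K, a, b, hK, ha, hb, ha', hb'⟩ := exists_common L hL
  have h1 := euler_tensor_sub_of_mono (k := k) hdim hM hK (H10Coh.isCoh_structureModule' X) a ha'
  have h2 := euler_tensor_sub_of_mono (k := k) hdim hM hK
    (H16Derived.KFlat.Stalk.isCoh_of_isFinLocFree (H28Pinch.isFinLocFree_of_isInvertible hL)) b hb'
  rw [euler_structureModule_tensor] at h1
  rw [deg_def, deg_def, deg_def]
  omega

omit [IsProper (X ↘ Spec (CommRingCat.of k))] [IsIntegral X] in
theorem deg_congr {L M : X.Modules} (e : L ≅ M) : Curv2.deg k X L 1 = Curv2.deg k X M 1 := by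
  rw [deg_def, deg_def, H25Euler.euler_congr e]

omit [IsProper (X ↘ Spec (CommRingCat.of k))] [IsIntegral X] in
theorem deg_structureModule : Curv2.deg k X (Coh.structureModule X) 1 = 0 := by
  rw [deg_def, sub_self]

omit [IsIntegral X] in
/-- On a scheme of dimension at most one only two cohomology groups matter. -/
theorem euler_eq_sub (hdim : topologicalKrullDim X ≤ 1) (F : X.Modules) :
    Curv2.euler k X F =
      (Module.finrank k (Coh.HH X F 0) : ℤ) - (Module.finrank k (Coh.HH X F 1) : ℤ) := by
  haveI := isNoetherian_of_proper (k := k) (X := X)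
  have hv : ∀ p, 2 ≤ p → Subsingleton (Coh.HH X F p) := fun p hp =>
    LeadVan.subsingleton_H_of_dim_le 1 (by exact_mod_cast hdim) _ p (by omega)
  rw [H25Euler.euler_eq_sum F 2 hv, Finset.sum_range_succ, Finset.sum_range_one, pow_zero, one_mul, pow_one,
    neg_one_mul, sub_eq_add_neg]

end Groth.Agent.H29RR
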