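import Groth.Agent.H29RR.Clifford
import Mathlib.LinearAlgebra.Matrix.Charpoly.Coeff

/-!
# Two sections with transcendental ratio and first cohomology
-/

set_option autoImplicit false
set_option linter.style.haveILetI false
set_option maxHeartbeats 1000000
universe u

open CategoryTheory CategoryTheory.Limits AlgebraicGeometry Opposite TopologicalSpace

namespace Groth.Agent.H29RR

attribute [local instance 10000] H10Coh.hasSheafifyAb H10Coh.hasWeakSheafifyAb H10Coh.hasExtAb H10Coh.enoughInjAb

variable {k : Type u} [Field k] {X : Scheme.{u}} [X.Over (Spec (CommRingCat.of k))]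

theorem hhlin_comp {F G H : X.Modules} (φ : F ⟶ G) (ψ : G ⟶ H) (n : ℕ) (x : Coh.HH X F n) :
    Canon.HHlin k (φ ≫ ψ) n x = Canon.HHlin k ψ n (Canon.HHlin k φ n x) := by
  show Sheaf.H.map ((H10Coh.shF X).map (φ ≫ ψ)) n x = _
  rw [Functor.map_comp, Sheaf.H.map_comp_apply]
  rfl

theorem hhlin_add {F G : X.Modules} (φ ψ : F ⟶ G) (n : ℕ) (x : Coh.HH X F n) :
    Canon.HHlin k (φ + ψ) n x = Canon.HHlin k φ n x + Canon.HHlin k ψ n x := by
  show Sheaf.H.map ((H10Coh.shF X).map (φ + ψ)) n x = _
  rw [Functor.map_add]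
  exact Sheaf.H.map_add_apply _ _ _

theorem hhlin_sum {ι : Type*} {F G : X.Modules} (S : Finset ι) (φ : ι → (F ⟶ G)) (n : ℕ) (x : Coh.HH X F n) :
    Canon.HHlin k (∑ i ∈ S, φ i) n x = ∑ i ∈ S, Canon.HHlin k (φ i) n x :=
  map_sum (AddMonoidHom.mk' (fun ψ : F ⟶ G => Canon.HHlin k ψ n x) fun a b => hhlin_add a b n x) φ S

theorem hhlin_id (F : X.Modules) (n : ℕ) (x : Coh.HH X F n) : Canon.HHlin k (𝟙 F) n x = x := by
  show Sheaf.H.map ((H10Coh.shF X).map (𝟙 F)) n x = _
  rw [CategoryTheory.Functor.map_id, Sheaf.H.map_id_apply]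

theorem hhlin_zero (F G : X.Modules) (n : ℕ) (x : Coh.HH X F n) : Canon.HHlin k (0 : F ⟶ G) n x = 0 := by
  have h := hhlin_add (k := k) (0 : F ⟶ G) 0 n x
  rw [add_zero] at h
  simpa using h

/-- The constants in the function field. -/
noncomputable def constGen [IsIntegral X] : k →+* X.presheaf.stalk (genericPoint X) :=
  (X.presheaf.germ ⊤ (genericPoint X) trivial).hom.comp (H10Coh.globA (A := k) (X := X))

/-- The generic germ of a degree zero class. -/
noncomputable def genGerm [IsIntegral X] (M : X.Modules) (v : Coh.HH X M 0) : M.presheaf.stalk (genericPoint X) :=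
  M.presheaf.germ ⊤ (genericPoint X) trivial (sec M v)

theorem genGerm_smul [IsIntegral X] (M : X.Modules) (c : k) (v : Coh.HH X M 0) :
    genGerm M (c • v) = constGen (k := k) (X := X) c • genGerm M v := by
  rw [genGerm, sec_smul, H17.AssPts.germ_smul']
  rfl

theorem genGerm_sub [IsIntegral X] (M : X.Modules) (v w : Coh.HH X M 0) :
    genGerm M (v - w) = genGerm M v - genGerm M w := by
  rw [genGerm, map_sub, map_sub]; rfl

variable [IsProper (X ↘ Spec (CommRingCat.of k))] [IsIntegral X]

/-- A map whose cokernel is small induces a surjection in degree one. -/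
theorem hhlin_one_surjective (hdim : topologicalKrullDim X ≤ 1) {F G : X.Modules} (hF : Coh.IsQCoh F)
    (hG : Coh.IsCoh G) (φ : F ⟶ G) (hφ : genericPoint X ∉ CohB1.support (cokernel φ)) :
    Function.Surjective (Canon.HHlin k φ 1) := by
  haveI := isNoetherian_of_proper (k := k) (X := X)
  have hC := H10Coh.isCoh_cokernel φ hF hG
  obtain ⟨hfin, hcl⟩ := H25Par.finite_of_isClosed_of_notMem hdim (H10Coh.isClosed_support _ hC.2) hφ
  haveI h1 : Subsingleton (Coh.HH X (cokernel φ) 1) :=
    H25Par.subsingleton_HH_of_finite_support _ hfin hcl (fun y hy => not_not.1 hy) Nat.one_pos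
  haveI h2 : Subsingleton (Coh.HH X (kernel φ) 2) :=
    LeadVan.subsingleton_H_of_dim_le 1 (by exact_mod_cast hdim) _ 2 one_lt_two
  have hS₁ : (ShortComplex.mk (kernel.ι φ) (Abelian.factorThruImage φ)
      (by rw [← cancel_mono (Abelian.image.ι φ), Category.assoc, Abelian.image.fac, kernel.condition,
        zero_comp])).ShortExact :=
    { exact := ShortComplex.exact_of_f_is_kernel _ (KernelFork.IsLimit.ofι' _ _ fun g hg =>
        ⟨kernel.lift φ g (by
          rw [← Abelian.image.fac φ, ← Category.assoc, hg, zero_comp]), kernel.lift_ι _ _ _⟩)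
      epi_g := inferInstanceAs (Epi (Abelian.factorThruImage φ)) }
  have hS₂ : (ShortComplex.mk (Abelian.image.ι φ) (cokernel.π φ) (kernel.condition _)).ShortExact :=
    { exact := ShortComplex.exact_kernel _ }
  intro y
  obtain ⟨z, hz⟩ := Abelian.Ext.covariant_sequence_exact₂ _ (H10Coh.shortExact_sh hS₂) y
    (@Subsingleton.elim (Coh.HH X (cokernel φ) 1) h1 _ _)
  obtain ⟨x, hx⟩ := Abelian.Ext.covariant_sequence_exact₃ _ (H10Coh.shortExact_sh hS₁) z
    (n₁ := 2) rfl (@Subsingleton.elim (Coh.HH X (kernel φ) 2) h2 _ _)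
  refine ⟨x, ?_⟩
  rw [← Abelian.image.fac φ, hhlin_comp]
  exact (congrArg (Canon.HHlin k (Abelian.image.ι φ) 1) hx).trans hz

/-- Two sections with transcendental ratio cannot act bijectively on first cohomology. -/
theorem genus_eq_zero_of_pencil (hdim : topologicalKrullDim X ≤ 1) {L : X.Modules} (hL : PicF.IsInvertible L)
    (vs vt : Coh.HH X L 0) (hvt : vt ≠ 0) (f : X.presheaf.stalk (genericPoint X))
    (hf : genGerm L vs = f • genGerm L vt)
    (htr : ∀ P : Polynomial k, P.Monic → P.eval₂ (constGen (k := k) (X := X)) f ≠ 0)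
    (h1 : Module.finrank k (Coh.HH X L 1) = Curv2.genus k X) : Curv2.genus k X = 0 := by
  classical
  by_contra hg
  haveI := isNoetherian_of_proper (k := k) (X := X)
  have hLf := H28Pinch.isFinLocFree_of_isInvertible hL
  have hLc := H16Derived.KFlat.Stalk.isCoh_of_isFinLocFree hLf
  let O := Coh.structureModule X
  have hOc : Coh.IsCoh O := H10Coh.isCoh_structureModule' X
  haveI := finite_HH (k := k) L hL 1
  haveI := finite_HH (k := k) _ (H11Ample.isInvertible_structureModule (X := X)) 1
  let W := Coh.HH X O 1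
  let e := Module.finBasisOfFinrankEq (n := Curv2.genus k X) k W (show Module.finrank k W = Curv2.genus k X from rfl)
  -- the endomorphism `t⁻¹ s`
  let mt : W →ₗ[k] Coh.HH X L 1 := mulH (k := k) L 1 vt
  have hmts : Function.Surjective mt := mulH_one_surjective (k := k) hdim hL hvt
  have hmt : Function.Bijective mt :=
    ⟨(LinearMap.injective_iff_surjective_of_finrank_eq_finrank h1.symm).2 hmts, hmts⟩
  let A : W →ₗ[k] W := (LinearEquiv.ofBijective mt hmt).symm.toLinearMap ∘ₗ mulH (k := k) L 1 vs
  have hA : ∀ w, mt (A w) = mulH (k := k) L 1 vs w := fun w =>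
    (LinearEquiv.ofBijective mt hmt).apply_symm_apply _
  let C : Matrix (Fin (Curv2.genus k X)) (Fin (Curv2.genus k X)) k := LinearMap.toMatrix e e A
  -- the pencil
  let v : Fin (Curv2.genus k X) → Fin (Curv2.genus k X) → Coh.HH X L 0 :=
    fun i j => (if i = j then vs else 0) - C i j • vt
  let F : X.Modules := ⨁ fun _ : Fin (Curv2.genus k X) => O
  let G : X.Modules := ⨁ fun _ : Fin (Curv2.genus k X) => L
  let φ : F ⟶ G := biproduct.matrix fun i j => H11Tilde.homOfGlobal L (sec L (v i j))
  let T := DerSch.stalkFunctor X (genericPoint X)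
  letI : Field (X.presheaf.stalk (genericPoint X)) := inferInstanceAs (Field X.functionField)
  have hη : genericPoint X ∉ CohB1.support (cokernel φ) := by
    let N : Matrix (Fin (Curv2.genus k X)) (Fin (Curv2.genus k X)) (X.presheaf.stalk (genericPoint X)) :=
      Matrix.scalar _ f - C.map (constGen (k := k) (X := X))
    have hdet : IsUnit N.det := by
      rw [isUnit_iff_ne_zero]
      have h2 : N.det = C.charpoly.eval₂ (constGen (k := k) (X := X)) f := by
        rw [← Polynomial.eval_map, ← Matrix.charpoly_map, Matrix.eval_charpoly]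
      rw [h2]
      exact htr _ (Matrix.charpoly_monic C)
    have hgv : ∀ i j, genGerm L (v i j) = N i j • genGerm L vt := by
      intro i j
      show genGerm L ((if i = j then vs else 0) - C i j • vt) = _
      rw [genGerm_sub, genGerm_smul]
      show _ = (Matrix.diagonal (fun _ => f) i j - constGen (k := k) (X := X) (C i j)) • _
      rw [sub_smul]
      congr 1
      by_cases hij : i = j
      · rw [if_pos hij, hij, Matrix.diagonal_apply_eq, hf]
      · rw [if_neg hij, Matrix.diagonal_apply_ne _ hij, zero_smul, genGerm, map_zero, map_zero]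
    -- the unit germ
    let one : (T.obj O) := O.presheaf.germ ⊤ (genericPoint X) trivial (show Γ(X, ⊤) from 1)
    have hone : ∀ g : Γ(L, ⊤), (T.map (H11Tilde.homOfGlobal L g)).hom one =
        L.presheaf.germ ⊤ (genericPoint X) trivial g := by
      intro g
      refine (TopCat.Presheaf.stalkFunctor_map_germ_apply (⊤ : X.Opens) _ trivial
        (H11Tilde.homOfGlobal L g).mapPresheaf _).trans ?_
      refine congrArg _ ?_
      show (H11Tilde.homOfGlobal L g).app ⊤ (show Γ(X, ⊤) from 1) = g
      rw [H11Tilde.homOfGlobal_app]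
      simp
    have hLt := H25Par.isTorsionFree_of_locFree hLf
    have hγ : genGerm L vt ≠ 0 := germ_ne_zero hLc.1 hLt fun h =>
      hvt ((sec L).injective (h.trans (map_zero _).symm))
    obtain ⟨-, -, hr⟩ := H25Par.finrank_stalk (rank_one_of_isInvertible hL) (genericPoint X)
    have hgen : ∀ w : T.obj L, ∃ c : X.presheaf.stalk (genericPoint X), c • (genGerm L vt : T.obj L) = w :=
      fun w => exists_smul_eq_of_finrank_eq_one (K := X.presheaf.stalk (genericPoint X)) (V := T.obj L) hr hγ w
    -- each axis of the target is in the image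
    have hrow : ∀ i, (T.map φ).hom ((T.map (biproduct.ι _ i)).hom one) =
        ∑ j, N i j • (T.map (biproduct.ι (fun _ : Fin (Curv2.genus k X) => L) j)).hom (genGerm L vt) := by
      intro i
      have h2 : biproduct.ι (fun _ : Fin (Curv2.genus k X) => O) i ≫ φ =
          ∑ j, H11Tilde.homOfGlobal L (sec L (v i j)) ≫ biproduct.ι (fun _ : Fin (Curv2.genus k X) => L) j := by
        rw [biproduct.ι_matrix, biproduct.lift_eq]
      have h3 := congrArg (fun ψ => (T.map ψ).hom one) h2
      simp only [Functor.map_comp, Functor.map_sum, ModuleCat.hom_comp, LinearMap.comp_apply, ModuleCat.hom_sum,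
        LinearMap.sum_apply] at h3
      refine h3.trans (Finset.sum_congr rfl fun j _ => ?_)
      rw [hone]
      exact (congrArg (T.map _).hom (hgv i j)).trans (map_smul _ _ _)
    have hmem : ∀ j w, (T.map (biproduct.ι (fun _ : Fin (Curv2.genus k X) => L) j)).hom w ∈
        LinearMap.range (T.map φ).hom := by
      intro j w
      obtain ⟨c, rfl⟩ := hgen w
      erw [map_smul]
      refine Submodule.smul_mem _ c ⟨∑ i, N⁻¹ j i • (T.map (biproduct.ι _ i)).hom one, ?_⟩
      simp only [map_sum, map_smul, hrow, Finset.smul_sum, smul_smul]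
      rw [Finset.sum_comm]
      simp only [← Finset.sum_smul, ← Matrix.mul_apply, Matrix.nonsing_inv_mul N hdet, Matrix.one_apply, ite_smul,
        one_smul, zero_smul, Finset.sum_ite_eq, Finset.mem_univ, if_true]
    rw [H25Euler.notMem_support_iff]
    have hz : (T.map (cokernel.π φ)) = 0 := by
      refine ModuleCat.hom_ext (LinearMap.ext fun w => ?_)
      have hw : w ∈ LinearMap.range (T.map φ).hom := by
        have h4 : (T.map (𝟙 G)).hom w = w := by rw [CategoryTheory.Functor.map_id]; rfl
        rw [← h4, ← biproduct.total (f := fun _ : Fin (Curv2.genus k X) => L)]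
        simp only [Functor.map_sum, ModuleCat.hom_sum, LinearMap.sum_apply, Functor.map_comp, ModuleCat.hom_comp,
          LinearMap.comp_apply]
        exact Submodule.sum_mem _ fun j _ => hmem j _
      obtain ⟨z, rfl⟩ := hw
      have h5 := congrArg (fun ψ => (T.map ψ).hom z) (cokernel.condition φ)
      simp only [Functor.map_comp, ModuleCat.hom_comp, LinearMap.comp_apply, Functor.map_zero] at h5
      exact h5
    haveI : Epi (T.map (cokernel.π φ)) := inferInstance
    refine (IsZero.iff_id_eq_zero _).2 ?_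
    rw [← cancel_epi (T.map (cokernel.π φ)), Category.comp_id, hz, zero_comp]
  have hsurj := hhlin_one_surjective (k := k) hdim (LeadDev.isCoh_biproduct O hOc).1 (LeadDev.isCoh_biproduct L hLc) φ hη
  -- coordinates
  let toW : Coh.HH X F 1 →ₗ[k] (Fin (Curv2.genus k X) → W) :=
    LinearMap.pi fun i => Canon.HHlin k (biproduct.π _ i) 1
  let Φ : (Fin (Curv2.genus k X) → W) →ₗ[k] (Fin (Curv2.genus k X) → Coh.HH X L 1) :=
    LinearMap.pi fun j => ∑ i, mulH (k := k) L 1 (v i j) ∘ₗ LinearMap.proj i
  have hΦ : Function.Surjective Φ := by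
    intro y
    obtain ⟨x, hx⟩ := hsurj (∑ j, Canon.HHlin k (biproduct.ι (fun _ : Fin (Curv2.genus k X) => L) j) 1 (y j))
    refine ⟨toW x, funext fun j => ?_⟩
    have hπ : φ ≫ biproduct.π (fun _ : Fin (Curv2.genus k X) => L) j =
        ∑ i, biproduct.π (fun _ : Fin (Curv2.genus k X) => O) i ≫ H11Tilde.homOfGlobal L (sec L (v i j)) := by
      rw [biproduct.matrix_π, biproduct.desc_eq]
    have h2 := congrArg (Canon.HHlin k (biproduct.π (fun _ : Fin (Curv2.genus k X) => L) j) 1) hx
    rw [← hhlin_comp, hπ, hhlin_sum] at h2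
    simp only [hhlin_comp, map_sum] at h2
    simp only [Φ, toW, LinearMap.pi_apply, LinearMap.sum_apply, LinearMap.comp_apply, LinearMap.proj_apply]
    refine h2.trans ?_
    rw [Finset.sum_eq_single j]
    · rw [← hhlin_comp, biproduct.ι_π_self, hhlin_id]
    · intro i _ hij
      rw [← hhlin_comp, biproduct.ι_π_ne _ hij]
      exact hhlin_zero _ _ _ _
    · intro h; exact absurd (Finset.mem_univ j) h
  have hinj : Function.Injective Φ := (LinearMap.injective_iff_surjective_of_finrank_eq_finrank (by
    rw [Module.finrank_pi_fintype, Module.finrank_pi_fintype]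
    exact Finset.sum_congr rfl fun _ _ => h1.symm)).2 hΦ
  have hzero : Φ (fun i => e i) = 0 := by
    funext j
    simp only [Φ, LinearMap.pi_apply, LinearMap.sum_apply, LinearMap.comp_apply, LinearMap.proj_apply, v, map_sub,
      map_smul, LinearMap.sub_apply, LinearMap.smul_apply, Finset.sum_sub_distrib, Pi.zero_apply]
    rw [Finset.sum_eq_single j (fun i _ hij => by rw [if_neg hij, map_zero, LinearMap.zero_apply])
      (fun h => absurd (Finset.mem_univ j) h), if_pos rfl, ← hA, sub_eq_zero]
    show mt (A (e j)) = ∑ i, C i j • mt (e i)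
    rw [← e.sum_repr (A (e j)), map_sum]
    exact Finset.sum_congr rfl fun i _ => by rw [map_smul]; simp [C, LinearMap.toMatrix_apply]
  have hpos : 0 < Curv2.genus k X := Nat.pos_of_ne_zero hg
  exact e.ne_zero ⟨0, hpos⟩ (congrFun (hinj (hzero.trans (map_zero Φ).symm)) ⟨0, hpos⟩)

end Groth.Agent.H29RR
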