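import Groth.Agent.H29RR.Degree
import Groth.Agent.H11Tilde.TwistPow

/-!
# Sections of invertible modules on proper integral curves
-/

set_option autoImplicit false
set_option linter.style.haveILetI false
set_option maxHeartbeats 400000
universe u

open CategoryTheory CategoryTheory.Limits AlgebraicGeometry Opposite TopologicalSpace

namespace Groth.Agent.H29RR

variable {k : Type u} [Field k] {X : Scheme.{u}} [X.Over (Spec (CommRingCat.of k))]
  [IsProper (X ↘ Spec (CommRingCat.of k))]

omit [Field k] [X.Over (Spec (CommRingCat.of k))] [IsProper (X ↘ Spec (CommRingCat.of k))] in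
/-- A nonzero global section of a torsion-free module is injective and nonzero at the generic point. -/
theorem germ_ne_zero [IsIntegral X] [IsLocallyNoetherian X] {L : X.Modules} (hL : Coh.IsQCoh L)
    (hLt : TorSh.IsTorsionFree L) {g : Γ(L, ⊤)} (hg : g ≠ 0) :
    L.presheaf.germ ⊤ (genericPoint X) trivial g ≠ 0 := fun h =>
  hg (H29Ref.germ_generic_injective L hL hLt (U := ⊤) trivial (h.trans (map_zero _).symm))

omit [Field k] [X.Over (Spec (CommRingCat.of k))] [IsProper (X ↘ Spec (CommRingCat.of k))] in
/-- A nonzero global section of an invertible module on an integral scheme. -/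
theorem mono_homOfGlobal [IsIntegral X] [IsLocallyNoetherian X] {L : X.Modules} (hL : PicF.IsInvertible L)
    {g : Γ(L, ⊤)} (hg : g ≠ 0) :
    Mono (H11Tilde.homOfGlobal L g) ∧
      genericPoint X ∉ CohB1.support (cokernel (H11Tilde.homOfGlobal L g)) := by
  have hLf := H28Pinch.isFinLocFree_of_isInvertible hL
  have hLc : Coh.IsCoh L := H16Derived.KFlat.Stalk.isCoh_of_isFinLocFree hLf
  have hLt := H25Par.isTorsionFree_of_locFree hLf
  let s := H11Tilde.homOfGlobal L g
  letI : Field (X.presheaf.stalk (genericPoint X)) := inferInstanceAs (Field X.functionField)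
  have hγ := germ_ne_zero hLc.1 hLt hg
  have hs : ∀ (W : X.Opens) (hW : genericPoint X ∈ W) (r : Γ(X, W)),
      L.presheaf.germ W (genericPoint X) hW (s.app W r) =
        X.presheaf.germ W (genericPoint X) hW r • L.presheaf.germ ⊤ (genericPoint X) trivial g := by
    intro W hW r
    erw [H11Tilde.homOfGlobal_app, H17.AssPts.germ_smul']
    exact congrArg _ (TopCat.Presheaf.germ_res_apply L.presheaf _ _ _ _)
  haveI hmono : Mono s := by
    refine H11Tilde.mono_of_injective _ fun W r hr x hx => ⟨W, le_rfl, hx, ?_⟩
    have hW : genericPoint X ∈ W := H29Ref.genericPoint_mem hx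
    have h := hs W hW r
    erw [hr, map_zero] at h
    rcases smul_eq_zero.1 h.symm with h0 | h0
    · have : (show Γ(X, W) from r) = 0 :=
        germ_injective_of_isIntegral X _ hW (h0.trans (map_zero _).symm)
      erw [show r = 0 from this, map_zero]
    · exact absurd h0 hγ
  refine ⟨hmono, ?_⟩
  refine (H25Euler.notMem_support_kernel_cokernel s ?_).2
  let T := DerSch.stalkFunctor X (genericPoint X)
  rw [ConcreteCategory.isIso_iff_bijective]
  haveI : Mono (T.map s) := inferInstance
  have hinj : Function.Injective (T.map s).hom := (ModuleCat.mono_iff_injective _).1 inferInstance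
  obtain ⟨hf, hfin, hr⟩ := H25Par.finrank_stalk (rank_one_of_isInvertible hL) (genericPoint X)
  obtain ⟨hf', hfin', hr'⟩ := H25Par.finrank_stalk
    (rank_one_of_isInvertible (H11Ample.isInvertible_structureModule (X := X))) (genericPoint X)
  haveI : Module.Finite (X.presheaf.stalk (genericPoint X)) (T.obj L) := hfin
  haveI : Module.Finite (X.presheaf.stalk (genericPoint X)) (T.obj (Coh.structureModule X)) := hfin'
  exact ⟨hinj, (LinearMap.injective_iff_surjective_of_finrank_eq_finrank (hr'.trans hr.symm)).1 hinj⟩

omit [Field k] [X.Over (Spec (CommRingCat.of k))] [IsProper (X ↘ Spec (CommRingCat.of k))] in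
theorem exists_global_ne_zero (L : X.Modules) (h : Nontrivial (Coh.HH X L 0)) :
    ∃ g : Γ(L, ⊤), g ≠ 0 := by
  obtain ⟨x, hx⟩ := exists_ne (0 : Coh.HH X L 0)
  let E := (H10Coh.HHEquiv L 0).trans (H10Coh.H0Equiv (H10Coh.sh L) (⊤ : X.Opens))
  exact ⟨E x, fun h0 => hx (E.injective (h0.trans (map_zero E).symm))⟩

variable [IsIntegral X]

theorem finite_HH (L : X.Modules) (hL : PicF.IsInvertible L) (n : ℕ) :
    Module.Finite k (Coh.HH X L n) := by
  haveI := isNoetherian_of_proper (k := k) (X := X)
  exact H10Coh.finite_HH_proper k X L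
    (H16Derived.KFlat.Stalk.isCoh_of_isFinLocFree (H28Pinch.isFinLocFree_of_isInvertible hL)) n

/-- The bounds given by a nonzero section. -/
theorem bounds_of_section (hdim : topologicalKrullDim X ≤ 1) {L : X.Modules} (hL : PicF.IsInvertible L)
    (hs : Nontrivial (Coh.HH X L 0)) :
    0 ≤ Curv2.deg k X L 1 ∧
    (Module.finrank k (Coh.HH X L 0) : ℤ) ≤
      Module.finrank k (Coh.HH X (Coh.structureModule X) 0) + Curv2.deg k X L 1 ∧
    Module.finrank k (Coh.HH X L 1) ≤ Module.finrank k (Coh.HH X (Coh.structureModule X) 1) ∧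
    (Curv2.deg k X L 1 = 0 → Nonempty (L ≅ Coh.structureModule X)) := by
  haveI := isNoetherian_of_proper (k := k) (X := X)
  have hLc : Coh.IsCoh L := H16Derived.KFlat.Stalk.isCoh_of_isFinLocFree (H28Pinch.isFinLocFree_of_isInvertible hL)
  obtain ⟨g, hg⟩ := exists_global_ne_zero L hs
  obtain ⟨hmono, hη⟩ := mono_homOfGlobal hL hg
  let s := H11Tilde.homOfGlobal L g
  haveI : Mono s := hmono
  obtain ⟨hC, hfin, hcl, he⟩ := euler_sub_of_mono (k := k) hdim (H10Coh.isCoh_structureModule' X) hLc s hη
  have hdeg : Curv2.deg k X L 1 = (Module.finrank k (Coh.HH X (cokernel s) 0) : ℤ) := by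
    rw [deg_def]; omega
  haveI := finite_HH (k := k) L hL 0
  haveI := finite_HH (k := k) _ (H11Ample.isInvertible_structureModule (X := X)) 0
  haveI : Module.Finite k (Coh.HH X (cokernel s) 0) := H10Coh.finite_HH_proper k X _ hC 0
  have hS : (ShortComplex.mk s (cokernel.π s) (cokernel.condition s)).ShortExact :=
    { exact := ShortComplex.exact_cokernel _ }
  have hle : Module.finrank k (Coh.HH X L 0) ≤ Module.finrank k (Coh.HH X (Coh.structureModule X) 0) +
      Module.finrank k (Coh.HH X (cokernel s) 0) := by
    have h1 := LinearMap.finrank_range_add_finrank_ker (Canon.HHlin k (cokernel.π s) 0)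
    have h2 : Module.finrank k (LinearMap.ker (Canon.HHlin k (cokernel.π s) 0)) ≤
        Module.finrank k (Coh.HH X (Coh.structureModule X) 0) := by
      rw [H25Par.hhlin_exact (k := k) (S := ShortComplex.mk s (cokernel.π s) (cokernel.condition s)) hS]
      exact LinearMap.finrank_range_le _
    have h3 : Module.finrank k (LinearMap.range (Canon.HHlin k (cokernel.π s) 0)) ≤
        Module.finrank k (Coh.HH X (cokernel s) 0) := Submodule.finrank_le _
    omega
  refine ⟨?_, ?_, ?_, fun h0 => ?_⟩
  · omega
  · omega
  · rw [euler_eq_sub (k := k) hdim, euler_eq_sub (k := k) hdim] at he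
    omega
  · rw [hdeg] at h0
    haveI : Subsingleton (Coh.HH X (cokernel s) 0) :=
      Module.finrank_zero_iff.1 (by exact_mod_cast h0)
    have hb := H25Par.germs_bijective (k := k) (cokernel s) hfin hcl (fun y hy => not_not.1 hy)
    haveI : Subsingleton (∀ y : CohB1.support (cokernel s), H25Par.Stk k (cokernel s) y.1) :=
      hb.2.subsingleton
    have hemp : ∀ y, y ∉ CohB1.support (cokernel s) := fun y hy => hy (by
      refine subsingleton_of_forall_eq 0 fun v => ?_
      classical
      have h := congrFun (Subsingleton.elim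
        (Function.update (0 : ∀ z : CohB1.support (cokernel s), H25Par.Stk k (cokernel s) z.1) ⟨y, hy⟩ v) 0) ⟨y, hy⟩
      rw [Function.update_self] at h
      exact h)
    have hz : IsZero (cokernel s) := H16Derived.KFlat.Stalk.isZero_of_stalk fun y =>
      (H25Euler.notMem_support_iff _ y).1 (hemp y)
    haveI : Epi s := Preadditive.epi_of_cokernel_zero (hz.eq_of_tgt _ _)
    haveI : IsIso s := isIso_of_mono_of_epi s
    exact ⟨(asIso s).symm⟩

end Groth.Agent.H29RR
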