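import Groth.Agent.H22Alg.GlobalFunctions
import Groth.Agent.H10Coh.Pn.Results
import Groth.Prelude.Def_CurvBase
import Mathlib.FieldTheory.IsAlgClosed.Basic

/-!
# Constants on a proper reduced connected scheme over an algebraically closed field
-/

set_option autoImplicit false
set_option linter.style.haveILetI false
universe u

open CategoryTheory CategoryTheory.Limits AlgebraicGeometry

namespace Groth.Agent.H29RR

theorem finrank_h0_structure (k : Type u) [Field k] [IsAlgClosed k] (X : Scheme.{u})
    [X.Over (Spec (CommRingCat.of k))] [IsProper (X ↘ Spec (CommRingCat.of k))] [IsReduced X] [ConnectedSpace X] :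
    Module.finrank k (Coh.HH X (Coh.structureModule X) 0) = 1 := by
  let f := X ↘ Spec (CommRingCat.of k)
  letI := H22Alg.GlobalFunctions.algΓ f
  haveI := H22Alg.GlobalFunctions.finite_algΓ f
  let e : Coh.HH X (Coh.structureModule X) 0 ≃ₗ[k] Γ(X, ⊤) :=
    { H10Coh.HH0Equiv (Coh.structureModule X) with
      map_smul' := fun c x => (H10Coh.HH0Equiv_smul (Coh.structureModule X)
        (f.appTop ((Scheme.ΓSpecIso (CommRingCat.of k)).inv c)) x).trans rfl }
  rw [e.finrank_eq]
  have hF := H22Alg.GlobalFunctions.isField_of_universallyClosed f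
  letI := hF.toField
  haveI : Algebra.IsIntegral k Γ(X, ⊤) := Algebra.IsIntegral.of_finite k Γ(X, ⊤)
  have hb := IsAlgClosed.algebraMap_bijective_of_isIntegral (k := k) (K := Γ(X, ⊤))
  exact (LinearEquiv.ofBijective (Algebra.linearMap k Γ(X, ⊤)) hb).finrank_eq.symm.trans (Module.finrank_self k)

end Groth.Agent.H29RR
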