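import Groth.Agent.H29RR.GenPoint
import Groth.Agent.H29RR.Consts
import Groth.Agent.H19Grp.GeomConnected
import Groth.Agent.H8Props.FlatDimOneBase
import Groth.Agent.H25Par.CurveLocFree

/-!
# Choosing general points on a smooth proper curve over an algebraically closed field
-/

set_option autoImplicit false
set_option linter.style.haveILetI false
universe u

open CategoryTheory CategoryTheory.Limits AlgebraicGeometry TopologicalSpace Opposite

namespace Groth.Agent.H29RR

attribute [local instance 10000] H10Coh.hasSheafifyAb H10Coh.hasWeakSheafifyAb H10Coh.hasExtAb H10Coh.enoughInjAb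
attribute [local instance] Curv2.resAlgebra

variable {k : Type u} [Field k] {X : Scheme.{u}} [X.Over (Spec (CommRingCat.of k))]
  [IsProper (X ↘ Spec (CommRingCat.of k))] [IsIntegral X]

omit [Field k] [X.Over (Spec (CommRingCat.of k))] [IsProper (X ↘ Spec (CommRingCat.of k))] in
/-- A section which does not vanish generates at the generic point. -/
theorem genericPoint_mem_gen [IsLocallyNoetherian X] {M : X.Modules} (hM : PicF.IsInvertible M) {g : Γ(M, ⊤)} (hg : g ≠ 0) :
    genericPoint X ∈ H11Ample.gen M g := by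
  have hMf := H28Pinch.isFinLocFree_of_isInvertible hM
  have hγ := germ_ne_zero (H16Derived.KFlat.Stalk.isCoh_of_isFinLocFree hMf).1
    (H25Par.isTorsionFree_of_locFree hMf) hg
  refine (H11Ample.mem_gen_iff hM g _).2 ?_
  letI : Field (X.presheaf.stalk (genericPoint X)) := inferInstanceAs (Field X.functionField)
  obtain ⟨hf, hfin, hr⟩ := H25Par.finrank_stalk (rank_one_of_isInvertible hM) (genericPoint X)
  refine ⟨fun a b hab => ?_, fun v => exists_smul_eq_of_finrank_eq_one hr hγ v⟩
  exact sub_eq_zero.1 ((smul_eq_zero.1 (show (a - b) • M.presheaf.germ ⊤ (genericPoint X) trivial g = 0 by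
    rw [sub_smul]; exact sub_eq_zero.2 hab)).resolve_right hγ)

variable [Smooth (X ↘ Spec (CommRingCat.of k))]

include k in
/-- A closed point in a given nonempty open set, with invertible ideal. -/
theorem exists_point (hdim : topologicalKrullDim X = 1) (U : X.Opens) (hU : genericPoint X ∈ U) :
    ∃ x ∈ U, IsClosed ({x} : Set X) ∧ PicF.IsInvertible (ClSub.idealMod (ptIdeal x)) := by
  haveI := isNoetherian_of_proper (k := k) (X := X)
  haveI : JacobsonSpace X := LocallyOfFiniteType.jacobsonSpace (X ↘ Spec (CommRingCat.of k))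
  obtain ⟨x, hxU, hx⟩ := nonempty_inter_closedPoints (Z := (U : Set X)) ⟨_, hU⟩ U.2.isLocallyClosed
  rw [mem_closedPoints_iff] at hx
  haveI := H19Grp.isRegularLocalRing_stalk_of_smooth (X ↘ Spec (CommRingCat.of k)) x
  have hle : ringKrullDim (X.presheaf.stalk x) ≤ 1 :=
    (H8Props.FlatDimOneBase.ringKrullDim_stalk_le X x).trans hdim.le
  haveI := H8Props.FlatDimOneBase.isPrincipalIdealRing_of_dim_le_one _ hle
  refine ⟨x, hxU, hx, isInvertible_ptIdeal hx (IsPrincipalIdealRing.principal _) (le_antisymm hle ?_)⟩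
  obtain ⟨d, hd⟩ := H4Depth.exists_nat_ringKrullDim_eq (R := X.presheaf.stalk x)
  rcases Nat.eq_zero_or_pos d with rfl | hpos
  · exfalso
    have hgen := (H12AlgSp.ringKrullDim_stalk_eq_zero_iff x).1 (by rw [hd]; rfl)
    have h1 : genericPoint X = x := (H8Props.mem_genericPoints_iff.1 hgen) _ (genericPoint_specializes x)
    haveI : Subsingleton X := ⟨fun a b => by
      have key : ∀ c : X, c = x := fun c => by
        have hc : c ∈ closure ({genericPoint X} : Set X) := (genericPoint_specializes c).mem_closure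
        rw [h1, hx.closure_eq] at hc
        exact hc
      rw [key a, key b]⟩
    have := topologicalKrullDim_zero_of_discreteTopology X
    rw [hdim] at this
    exact not_le.2 zero_lt_one this
  · rw [hd]; exact_mod_cast hpos

variable [IsAlgClosed k]

/-- Removing a general point. -/
theorem exists_sub_point (hdim : topologicalKrullDim X = 1) {L : X.Modules} (hL : PicF.IsInvertible L)
    (h : 0 < Module.finrank k (Coh.HH X L 0)) :
    ∃ L' : X.Modules, PicF.IsInvertible L' ∧ Curv2.deg k X L' 1 = Curv2.deg k X L 1 - 1 ∧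
      Module.finrank k (Coh.HH X L' 0) + 1 = Module.finrank k (Coh.HH X L 0) := by
  haveI := isNoetherian_of_proper (k := k) (X := X)
  haveI : Nontrivial (Coh.HH X L 0) := Module.nontrivial_of_finrank_pos h
  obtain ⟨g, hg⟩ := exists_global_ne_zero L inferInstance
  obtain ⟨x, hxg, hx, hI⟩ := exists_point (k := k) hdim _ (genericPoint_mem_gen hL hg)
  have hIc := H16Derived.KFlat.Stalk.isCoh_of_isFinLocFree (H28Pinch.isFinLocFree_of_isInvertible hI)
  obtain ⟨-, -, he⟩ := twist_point (k := k) hx hL hIc
  rw [finrank_residue_eq_one (k := k) hx] at he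
  refine ⟨_, H11Ample.isInvertible_tensor hI hL, ?_,
    (h0_add_one_iff (k := k) hx (finrank_residue_eq_one (k := k) hx) hL hIc).2 ⟨g, hxg⟩⟩
  simp only [deg_def]
  omega

/-- A point whose addition does not increase `h⁰` exists as long as `h¹` is nonzero. -/
theorem exists_add_point_h0_eq (hdim : topologicalKrullDim X = 1) {L : X.Modules} (hL : PicF.IsInvertible L)
    (h : Nontrivial (Coh.HH X L 1)) :
    ∃ L' : X.Modules, PicF.IsInvertible L' ∧ Curv2.deg k X L' 1 = Curv2.deg k X L 1 + 1 ∧
      Module.finrank k (Coh.HH X L' 0) = Module.finrank k (Coh.HH X L 0) := by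
  haveI := isNoetherian_of_proper (k := k) (X := X)
  by_contra hno
  push Not at hno
  let O := Coh.structureModule X
  have hO : PicF.IsInvertible O := H11Ample.isInvertible_structureModule (X := X)
  have h00 := finrank_h0_structure k X
  have step : ∀ n : ℕ, ∃ (D : X.Modules) (t : Γ(D, ⊤)), PicF.IsInvertible D ∧ t ≠ 0 ∧
      Curv2.deg k X (CohB1.tensorMod L D) 1 = Curv2.deg k X L 1 + n ∧
      Module.finrank k (Coh.HH X (CohB1.tensorMod L D) 0) = Module.finrank k (Coh.HH X L 0) + n := by
    intro n
    induction n with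
    | zero =>
      haveI : Nontrivial (Coh.HH X O 0) := Module.nontrivial_of_finrank_pos (R := k) (by rw [h00]; exact one_pos)
      obtain ⟨t, ht⟩ := exists_global_ne_zero O inferInstance
      refine ⟨O, t, hO, ht, ?_, ?_⟩
      · rw [deg_congr (k := k) (H10Coh.Tw.rightUnitIso L), Nat.cast_zero, add_zero]
      · exact (hhIso (k := k) (H10Coh.Tw.rightUnitIso L) 0).finrank_eq
    | succ n ih =>
      obtain ⟨D, t, hD, ht, hdeg, hh⟩ := ih
      have hLD := H11Ample.isInvertible_tensor hL hD
      obtain ⟨x, hxt, hx, hI⟩ := exists_point (k := k) hdim _ (genericPoint_mem_gen hD ht)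
      have hIc := H16Derived.KFlat.Stalk.isCoh_of_isFinLocFree (H28Pinch.isFinLocFree_of_isInvertible hI)
      have hx1 := finrank_residue_eq_one (k := k) hx
      -- the module of the point
      obtain ⟨N, hN, ⟨eN⟩, hNdeg, hN0, -⟩ := exists_add_point (k := k) hx hI hO
      rw [hx1, deg_structureModule] at hNdeg
      haveI : Nontrivial (Coh.HH X N 0) := Module.nontrivial_of_finrank_pos (R := k) (by rw [h00] at hN0; omega)
      obtain ⟨s, hs⟩ := exists_global_ne_zero N inferInstance
      -- adding the point to L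
      obtain ⟨L₁, hL₁, ⟨e₁⟩, hL₁deg, hL₁0, hL₁1⟩ := exists_add_point (k := k) hx hI hL
      rw [hx1] at hL₁deg hL₁1
      have hne := hno L₁ hL₁ hL₁deg
      obtain ⟨g, hg⟩ := (h0_add_one_iff (k := k) hx hx1 hL₁ hIc).1 (by
        rw [← (hhIso (k := k) e₁ 0).finrank_eq]; omega)
      -- the new divisor
      have hD' := H11Ample.isInvertible_tensor hN hD
      have hst : (H11Ample.tm s t : Γ(CohB1.tensorMod N D, ⊤)) ≠ 0 := fun h0 => by
        have hmem : genericPoint X ∈ H11Ample.gen (CohB1.tensorMod N D) (H11Ample.tm s t) := by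
          rw [H11Ample.gen_tm hN hD]
          exact ⟨genericPoint_mem_gen hN hs, genericPoint_mem_gen hD ht⟩
        have hb := (H11Ample.mem_gen_iff hD' _ _).1 hmem
        rw [h0, map_zero] at hb
        exact one_ne_zero (hb.1 (a₁ := (1 : X.presheaf.stalk (genericPoint X))) (a₂ := 0)
          ((smul_zero _).trans (smul_zero _).symm))
      refine ⟨CohB1.tensorMod N D, H11Ample.tm s t, hD', hst, ?_, ?_⟩
      · rw [deg_tensor (k := k) hdim.le hL hD'] 
        rw [deg_tensor (k := k) hdim.le hN hD]
        rw [deg_tensor (k := k) hdim.le hL hD] at hdeg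
        push_cast
        omega
      · have hG := H11Ample.isInvertible_tensor hL₁ hD
        -- L₁ ≅ L ⊗ N
        let eIN : CohB1.tensorMod (ClSub.idealMod (ptIdeal x)) N ≅ O := eN.symm
        let eLN : L₁ ≅ CohB1.tensorMod L N :=
          (H10Coh.Tw.leftUnitIso L₁).symm ≪≫
            PicGrp.tensorModIso (eN ≪≫ H10Coh.Tw.commIso _ _) (Iso.refl L₁) ≪≫ H10Coh.Tw.assoc N _ L₁ ≪≫
            PicGrp.tensorModIso (Iso.refl N) e₁.symm ≪≫ H10Coh.Tw.commIso _ _
        have hiff := (h0_add_one_iff (k := k) hx hx1 hG hIc).2 ⟨H11Ample.tm g t, by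
          rw [H11Ample.gen_tm hL₁ hD]; exact ⟨hg, hxt⟩⟩
        have eA : CohB1.tensorMod (ClSub.idealMod (ptIdeal x)) (CohB1.tensorMod L₁ D) ≅ CohB1.tensorMod L D :=
          (H10Coh.Tw.assoc _ L₁ D).symm ≪≫ PicGrp.tensorModIso e₁.symm (Iso.refl D)
        have eB : CohB1.tensorMod L₁ D ≅ CohB1.tensorMod L (CohB1.tensorMod N D) :=
          PicGrp.tensorModIso eLN (Iso.refl D) ≪≫ H10Coh.Tw.assoc L N D
        rw [(hhIso (k := k) eA 0).finrank_eq, (hhIso (k := k) eB 0).finrank_eq] at hiff
        omega
  haveI := finite_HH (k := k) L hL 1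
  have hpos := Module.finrank_pos (R := k) (M := Coh.HH X L 1)
  obtain ⟨n, hn⟩ : ∃ n : ℕ, 2 * (Curv2.genus k X : ℤ) - 1 - Curv2.deg k X L 1 ≤ n :=
    ⟨_, Int.self_le_toNat _⟩
  obtain ⟨D, t, hD, -, hdeg, hh⟩ := step n
  have hLD := H11Ample.isInvertible_tensor hL hD
  haveI := h1_vanish_of_deg (k := k) hdim.le h00 hLD (by omega)
  have r1 := riemann_roch (k := k) hdim.le (CohB1.tensorMod L D)
  have r2 := riemann_roch (k := k) hdim.le L
  rw [Module.finrank_zero_of_subsingleton (M := Coh.HH X (CohB1.tensorMod L D) 1)] at r1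
  omega

end Groth.Agent.H29RR

namespace Groth.Agent.H29RR

attribute [local instance 10000] H10Coh.hasSheafifyAb H10Coh.hasWeakSheafifyAb H10Coh.hasExtAb H10Coh.enoughInjAb

variable {k : Type u} [Field k] {X : Scheme.{u}} [X.Over (Spec (CommRingCat.of k))]
  [IsProper (X ↘ Spec (CommRingCat.of k))] [IsIntegral X] [Smooth (X ↘ Spec (CommRingCat.of k))] [IsAlgClosed k]

/-- General effective divisors of degree at most the genus move in no pencil. -/
theorem exists_deg_h0_eq_one (hdim : topologicalKrullDim X = 1) (r : ℕ) (hr : r ≤ Curv2.genus k X) :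
    ∃ L : X.Modules, PicF.IsInvertible L ∧ Curv2.deg k X L 1 = (r : ℤ) ∧
      Module.finrank k (Coh.HH X L 0) = 1 := by
  haveI := isNoetherian_of_proper (k := k) (X := X)
  induction r with
  | zero =>
    exact ⟨Coh.structureModule X, H11Ample.isInvertible_structureModule, by rw [deg_structureModule]; rfl,
      finrank_h0_structure k X⟩
  | succ r ih =>
    obtain ⟨L, hL, hd, h0⟩ := ih (by omega)
    have hrr := riemann_roch (k := k) hdim.le L
    rw [finrank_h0_structure k X, h0, hd] at hrr
    obtain ⟨L', hL', hd', h0'⟩ := exists_add_point_h0_eq (k := k) hdim hL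
      (Module.nontrivial_of_finrank_pos (R := k) (by omega))
    exact ⟨L', hL', by rw [hd', hd]; push_cast; rfl, h0'.trans h0⟩

/-- An invertible module of degree `g - 1` without cohomology. -/
theorem exists_deg_genus_sub_one (hdim : topologicalKrullDim X = 1) :
    ∃ L : X.Modules, PicF.IsInvertible L ∧ Curv2.deg k X L 1 = (Curv2.genus k X : ℤ) - 1 ∧
      Subsingleton (Coh.HH X L 0) ∧ Subsingleton (Coh.HH X L 1) := by
  haveI := isNoetherian_of_proper (k := k) (X := X)
  obtain ⟨L, hL, hd, h0⟩ := exists_deg_h0_eq_one (k := k) hdim _ le_rfl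
  obtain ⟨L', hL', hd', h0'⟩ := exists_sub_point (k := k) hdim hL (by omega)
  haveI := finite_HH (k := k) L' hL' 0
  haveI := finite_HH (k := k) L' hL' 1
  have hrr := riemann_roch (k := k) hdim.le L'
  rw [finrank_h0_structure k X, hd', hd] at hrr
  exact ⟨L', hL', by rw [hd', hd], (Module.finrank_zero_iff (R := k)).1 (by omega),
    (Module.finrank_zero_iff (R := k)).1 (by omega)⟩

end Groth.Agent.H29RR
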