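import Groth.Agent.H29RR.Twist
import Groth.Agent.H10Coh.SerreVanishing
import Groth.Agent.H25Par.TwistSeq
import Groth.Agent.H29RR.Choice

/-!
# Tensoring with an invertible module is an equivalence; splitting and degree existence
-/

set_option autoImplicit false
set_option linter.style.haveILetI false
universe u

open CategoryTheory CategoryTheory.Limits AlgebraicGeometry Opposite TopologicalSpace

namespace Groth.Agent.H29RR

attribute [local instance 10000] H10Coh.hasSheafifyAb H10Coh.hasWeakSheafifyAb H10Coh.hasExtAb H10Coh.enoughInjAb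

variable {X : Scheme.{u}}

/-- Tensoring on the right. -/
noncomputable abbrev twist (M : X.Modules) : X.Modules ⥤ X.Modules := (DCoh.tensorBi (X := X)).flip.obj M

theorem twist_unit_natural {F G : X.Modules} (f : F ⟶ G) :
    (twist (Coh.structureModule X)).map f ≫ (SecTwist.unitorR G).hom = (SecTwist.unitorR F).hom ≫ f := by
  refine Eq.trans ?_ (H25Par.unitorR_natural f)
  refine congrArg (· ≫ (SecTwist.unitorR G).hom) ?_
  exact ((congrArg (((DCoh.tensorBi (X := X)).map f).app _ ≫ ·)
    (((DCoh.tensorBi (X := X)).obj G).map_id _)).trans (Category.comp_id _)).symm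

theorem twist_assoc_natural {F G : X.Modules} (f : F ⟶ G) (M N : X.Modules) :
    (twist N).map ((twist M).map f) ≫ (H10Coh.Tw.assoc G M N).hom =
      (H10Coh.Tw.assoc F M N).hom ≫ (twist (CohB1.tensorMod M N)).map f :=
  congr_app (congr_app ((H15Site.ModTensor.tAssoc (O := X.sheaf)).hom.naturality f) M) N

theorem twist_right_natural {F G : X.Modules} (f : F ⟶ G) {A B : X.Modules} (e : A ⟶ B) :
    (twist A).map f ≫ ((DCoh.tensorBi (X := X)).obj G).map e =
      ((DCoh.tensorBi (X := X)).obj F).map e ≫ (twist B).map f :=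
  (((DCoh.tensorBi (X := X)).map f).naturality e).symm

/-- An inverse pair gives natural isomorphisms `(F ⊗ M) ⊗ N ≅ F`. -/
noncomputable def twistInv {M N : X.Modules} (e : CohB1.tensorMod M N ≅ Coh.structureModule X) :
    twist M ⋙ twist N ≅ 𝟭 X.Modules :=
  NatIso.ofComponents (fun F => H10Coh.Tw.assoc F M N ≪≫ ((DCoh.tensorBi (X := X)).obj F).mapIso e ≪≫
      SecTwist.unitorR F) fun {F G} f =>
    ((Category.assoc _ _ _).symm.trans
      ((congrArg (· ≫ (((DCoh.tensorBi (X := X)).obj G).map e.hom ≫ (SecTwist.unitorR G).hom))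
          (twist_assoc_natural f M N)).trans ((Category.assoc _ _ _).trans
        ((congrArg ((H10Coh.Tw.assoc F M N).hom ≫ ·) ((Category.assoc _ _ _).symm.trans
          ((congrArg (· ≫ (SecTwist.unitorR G).hom) (twist_right_natural f e.hom)).trans
            ((Category.assoc _ _ _).trans
              ((congrArg (((DCoh.tensorBi (X := X)).obj F).map e.hom ≫ ·) (twist_unit_natural f)).trans
                (Category.assoc _ _ _).symm))))).trans (Category.assoc _ _ _).symm))))

theorem exists_inverse_comm {M : X.Modules} (hM : PicF.IsInvertible M) :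
    ∃ N : X.Modules, PicF.IsInvertible N ∧ Nonempty (CohB1.tensorMod M N ≅ Coh.structureModule X) := by
  obtain ⟨N, hN, ⟨e⟩⟩ := H11Sym.exists_inverse hM
  exact ⟨N, hN, ⟨H10Coh.Tw.commIso M N ≪≫ e⟩⟩

/-- Twisting by an invertible module reflects zero morphisms. -/
theorem twist_map_eq_zero {M : X.Modules} (hM : PicF.IsInvertible M) {F G : X.Modules} {f : F ⟶ G}
    (h : (twist M).map f = 0) : f = 0 := by
  obtain ⟨N, -, ⟨e⟩⟩ := exists_inverse_comm hM
  have hn := (twistInv e).hom.naturality f
  change (twist N).map ((twist M).map f) ≫ _ = _ ≫ f at hn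
  rw [h, Functor.map_zero, zero_comp, eq_comm] at hn
  exact (cancel_epi ((twistInv e).hom.app F)).1 (hn.trans comp_zero.symm)

/-- Twisting by an invertible module reflects split epimorphisms. -/
theorem isSplitEpi_of_twist {M : X.Modules} (hM : PicF.IsInvertible M) {F G : X.Modules} {f : F ⟶ G}
    (h : IsSplitEpi ((twist M).map f)) : IsSplitEpi f := by
  obtain ⟨N, -, ⟨e⟩⟩ := exists_inverse_comm hM
  obtain ⟨⟨⟨σ, hσ⟩⟩⟩ := h
  refine IsSplitEpi.mk' ⟨(twistInv e).inv.app G ≫ (twist N).map σ ≫ (twistInv e).hom.app F, ?_⟩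
  have hn := (twistInv e).hom.naturality f
  change (twist N).map ((twist M).map f) ≫ (twistInv e).hom.app G = _ ≫ f at hn
  rw [Category.assoc, Category.assoc, ← hn, ← Category.assoc ((twist N).map σ), ← Functor.map_comp, hσ,
    CategoryTheory.Functor.map_id, Category.id_comp]
  exact (twistInv e).inv_hom_id_app G

variable {k : Type u} [Field k] [X.Over (Spec (CommRingCat.of k))]

include k in

/-- An extension of an invertible module by a module without twisted first cohomology splits. -/
theorem isSplitEpi_of_h1 {S : ShortComplex X.Modules} (hS : S.ShortExact) {L' : X.Modules}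
    (hL' : PicF.IsInvertible L') (e : CohB1.tensorMod S.X₃ L' ≅ Coh.structureModule X)
    (h1 : Subsingleton (Coh.HH X (CohB1.tensorMod S.X₁ L') 1)) : IsSplitEpi S.g := by
  refine isSplitEpi_of_twist hL' ?_
  have hS' := H16Derived.KFlat.Stalk.isFlatObj_of_isFlat
    (H16Derived.KFlat.Stalk.isFlat_of_isFinLocFree (H28Pinch.isFinLocFree_of_isInvertible hL')) _ hS
  have hsurj := H25Par.hhlin_surjective (k := k) hS' h1
  obtain ⟨t, ht⟩ := hsurj ((sec _).symm (e.inv.app ⊤ (1 : Γ(X, ⊤))))
  let a := (sec _) t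
  have ha : ((twist L').map S.g).app ⊤ a = e.inv.app ⊤ (1 : Γ(X, ⊤)) := by
    exact (sec_natural (k := k) _ t).symm.trans ((congrArg (sec _) ht).trans (AddEquiv.apply_symm_apply _ _))
  let σ : Coh.structureModule X ⟶ (twist L').obj S.X₂ := H11Tilde.homOfGlobal _ a
  have hσ : σ ≫ (twist L').map S.g = e.inv := by
    refine Scheme.Modules.hom_ext _ _ fun V => ?_
    ext r
    show ((twist L').map S.g).app V (σ.app V r) = e.inv.app V r
    rw [H11Tilde.homOfGlobal_app, Scheme.Modules.Hom.app_smul, H11Tilde.app_map_apply, ha]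
    refine (congrArg ((show Γ(X, V) from r) • ·)
      (H11Tilde.app_map_apply e.inv (le_top : V ≤ ⊤) (1 : Γ(X, ⊤))).symm).trans ?_
    refine (Scheme.Modules.Hom.app_smul e.inv _ _).symm.trans ?_
    refine congrArg (e.inv.app V) ?_
    show (show Γ(X, V) from r) * X.presheaf.map (homOfLE (le_top : V ≤ ⊤)).op (1 : Γ(X, ⊤)) = r
    rw [map_one, mul_one]
  exact IsSplitEpi.mk' ⟨e.hom ≫ σ, by rw [Category.assoc, hσ, Iso.hom_inv_id]⟩

/-- Nonzero sections of a twist give nonzero maps from the inverse. -/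
theorem exists_hom_of_section {E M N : X.Modules} (hN : PicF.IsInvertible N)
    (e : CohB1.tensorMod M N ≅ Coh.structureModule X) (h : Nontrivial (Coh.HH X (CohB1.tensorMod E M) 0)) :
    ∃ φ : N ⟶ E, φ ≠ 0 := by
  obtain ⟨g, hg⟩ := exists_global_ne_zero _ h
  let s : Coh.structureModule X ⟶ CohB1.tensorMod E M := H11Tilde.homOfGlobal _ g
  have hs : s ≠ 0 := fun h0 => hg (by
    have h := congrArg (fun φ : Coh.structureModule X ⟶ CohB1.tensorMod E M => φ.app ⊤ (1 : Γ(X, ⊤))) h0
    simpa [s, H11Tilde.homOfGlobal_app] using h)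
  refine ⟨(H10Coh.Tw.leftUnitIso N).inv ≫ (twist N).map s ≫ (twistInv e).hom.app E, fun h0 => hs ?_⟩
  refine twist_map_eq_zero hN ?_
  refine (cancel_mono ((twistInv e).hom.app E)).1 (Eq.trans ?_ zero_comp.symm)
  refine (cancel_epi (H10Coh.Tw.leftUnitIso N).inv).1 ?_
  exact h0.trans comp_zero.symm

/-- Invertible modules of every degree exist. -/
theorem exists_deg [IsIntegral X] [IsAlgClosed k] [IsProper (X ↘ Spec (CommRingCat.of k))]
    [Smooth (X ↘ Spec (CommRingCat.of k))] (hdim : topologicalKrullDim X = 1) (d : ℤ) :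
    ∃ M : X.Modules, PicF.IsInvertible M ∧ Curv2.deg k X M 1 = d := by
  haveI := isNoetherian_of_proper (k := k) (X := X)
  obtain ⟨x, -, hx, hI⟩ := exists_point (k := k) hdim ⊤ trivial
  have hpow : ∀ (P : X.Modules), PicF.IsInvertible P → ∀ n : ℕ,
      ∃ M : X.Modules, PicF.IsInvertible M ∧ Curv2.deg k X M 1 = (n : ℤ) * Curv2.deg k X P 1 := by
    intro P hP n
    induction n with
    | zero => exact ⟨_, H11Ample.isInvertible_structureModule, by rw [deg_structureModule]; simp⟩
    | succ n ih =>
      obtain ⟨M, hM, hd⟩ := ih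
      refine ⟨_, H11Ample.isInvertible_tensor hM hP, ?_⟩
      rw [deg_tensor (k := k) hdim.le hM hP, hd]
      push_cast; ring
  have h1 := finrank_residue_eq_one (k := k) hx
  obtain ⟨L', hL', -, hd', -, -⟩ := exists_add_point (k := k) hx hI (H11Ample.isInvertible_structureModule (X := X))
  rw [deg_structureModule, h1] at hd'
  obtain ⟨N, hN, ⟨eN⟩⟩ := exists_inverse_comm hL'
  have hdN := deg_tensor (k := k) hdim.le hL' hN
  rw [deg_congr (k := k) eN, deg_structureModule, hd'] at hdN
  rcases d.eq_nat_or_neg with ⟨n, rfl | rfl⟩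
  · obtain ⟨M, hM, hd⟩ := hpow L' hL' n
    exact ⟨M, hM, by rw [hd, hd']; simp⟩
  · obtain ⟨M, hM, hd⟩ := hpow N hN n
    refine ⟨M, hM, ?_⟩
    rw [hd, show Curv2.deg k X N 1 = -1 by push_cast at hdN; omega]
    simp

end Groth.Agent.H29RR
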