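import Groth.Agent.H10Coh.Pn.Results
import Groth.Agent.H10Coh.Stab.TwistInt

/-!
# Uniqueness of the degree of a twisting sheaf
-/

set_option autoImplicit false
universe u

open CategoryTheory CategoryTheory.Limits AlgebraicGeometry TopologicalSpace Opposite

namespace Groth.Agent.H29RR.PnPic

variable {n : ℕ} {R : Type u} [CommRing R]

theorem subsingleton_neg (hn : n ≠ 0) {d : ℤ} (hd : d < 0) :
    Subsingleton Γ(Twist.twistProjSpace n R d, ⊤) :=
  H10Coh.Pn.subsingleton_sections_of_neg hn hd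

theorem nontrivial_structure [Nontrivial R] :
    Nontrivial Γ(Coh.structureModule (CohB1.ProjSpace n R), ⊤) :=
  (H10Coh.Pn.bijective_constΓ (n := n) (R := R)).1.nontrivial

theorem le_of_iso_zero [Nontrivial R] (hn : n ≠ 0) {d : ℤ}
    (e : Twist.twistProjSpace n R d ≅ Coh.structureModule (CohB1.ProjSpace n R)) : 0 ≤ d := by
  by_contra hd
  haveI := subsingleton_neg (R := R) hn (not_le.1 hd)
  haveI : Subsingleton Γ(Coh.structureModule (CohB1.ProjSpace n R), ⊤) := ⟨fun a b => by
    have ha : ∀ c, e.hom.app ⊤ (e.inv.app ⊤ c) = c := fun c => by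
      show (e.inv ≫ e.hom).app ⊤ c = c
      rw [e.inv_hom_id]
      rfl
    rw [← ha a, ← ha b, Subsingleton.elim (e.inv.app ⊤ a) (e.inv.app ⊤ b)]⟩
  haveI := nontrivial_structure (n := n) (R := R)
  exact false_of_nontrivial_of_subsingleton Γ(Coh.structureModule (CohB1.ProjSpace n R), ⊤)

/-- The degree of a twisting sheaf is determined by its isomorphism class. -/
theorem twist_inj [Nontrivial R] (hn : n ≠ 0) {a b : ℤ}
    (e : Twist.twistProjSpace n R a ≅ Twist.twistProjSpace n R b) : a = b := by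
  have h := H10Coh.Stab.isTwistFamily_projSpace n R
  have key : ∀ {a b : ℤ}, (Twist.twistProjSpace n R a ≅ Twist.twistProjSpace n R b) → b ≤ a := fun {a b} e => by
    obtain ⟨e1⟩ := h.add a (-b)
    obtain ⟨e2⟩ := h.add b (-b)
    obtain ⟨e3⟩ := h.zero
    have := le_of_iso_zero hn (e1.symm ≪≫ PicGrp.tensorModIso e (Iso.refl _) ≪≫ e2 ≪≫
      eqToIso (congrArg _ (add_neg_cancel b)) ≪≫ e3)
    omega
  exact le_antisymm (key e.symm) (key e)

end Groth.Agent.H29RR.PnPic
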