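import Groth.Agent.H29RR.Pencil
import Groth.Agent.H10Coh.TensorTilde
import Groth.Agent.H8Props.FunDescent.GenericLimit

/-!
# Euler characteristics of twists by vector bundles on integral curves
-/

set_option autoImplicit false
set_option linter.style.haveILetI false
set_option maxHeartbeats 800000
universe u

open CategoryTheory CategoryTheory.Limits AlgebraicGeometry Opposite TopologicalSpace

namespace Groth.Agent.H29RR

attribute [local instance 10000] H10Coh.hasSheafifyAb H10Coh.hasWeakSheafifyAb H10Coh.hasExtAb H10Coh.enoughInjAb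

variable {k : Type u} [Field k] {X : Scheme.{u}} [X.Over (Spec (CommRingCat.of k))]

/-- The Euler characteristic of an object decomposed into `r` copies of another one. -/
theorem euler_of_decomposition {A G : X.Modules} {r : ℕ} (ι : Fin r → (A ⟶ G)) (π : Fin r → (G ⟶ A))
    (hself : ∀ i, ι i ≫ π i = 𝟙 A) (hne : ∀ i j, i ≠ j → ι i ≫ π j = 0) (htot : ∑ i, π i ≫ ι i = 𝟙 G) :
    Curv2.euler k X G = r * Curv2.euler k X A := by
  have hn : ∀ n, Module.finrank k (Coh.HH X G n) = r * Module.finrank k (Coh.HH X A n) := by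
    intro n
    let toA : Coh.HH X G n →ₗ[k] (Fin r → Coh.HH X A n) := LinearMap.pi fun i => Canon.HHlin k (π i) n
    have hb : Function.Bijective toA := by
      constructor
      · rw [injective_iff_map_eq_zero]
        intro x hx
        rw [← hhlin_id (k := k) G n x, ← htot, hhlin_sum]
        refine Finset.sum_eq_zero fun i _ => ?_
        rw [hhlin_comp, show Canon.HHlin k (π i) n x = 0 from congrFun hx i, map_zero]
      · intro y
        refine ⟨∑ i, Canon.HHlin k (ι i) n (y i), funext fun j => ?_⟩
        show Canon.HHlin k (π j) n (∑ i, Canon.HHlin k (ι i) n (y i)) = y j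
        rw [map_sum, Finset.sum_eq_single j]
        · rw [← hhlin_comp, hself, hhlin_id]
        · intro i _ hij
          rw [← hhlin_comp, hne i j hij, hhlin_zero]
        · intro h; exact absurd (Finset.mem_univ j) h
    rw [(LinearEquiv.ofBijective toA hb).finrank_eq]
    by_cases hfin : Module.Finite k (Coh.HH X A n)
    · rw [Module.finrank_pi_fintype, Finset.sum_const, Finset.card_univ, Fintype.card_fin, smul_eq_mul]
    · rw [Module.finrank_of_not_finite hfin, mul_zero]
      rcases Nat.eq_zero_or_pos r with h0 | h0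
      · subst h0
        exact Module.finrank_zero_of_subsingleton
      · refine Module.finrank_of_not_finite fun h => hfin ?_
        exact Module.Finite.of_surjective (LinearMap.proj (⟨0, h0⟩ : Fin r) : (Fin r → Coh.HH X A n) →ₗ[k] _)
          (LinearMap.proj_surjective _)
  unfold Curv2.euler
  rw [mul_finsum]
  exact finsum_congr fun n => by rw [hn]; push_cast; ring

variable [IsProper (X ↘ Spec (CommRingCat.of k))]

/-- The tensor product of a module with finite support and a bundle. -/
theorem finrank_h0_tensor_bundle {Q E : X.Modules} {n : ℕ} (hE : FlatMod.IsFinLocFreeOfRank n E)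
    (hfin : (CohB1.support Q).Finite) (hcl : ∀ z ∈ CohB1.support Q, IsClosed ({z} : Set X))
    (hQf : Module.Finite k (Coh.HH X Q 0)) :
    Module.finrank k (Coh.HH X (CohB1.tensorMod Q E) 0) = n * Module.finrank k (Coh.HH X Q 0) := by
  haveI := isNoetherian_of_proper (k := k) (X := X)
  have hQ : ∀ y, y ∉ CohB1.support Q → Subsingleton (Q.presheaf.stalk y) := fun y hy => not_not.1 hy
  have hT : ∀ y, y ∉ CohB1.support Q → Subsingleton ((CohB1.tensorMod Q E).presheaf.stalk y) := fun y hy =>
    not_not.1 fun h => hy (H25Euler.support_tensor_subset Q E h)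
  have e : ∀ y : CohB1.support Q, H25Par.Stk k (CohB1.tensorMod Q E) y.1 ≃ₗ[k]
      (Fin n → H25Par.Stk k Q y.1) := fun y => by
    obtain ⟨hf, hfn, hr⟩ := H25Par.finrank_stalk hE y.1
    haveI := hf
    haveI := hfn
    let b := Module.finBasisOfFinrankEq (X.presheaf.stalk y.1) (E.presheaf.stalk y.1) hr
    let e₁ := (H16Derived.KFlat.Stalk.stalkEquiv Q E y.1).symm ≪≫ₗ
      TensorProduct.congr (LinearEquiv.refl _ _) b.equivFun ≪≫ₗ
      TensorProduct.piScalarRight (X.presheaf.stalk y.1) (X.presheaf.stalk y.1) (Q.presheaf.stalk y.1) (Fin n)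
    exact { e₁ with map_smul' := fun a x => e₁.map_smul (H25Par.constStalk (k := k) y.1 a) x }
  let eQ := LinearEquiv.ofBijective _ (H25Par.germs_bijective (k := k) _ hfin hcl hQ)
  haveI : Module.Finite k (∀ y : CohB1.support Q, H25Par.Stk k Q y.1) := Module.Finite.equiv eQ
  rw [LinearEquiv.finrank_eq (LinearEquiv.ofBijective _ (H25Par.germs_bijective (k := k) _ hfin hcl hT) ≪≫ₗ
    LinearEquiv.piCongrRight e), eQ.finrank_eq]
  haveI : Fintype (CohB1.support Q) := hfin.fintype
  haveI : ∀ y : CohB1.support Q, Module.Finite k (H25Par.Stk k Q y.1) := fun y =>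
    Module.Finite.of_surjective (LinearMap.proj y : (∀ z : CohB1.support Q, H25Par.Stk k Q z.1) →ₗ[k] _)
      (LinearMap.proj_surjective _)
  simp only [Module.finrank_pi_fintype, Finset.sum_const, Finset.card_univ, Fintype.card_fin, smul_eq_mul,
    Finset.mul_sum]

variable [IsIntegral X]

/-- The defect of multiplicativity of the Euler characteristic. -/
noncomputable def defect (k : Type u) [Field k] [X.Over (Spec (CommRingCat.of k))] (E : X.Modules) (n : ℕ)
    (F : X.Modules) : ℤ :=
  Curv2.euler k X (CohB1.tensorMod F E) - n * Curv2.euler k X F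

variable {E : X.Modules} {n : ℕ} (hE : FlatMod.IsFinLocFreeOfRank n E)

include hE in
omit [IsIntegral X] in
theorem defect_add {S : ShortComplex X.Modules} (hS : S.ShortExact) (h₁ : Coh.IsCoh S.X₁) (h₂ : Coh.IsCoh S.X₂)
    (h₃ : Coh.IsCoh S.X₃) : defect k E n S.X₂ = defect k E n S.X₁ + defect k E n S.X₃ := by
  haveI := isNoetherian_of_proper (k := k) (X := X)
  have hEf : FlatMod.IsFinLocFree E := fun y => let ⟨U, hU⟩ := hE y; ⟨U, n, hU⟩
  have hEc := H16Derived.KFlat.Stalk.isCoh_of_isFinLocFree hEf
  let T := (DCoh.tensorBi (X := X)).flip.obj E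
  have hS' : (S.map T).ShortExact := H16Derived.KFlat.Stalk.isFlatObj_of_isFlat
    (H16Derived.KFlat.Stalk.isFlat_of_isFinLocFree hEf) S hS
  have h := H25Euler.euler_add (k := k) (S := S.map T) hS'
    (show Coh.IsCoh (T.obj S.X₁) from H10Coh.TT.isCoh_tensorMod h₁ hEc)
    (show Coh.IsCoh (T.obj S.X₂) from H10Coh.TT.isCoh_tensorMod h₂ hEc)
    (show Coh.IsCoh (T.obj S.X₃) from H10Coh.TT.isCoh_tensorMod h₃ hEc)
  have h' := H25Euler.euler_add (k := k) hS h₁ h₂ h₃
  change Curv2.euler k X (CohB1.tensorMod S.X₂ E) = Curv2.euler k X (CohB1.tensorMod S.X₁ E) +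
    Curv2.euler k X (CohB1.tensorMod S.X₃ E) at h
  rw [defect, defect, defect, h, h']
  ring

include hE in
theorem defect_eq_zero_of_small (hdim : topologicalKrullDim X ≤ 1) {Q : X.Modules} (hQ : Coh.IsCoh Q)
    (hη : genericPoint X ∉ CohB1.support Q) : defect k E n Q = 0 := by
  haveI := isNoetherian_of_proper (k := k) (X := X)
  obtain ⟨hfin, hcl⟩ := H25Par.finite_of_isClosed_of_notMem hdim (H10Coh.isClosed_support _ hQ.2) hη
  have hv : ∀ p, 1 ≤ p → Subsingleton (Coh.HH X Q p) := fun p hp =>
    H25Par.subsingleton_HH_of_finite_support _ hfin hcl (fun y hy => not_not.1 hy) hp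
  have hv' : ∀ p, 1 ≤ p → Subsingleton (Coh.HH X (CohB1.tensorMod Q E) p) := fun p hp =>
    H25Par.subsingleton_HH_of_finite_support _ hfin hcl
      (fun y hy => not_not.1 fun h => hy (H25Euler.support_tensor_subset Q E h)) hp
  rw [defect, H25Euler.euler_eq_sum _ 1 hv, H25Euler.euler_eq_sum _ 1 hv', Finset.sum_range_one, Finset.sum_range_one,
    pow_zero, one_mul, one_mul, finrank_h0_tensor_bundle (k := k) hE hfin hcl (H10Coh.finite_HH_proper k X _ hQ 0)]
  push_cast
  ring

include hE in
theorem defect_eq_of_isIso_generic (hdim : topologicalKrullDim X ≤ 1) {F G : X.Modules} (hF : Coh.IsCoh F)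
    (hG : Coh.IsCoh G) (φ : F ⟶ G) (hφ : IsIso ((DerSch.stalkFunctor X (genericPoint X)).map φ)) :
    defect k E n F = defect k E n G := by
  haveI := isNoetherian_of_proper (k := k) (X := X)
  obtain ⟨hk, hc⟩ := H25Euler.notMem_support_kernel_cokernel φ hφ
  have hK := H10Coh.isCoh_kernel φ hF hG.1
  have hC := H10Coh.isCoh_cokernel φ hF.1 hG
  have hI := H10Coh.isCoh_kernel (cokernel.π φ) hG hC.1
  have hS₁ : (ShortComplex.mk (kernel.ι φ) (Abelian.factorThruImage φ)
      (by rw [← cancel_mono (Abelian.image.ι φ), Category.assoc, Abelian.image.fac, kernel.condition,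
        zero_comp])).ShortExact :=
    { exact := ShortComplex.exact_of_f_is_kernel _ (KernelFork.IsLimit.ofι' _ _ fun g hg =>
        ⟨kernel.lift φ g (by
          rw [← Abelian.image.fac φ, ← Category.assoc, hg, zero_comp]), kernel.lift_ι _ _ _⟩)
      epi_g := inferInstanceAs (Epi (Abelian.factorThruImage φ)) }
  have hS₂ : (ShortComplex.mk (kernel.ι (cokernel.π φ)) (cokernel.π φ) (kernel.condition _)).ShortExact :=
    { exact := ShortComplex.exact_kernel _ }
  have e1 := defect_add (k := k) hE hS₁ hK hF hI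
  have e2 := defect_add (k := k) hE hS₂ hI hG hC
  dsimp only at e1 e2
  rw [defect_eq_zero_of_small (k := k) hE hdim hK hk, zero_add] at e1
  rw [defect_eq_zero_of_small (k := k) hE hdim hC hc, add_zero] at e2
  rw [e1, e2]

include hE in
omit [IsIntegral X] in
theorem defect_free (r : ℕ) : defect k E n (FlatMod.freeMod X r) = (r : ℤ) * Curv2.deg k X E n := by
  let B : X.Modules := FlatMod.freeMod X r
  let U := (DCoh.tensorBi (X := X)).flip.obj E
  let ι : Fin r → (Coh.structureModule X ⟶ B) := fun i => Sigma.ι (fun _ : Fin r => Coh.structureModule X) i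
  let π : Fin r → (B ⟶ Coh.structureModule X) := fun i =>
    Sigma.desc fun j => if j = i then 𝟙 _ else 0
  have hself : ∀ i, ι i ≫ π i = 𝟙 _ := fun i => by simp [ι, π]
  have hne : ∀ i j, i ≠ j → ι i ≫ π j = 0 := fun i j h => by simp [ι, π, h]
  have htot : ∑ i, π i ≫ ι i = 𝟙 B := Sigma.hom_ext _ _ fun j => by
    rw [Preadditive.comp_sum, Finset.sum_eq_single j]
    · rw [← Category.assoc, hself, Category.id_comp, Category.comp_id]
    · intro i _ hij; rw [← Category.assoc, hne j i (Ne.symm hij), zero_comp]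
    · intro h; exact absurd (Finset.mem_univ j) h
  have e1 : Curv2.euler k X B = r * Curv2.euler k X (Coh.structureModule X) :=
    euler_of_decomposition ι π hself hne htot
  have e2 : Curv2.euler k X (U.obj B) = r * Curv2.euler k X (U.obj (Coh.structureModule X)) :=
    euler_of_decomposition (A := U.obj (Coh.structureModule X)) (G := U.obj B)
      (fun i => U.map (ι i)) (fun i => U.map (π i))
      (fun i => (U.map_comp _ _).symm.trans ((congrArg U.map (hself i)).trans (U.map_id _)))
      (fun i j h => (U.map_comp _ _).symm.trans ((congrArg U.map (hne i j h)).trans (U.map_zero _ _)))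
      ((Finset.sum_congr rfl fun i _ => (U.map_comp (π i) (ι i)).symm).trans
        ((U.map_sum _ _).symm.trans ((congrArg U.map htot).trans (U.map_id _))))
  have hU : ∀ M : X.Modules, U.obj M = CohB1.tensorMod M E := fun M => H25Euler.tensorBi_flip_obj M E
  rw [hU, hU] at e2
  rw [defect, e1, e2, euler_structureModule_tensor, Curv2.deg]
  ring

include hE in
/-- The Euler characteristic of a twist by a bundle. -/
theorem defect_eq (hdim : topologicalKrullDim X ≤ 1) {F : X.Modules} (hF : Coh.IsCoh F) :
    defect k E n F =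
      (Module.finrank (X.presheaf.stalk (genericPoint X)) (F.presheaf.stalk (genericPoint X)) : ℤ) *
        Curv2.deg k X E n := by
  classical
  haveI := isNoetherian_of_proper (k := k) (X := X)
  letI : Field (X.presheaf.stalk (genericPoint X)) := inferInstanceAs (Field X.functionField)
  haveI := H29Ref.finite_stalk F hF.2 (genericPoint X)
  set r := Module.finrank (X.presheaf.stalk (genericPoint X)) (F.presheaf.stalk (genericPoint X))
  obtain ⟨V, hV, ⟨eF⟩⟩ := H8Props.FunDescent.isFreeOfRankNear_of_stalkFree_of_isFP F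
    (H10Coh.isFP_of_isCoh F hF) (x := genericPoint X) ⟨Module.finBasis _ _⟩
  let R := Scheme.Modules.restrictFunctor V.ι
  haveI : R.IsLeftAdjoint := (Scheme.Modules.restrictAdjunction V.ι).isLeftAdjoint
  let B : X.Modules := FlatMod.freeMod X r
  let eB : B.restrict V.ι ≅ FlatMod.freeMod (↑V) r :=
    PreservesCoproduct.iso R _ ≪≫ Sigma.mapIso fun _ => Scheme.Modules.restrictUnitIso V.ι
  have hBf : FlatMod.IsFinLocFree B := fun x => by
    let R' := Scheme.Modules.restrictFunctor (⊤ : X.Opens).ι
    haveI : R'.IsLeftAdjoint := (Scheme.Modules.restrictAdjunction (⊤ : X.Opens).ι).isLeftAdjoint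
    exact ⟨⊤, r, trivial, ⟨PreservesCoproduct.iso R' _ ≪≫
      Sigma.mapIso fun _ => Scheme.Modules.restrictUnitIso (⊤ : X.Opens).ι⟩⟩
  have hBc : Coh.IsCoh B := H16Derived.KFlat.Stalk.isCoh_of_isFinLocFree hBf
  let ηF := (Scheme.Modules.restrictAdjunction V.ι).unit.app F
  let ηB := (Scheme.Modules.restrictAdjunction V.ι).unit.app B
  let e' : B.restrict V.ι ≅ F.restrict V.ι := eB ≪≫ eF.symm
  let ψ : B ⟶ _ := ηB ≫ (Scheme.Modules.pushforward V.ι).map e'.hom
  let φ : B ⊞ F ⟶ _ := biprod.desc ψ (-ηF)
  let a : kernel φ ⟶ B := kernel.ι φ ≫ biprod.fst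
  let b : kernel φ ⟶ F := kernel.ι φ ≫ biprod.snd
  have hP : Coh.IsQCoh ((Scheme.Modules.pushforward V.ι).obj (F.restrict V.ι)) :=
    haveI : (F.restrict V.ι).IsQuasicoherent := LeadDev.isQCoh_restrict V.ι F hF.1
    H10Coh.isQuasicoherent_pushforward V.ι _
  have hK : Coh.IsCoh (kernel φ) := H10Coh.isCoh_kernel φ (LeadDev.isCoh_biprod hBc hF) hP
  have hab : a ≫ ψ = b ≫ ηF := by
    have h := kernel.condition φ
    simp only [φ, biprod.desc_eq, Preadditive.comp_add, Preadditive.comp_neg, add_neg_eq_zero] at h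
    simpa [a, b] using h
  let T := DerSch.stalkFunctor X (genericPoint X)
  have hpb : IsPullback a b ψ ηF := by
    refine ⟨⟨hab⟩, ⟨PullbackCone.IsLimit.mk _
      (fun s => kernel.lift φ (biprod.lift s.fst s.snd) (by simp [φ, biprod.desc_eq, s.condition])) ?_ ?_ ?_⟩⟩
    · intro s; simp [a]
    · intro s; simp [b]
    · intro s m h1 h2
      rw [← cancel_mono (kernel.ι φ), kernel.lift_ι]
      refine biprod.hom_ext _ _ ?_ ?_
      · rw [Category.assoc, biprod.lift_fst]; exact h1
      · rw [Category.assoc, biprod.lift_snd]; exact h2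
  have hpb' := hpb.map T
  haveI : IsIso (T.map ηF) := isIso_stalk_unit F V hV
  haveI : IsIso (T.map ηB) := isIso_stalk_unit B V hV
  haveI : IsIso (T.map ψ) := by rw [Functor.map_comp]; infer_instance
  rw [← defect_eq_of_isIso_generic (k := k) hE hdim hK hF b hpb'.isIso_snd_of_isIso,
    defect_eq_of_isIso_generic (k := k) hE hdim hK hBc a hpb'.isIso_fst_of_isIso]
  exact defect_free (k := k) hE r

include hE in
theorem euler_tensor_eq (hdim : topologicalKrullDim X ≤ 1) {F : X.Modules} (hF : Coh.IsCoh F) :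
    Curv2.euler k X (CohB1.tensorMod E F) =
      (Module.finrank (X.presheaf.stalk (genericPoint X)) (F.presheaf.stalk (genericPoint X)) : ℤ) *
        Curv2.deg k X E n + n * Curv2.euler k X F := by
  have h := defect_eq (k := k) hE hdim hF
  rw [defect] at h
  rw [H25Euler.euler_congr (k := k) (H10Coh.Tw.commIso E F)]
  omega

end Groth.Agent.H29RR
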