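import Groth.Agent.H29RR.Pencil
import Groth.Agent.H12AlgSp.Codim

/-!
# Finite closed subsets of curves, functoriality of zeroth cohomology
-/

set_option autoImplicit false
universe u

open CategoryTheory CategoryTheory.Limits AlgebraicGeometry TopologicalSpace

namespace Groth.Agent.H29RR

attribute [local instance 10000] H10Coh.hasSheafifyAb H10Coh.hasWeakSheafifyAb H10Coh.hasExtAb H10Coh.enoughInjAb

/-- A closed subset of a one-dimensional noetherian scheme without generic points is finite. -/
theorem finite_of_one_le {X : Scheme.{u}} [IsNoetherian X] (hdim : topologicalKrullDim X ≤ 1) {S : Set X}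
    (hS : IsClosed S) (h1 : ∀ y ∈ S, (1 : WithBot ℕ∞) ≤ ringKrullDim (X.presheaf.stalk y)) :
    S.Finite ∧ ∀ z ∈ S, IsClosed ({z} : Set X) := by
  haveI : QuasiSober S := hS.isClosedEmbedding_subtypeVal.quasiSober
  haveI : CompactSpace S := isCompact_iff_compactSpace.mp hS.isCompact
  haveI : NoetherianSpace S := Topology.IsInducing.subtypeVal.noetherianSpace
  have hd := H25Euler.dim_lt_of_forall_ne S hS (fun y hy => by
      obtain ⟨η, hη, hηy⟩ := H8Props.exists_genericPoints_specializes y
      refine ⟨η, hηy, fun hηS => ?_⟩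
      have h := h1 η hηS
      rw [(H12AlgSp.ringKrullDim_stalk_eq_zero_iff η).2 hη] at h
      exact absurd h (by norm_num))
    (d := 1) (lt_of_le_of_lt hdim (by norm_num))
  have hd0 : topologicalKrullDim S ≤ 0 := by
    generalize topologicalKrullDim S = D at hd
    induction D using WithBot.recBotCoe with
    | bot => exact bot_le
    | coe a =>
      induction a using ENat.recTopCoe with
      | top => exact absurd hd (by simp)
      | coe a =>
        have : a < 1 := by exact_mod_cast hd
        obtain rfl : a = 0 := by omega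
        exact le_rfl
  haveI := (H28Top.finite_discrete_of_dim_le_zero hd0).1
  refine ⟨Set.toFinite S, fun z hz => ?_⟩
  have h := H28Top.isClosed_singleton_of_dim_le_zero hd0 (⟨z, hz⟩ : S)
  simpa using (hS.isClosedEmbedding_subtypeVal.isClosed_iff_image_isClosed).1 h

variable {k : Type u} [Field k] {X : Scheme.{u}} [X.Over (Spec (CommRingCat.of k))]

/-- Zeroth cohomology preserves monomorphisms. -/
theorem hhlin_zero_injective {F G : X.Modules} (i : F ⟶ G) [Mono i] :
    Function.Injective (Canon.HHlin k i 0) := by
  have hS : (ShortComplex.mk i (cokernel.π i) (cokernel.condition i)).ShortExact :=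
    { exact := ShortComplex.exact_cokernel _ }
  haveI := (H10Coh.shortExact_sh hS).mono_f
  exact @Abelian.Ext.postcomp_mk₀_injective_of_mono _ _ _ _ _ _ _ _ (H10Coh.shortExact_sh hS).mono_f

/-- Isomorphic modules have isomorphic cohomology. -/
noncomputable def hhIso {F G : X.Modules} (e : F ≅ G) (n : ℕ) : Coh.HH X F n ≃ₗ[k] Coh.HH X G n :=
  LinearEquiv.ofLinearMap (Canon.HHlin k e.hom n) (Canon.HHlin k e.inv n)
    (LinearMap.ext fun x => by rw [LinearMap.comp_apply, ← hhlin_comp, e.inv_hom_id, hhlin_id]; rfl)
    (LinearMap.ext fun x => by rw [LinearMap.comp_apply, ← hhlin_comp, e.hom_inv_id, hhlin_id]; rfl)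

end Groth.Agent.H29RR
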