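import Groth.Agent.H29RR.Slope
import Groth.Agent.H25Par.ParHom
import Groth.Agent.H29RR.FiniteSupport

/-!
# Subbundles on a smooth proper curve: preimages, saturation, maximal slope
-/

set_option autoImplicit false
set_option linter.style.haveILetI false
universe u

open CategoryTheory CategoryTheory.Limits AlgebraicGeometry

namespace Groth.Agent.H29RR

attribute [local instance 10000] H10Coh.hasSheafifyAb H10Coh.hasWeakSheafifyAb H10Coh.hasExtAb H10Coh.enoughInjAb

variable {k : Type u} [Field k] {X : Scheme.{u}} [X.Over (Spec (CommRingCat.of k))]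
  [IsProper (X ↘ Spec (CommRingCat.of k))] [IsIntegral X]

/-- A zero bundle has degree zero. -/
theorem deg_eq_zero_of_rank_zero {G : X.Modules} (hG : FlatMod.IsFinLocFreeOfRank 0 G) :
    Curv2.deg k X G 0 = 0 := by
  haveI := isNoetherian_of_proper (k := k) (X := X)
  simp [Curv2.deg, H25Euler.euler_eq_zero_of_isZero (k := k) (isZero_of_rank_zero hG)]

/-- Degrees of subbundles are bounded by sections of the ambient module. -/
theorem deg_le_h0 (hdim : topologicalKrullDim X ≤ 1) {E G : X.Modules} {s : ℕ} (hEc : Coh.IsCoh E)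
    (i : G ⟶ E) [Mono i] :
    Curv2.deg k X G s ≤
      (Module.finrank k (Coh.HH X E 0) : ℤ) - (s : ℤ) * Curv2.euler k X (Coh.structureModule X) := by
  haveI : Module.Finite k (Coh.HH X E 0) := H10Coh.finite_HH_proper k X E hEc 0
  have h1 := euler_eq_sub (k := k) hdim G
  have h2 : Module.finrank k (Coh.HH X G 0) ≤ Module.finrank k (Coh.HH X E 0) :=
    LinearMap.finrank_le_finrank_of_injective (hhlin_zero_injective (k := k) i)
  simp only [Curv2.deg]
  omega

variable [Smooth (X ↘ Spec (CommRingCat.of k))]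

/-- The preimage of a subbundle of a quotient. -/
theorem exists_preimage (hdim : topologicalKrullDim X ≤ 1) {S : ShortComplex X.Modules} (hS : S.ShortExact)
    {a n s : ℕ} (hA : FlatMod.IsFinLocFreeOfRank a S.X₁) (hE : FlatMod.IsFinLocFreeOfRank n S.X₂)
    {Q : X.Modules} (hQ : FlatMod.IsFinLocFreeOfRank s Q) (j : Q ⟶ S.X₃) [Mono j] :
    ∃ (P : X.Modules) (l : P ⟶ S.X₂), Mono l ∧ FlatMod.IsFinLocFreeOfRank (a + s) P ∧
      Curv2.deg k X P (a + s) = Curv2.deg k X S.X₁ a + Curv2.deg k X Q s := by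
  haveI := isNoetherian_of_proper (k := k) (X := X)
  haveI := hS.mono_f
  haveI := hS.epi_g
  haveI : Epi (pullback.snd S.g j) := inferInstance
  haveI : Mono (pullback.fst S.g j) := inferInstance
  let ι : S.X₁ ⟶ pullback S.g j := pullback.lift S.f 0 (by rw [S.zero, zero_comp])
  have hι : ι ≫ pullback.fst S.g j = S.f := pullback.lift_fst _ _ _
  haveI : Mono ι := mono_of_mono_fac hι
  have hT : (ShortComplex.mk ι (pullback.snd S.g j) (pullback.lift_snd _ _ _)).ShortExact :=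
    { exact := ShortComplex.exact_of_f_is_kernel _ (KernelFork.IsLimit.ofι' _ _ fun {A} x hx => by
        have hx' : (x ≫ pullback.fst S.g j) ≫ S.g = 0 := by
          rw [Category.assoc, pullback.condition, ← Category.assoc]
          show (x ≫ pullback.snd S.g j) ≫ j = 0
          rw [show x ≫ pullback.snd S.g j = 0 from hx, zero_comp]
        exact ⟨hS.exact.lift _ hx', by
          rw [← cancel_mono (pullback.fst S.g j), Category.assoc, hι, ShortComplex.Exact.lift_f]⟩) }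
  have hPc : Coh.IsCoh (pullback S.g j) := H10Coh.isCoh_X₂ hT (isCoh_of_rank hA) (isCoh_of_rank hQ)
  obtain ⟨p, hP⟩ := H25Par.exists_rank k hdim hPc
    (H25Euler.isTorsionFree_of_mono (pullback.fst S.g j) (H25Par.isTorsionFree_of_locFree (locFree_of_rank hE)))
  obtain ⟨rfl, hd⟩ := deg_add_of_shortExact (k := k) hT hA hP hQ
  exact ⟨_, pullback.fst S.g j, inferInstance, hP, hd⟩

/-- A subbundle of maximal degree in its rank has a bundle quotient. -/
theorem exists_rank_quotient_of_max (hdim : topologicalKrullDim X ≤ 1) {S : ShortComplex X.Modules}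
    (hS : S.ShortExact) {a n : ℕ} (hA : FlatMod.IsFinLocFreeOfRank a S.X₁)
    (hE : FlatMod.IsFinLocFreeOfRank n S.X₂)
    (hmax : ∀ (G : X.Modules) (l : G ⟶ S.X₂), Mono l → FlatMod.IsFinLocFreeOfRank a G →
      Curv2.deg k X G a ≤ Curv2.deg k X S.X₁ a) :
    ∃ c : ℕ, FlatMod.IsFinLocFreeOfRank c S.X₃ := by
  haveI := isNoetherian_of_proper (k := k) (X := X)
  haveI := hS.mono_f
  obtain ⟨G', j, ι', hj, hι', hji, hG', hC⟩ := H25Par.exists_saturation k hdim hA hE S.f
  haveI := hj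
  have hge : Curv2.deg k X S.X₁ a ≤ Curv2.deg k X G' a := by
    have := H25Par.euler_le_of_mono (k := k) hdim hA hG' j
    simp only [Curv2.deg]
    omega
  haveI : IsIso j := isIso_of_deg_eq (k := k) hdim hA hG' j (le_antisymm hge (hmax G' ι' hι' hG'))
  let e : S.X₃ ≅ cokernel ι' :=
    (hS.gIsCokernel.coconePointUniqueUpToIso (cokernelIsCokernel S.f)) ≪≫
      cokernelIsoOfEq hji.symm ≪≫ cokernelEpiComp j ι'
  have hC' : FlatMod.IsFinLocFree S.X₃ := fun x => by
    obtain ⟨U, c, hxU, ⟨e'⟩⟩ := hC x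
    exact ⟨U, c, hxU, ⟨(Scheme.Modules.restrictFunctor U.ι).mapIso e ≪≫ e'⟩⟩
  exact H25Par.exists_rank k hdim (H16Derived.KFlat.Stalk.isCoh_of_isFinLocFree hC')
    (H25Par.isTorsionFree_of_locFree hC')

/-- A subsheaf of maximal slope and, among these, of maximal rank. -/
theorem exists_maxSlope (hdim : topologicalKrullDim X ≤ 1) {E : X.Modules} {r : ℕ} (hr : 0 < r)
    (hE : FlatMod.IsFinLocFreeOfRank r E) :
    ∃ (E₁ : X.Modules) (r₁ : ℕ) (i₁ : E₁ ⟶ E), Mono i₁ ∧ 0 < r₁ ∧ FlatMod.IsFinLocFreeOfRank r₁ E₁ ∧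
      (∀ (G : X.Modules) (r' : ℕ) (j : G ⟶ E), Mono j → 0 < r' → FlatMod.IsFinLocFreeOfRank r' G →
        Curv2.deg k X G r' * (r₁ : ℤ) ≤ Curv2.deg k X E₁ r₁ * (r' : ℤ)) ∧
      (∀ (G : X.Modules) (r' : ℕ) (j : G ⟶ E), Mono j → 0 < r' → FlatMod.IsFinLocFreeOfRank r' G →
        Curv2.deg k X G r' * (r₁ : ℤ) = Curv2.deg k X E₁ r₁ * (r' : ℤ) → r' ≤ r₁) := by
  classical
  haveI := isNoetherian_of_proper (k := k) (X := X)
  let P : ℕ → ℤ → Prop := fun s d => ∃ (G : X.Modules) (l : G ⟶ E), Mono l ∧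
    FlatMod.IsFinLocFreeOfRank s G ∧ Curv2.deg k X G s = d
  let R := (Finset.range (r + 1)).filter fun s => 0 < s ∧ ∃ d, P s d
  have hR : ∀ (G : X.Modules) (s : ℕ) (l : G ⟶ E), Mono l → 0 < s → FlatMod.IsFinLocFreeOfRank s G → s ∈ R :=
    fun G s l hl hs hG => by
      haveI := hl
      have := H25Par.rank_le_of_mono (genericPoint X) hG hE l
      simp only [R, Finset.mem_filter, Finset.mem_range]
      exact ⟨by omega, hs, _, G, l, hl, hG, rfl⟩
  have hbest : ∀ s ∈ R, ∃ d, P s d ∧ ∀ d', P s d' → d' ≤ d := fun s hs => by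
    refine Int.exists_greatest_of_bdd
      ⟨(Module.finrank k (Coh.HH X E 0) : ℤ) - (s : ℤ) * Curv2.euler k X (Coh.structureModule X), fun d hd => ?_⟩
      (Finset.mem_filter.1 hs).2.2
    obtain ⟨G, l, hl, hG, rfl⟩ := hd
    haveI := hl
    exact deg_le_h0 (k := k) hdim (isCoh_of_rank hE) l
  choose! best hbest1 hbest2 using hbest
  obtain ⟨r₁, hr₁, hmax⟩ := Finset.exists_max_image R
    (fun s => toLex ((best s : ℚ) / (s : ℚ), s)) ⟨r, hR E r (𝟙 E) inferInstance hr hE⟩
  obtain ⟨E₁, i₁, hi, hE₁, hd⟩ := hbest1 r₁ hr₁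
  have hr₁0 : 0 < r₁ := (Finset.mem_filter.1 hr₁).2.1
  have hr₁q : (0 : ℚ) < r₁ := by exact_mod_cast hr₁0
  have key : ∀ (G : X.Modules) (s : ℕ) (l : G ⟶ E), Mono l → 0 < s → FlatMod.IsFinLocFreeOfRank s G →
      Curv2.deg k X G s * (r₁ : ℤ) ≤ Curv2.deg k X E₁ r₁ * (s : ℤ) ∧
        (Curv2.deg k X G s * (r₁ : ℤ) = Curv2.deg k X E₁ r₁ * (s : ℤ) → s ≤ r₁) := fun G s l hl hs hG => by
    have hsR := hR G s l hl hs hG
    have hsq : (0 : ℚ) < s := by exact_mod_cast hs
    have hle : (Curv2.deg k X G s : ℚ) ≤ best s := by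
      exact_mod_cast hbest2 s hsR _ ⟨G, l, hl, hG, rfl⟩
    rw [hd]
    rcases Prod.Lex.toLex_le_toLex.1 (hmax s hsR) with h | ⟨h, hs'⟩
    · rw [div_lt_div_iff₀ hsq hr₁q] at h
      have h' : Curv2.deg k X G s * (r₁ : ℤ) < best r₁ * (s : ℤ) := by
        have : (Curv2.deg k X G s : ℚ) * r₁ < best r₁ * s := lt_of_le_of_lt (by gcongr) h
        exact_mod_cast this
      exact ⟨h'.le, fun h => absurd h h'.ne⟩
    · rw [div_eq_div_iff hsq.ne' hr₁q.ne'] at h
      refine ⟨?_, fun _ => hs'⟩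
      have : (Curv2.deg k X G s : ℚ) * r₁ ≤ best r₁ * s := le_trans (by gcongr) h.le
      exact_mod_cast this
  exact ⟨E₁, r₁, i₁, hi, hr₁0, hE₁, fun G s l hl hs hG => (key G s l hl hs hG).1,
    fun G s l hl hs hG => (key G s l hl hs hG).2⟩

/-- A nonzero quotient of a semistable bundle has at least its slope. -/
theorem semistable_image_ge (hdim : topologicalKrullDim X ≤ 1) {n m : ℕ} {E F : X.Modules}
    (hE : FlatMod.IsFinLocFreeOfRank n E) (hF : FlatMod.IsFinLocFreeOfRank m F)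
    (hEss : SemistableBundle k X E n) (f : E ⟶ F) :
    ∃ a r : ℕ, FlatMod.IsFinLocFreeOfRank a (kernel f) ∧ FlatMod.IsFinLocFreeOfRank r (Abelian.image f) ∧
      a + r = n ∧ (f ≠ 0 → 0 < r) ∧
      Curv2.deg k X E n = Curv2.deg k X (kernel f) a + Curv2.deg k X (Abelian.image f) r ∧
      Curv2.deg k X E n * (r : ℤ) ≤ Curv2.deg k X (Abelian.image f) r * (n : ℤ) := by
  haveI := isNoetherian_of_proper (k := k) (X := X)
  obtain ⟨a, r, hK, hG, hr, -, hr0, -, hd⟩ := exists_image_data (k := k) hdim hE hF f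
  refine ⟨a, r, hK, hG, hr, hr0, hd, ?_⟩
  rcases Nat.eq_zero_or_pos a with ha | ha
  · subst ha
    rw [hd, deg_eq_zero_of_rank_zero (k := k) hK, ← hr]
    simp
  · have h1 := hEss (kernel f) a (kernel.ι f) inferInstance ha hK
    rw [hd, ← hr] at h1 ⊢
    push_cast at h1 ⊢
    nlinarith

/-- Every subbundle lies in a saturated one of at least its degree, with bundle quotient. -/
theorem exists_saturated_quotient (hdim : topologicalKrullDim X ≤ 1) {E G : X.Modules} {n s : ℕ}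
    (hE : FlatMod.IsFinLocFreeOfRank n E) (hG : FlatMod.IsFinLocFreeOfRank s G) (i : G ⟶ E) [Mono i] :
    ∃ (G' : X.Modules) (ι' : G' ⟶ E) (c : ℕ), Mono ι' ∧ FlatMod.IsFinLocFreeOfRank s G' ∧
      FlatMod.IsFinLocFreeOfRank c (cokernel ι') ∧ s + c = n ∧
      Curv2.deg k X G s ≤ Curv2.deg k X G' s ∧
      Curv2.deg k X E n = Curv2.deg k X G' s + Curv2.deg k X (cokernel ι') c := by
  haveI := isNoetherian_of_proper (k := k) (X := X)
  obtain ⟨G', j, ι', hj, hι', -, hG', hC⟩ := H25Par.exists_saturation k hdim hG hE i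
  haveI := hj
  haveI := hι'
  obtain ⟨c, hc⟩ := H25Par.exists_rank k hdim (H16Derived.KFlat.Stalk.isCoh_of_isFinLocFree hC)
    (H25Par.isTorsionFree_of_locFree hC)
  obtain ⟨hr, hd⟩ := deg_add_of_shortExact (k := k) (S := ShortComplex.mk ι' (cokernel.π ι') (cokernel.condition ι'))
    { exact := ShortComplex.exact_cokernel _ } hG' hE hc
  have hle := H25Par.euler_le_of_mono (k := k) hdim hG hG' j
  refine ⟨G', ι', c, hι', hG', hc, hr, ?_, hd⟩
  simp only [Curv2.deg]
  omega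

/-- Slope bounds on the outer terms of an extension bound the slopes of subsheaves of the middle term. -/
theorem slope_le_of_extension (hdim : topologicalKrullDim X ≤ 1) {S : ShortComplex X.Modules} (hS : S.ShortExact)
    {n b : ℕ} (h₂ : FlatMod.IsFinLocFreeOfRank n S.X₂) (h₃ : FlatMod.IsFinLocFreeOfRank b S.X₃) (m : ℚ)
    (hb₁ : ∀ (G : X.Modules) (s : ℕ) (i : G ⟶ S.X₁), Mono i → 0 < s → FlatMod.IsFinLocFreeOfRank s G →
      (Curv2.deg k X G s : ℚ) ≤ m * s)
    (hb₃ : ∀ (G : X.Modules) (s : ℕ) (i : G ⟶ S.X₃), Mono i → 0 < s → FlatMod.IsFinLocFreeOfRank s G →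
      (Curv2.deg k X G s : ℚ) ≤ m * s)
    {F : X.Modules} {s : ℕ} (hF : FlatMod.IsFinLocFreeOfRank s F) (i : F ⟶ S.X₂) [Mono i] :
    (Curv2.deg k X F s : ℚ) ≤ m * s := by
  haveI := isNoetherian_of_proper (k := k) (X := X)
  haveI := hS.mono_f
  obtain ⟨a, r, hK, hG, hr, -, -, -, hd⟩ := exists_image_data (k := k) hdim hF h₃ (i ≫ S.g)
  have e1 : (Curv2.deg k X (kernel (i ≫ S.g)) a : ℚ) ≤ m * a := by
    rcases Nat.eq_zero_or_pos a with ha | ha
    · subst ha; simp [deg_eq_zero_of_rank_zero (k := k) hK]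
    · have hcond : (kernel.ι (i ≫ S.g) ≫ i) ≫ S.g = 0 := by rw [Category.assoc, kernel.condition]
      haveI : Mono (hS.exact.lift _ hcond) := mono_of_mono_fac (hS.exact.lift_f _ hcond)
      exact hb₁ _ a (hS.exact.lift _ hcond) inferInstance ha hK
  have e2 : (Curv2.deg k X (Abelian.image (i ≫ S.g)) r : ℚ) ≤ m * r := by
    rcases Nat.eq_zero_or_pos r with ha | ha
    · subst ha; simp [deg_eq_zero_of_rank_zero (k := k) hG]
    · exact hb₃ _ r (Abelian.image.ι _) inferInstance ha hG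
  rw [hd, ← hr]
  push_cast
  linarith

end Groth.Agent.H29RR
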