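import Groth.Agent.H29RR.Points
import Groth.Agent.H29RR.BundleTwist
import Groth.Agent.H29RR.SubBundle

/-!
# Twisting vector bundles by invertible modules and closed points
-/

set_option autoImplicit false
set_option linter.style.haveILetI false
universe u

open CategoryTheory CategoryTheory.Limits AlgebraicGeometry TopologicalSpace Opposite

namespace Groth.Agent.H29RR

attribute [local instance] Curv2.resAlgebra
attribute [local instance 10000] H10Coh.hasSheafifyAb H10Coh.hasWeakSheafifyAb H10Coh.hasExtAb H10Coh.enoughInjAb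

variable {X : Scheme.{u}}

theorem rank_tensor [IsIntegral X] [IsLocallyNoetherian X] {E M : X.Modules} {n : ℕ} (hE : FlatMod.IsFinLocFreeOfRank n E)
    (hM : PicF.IsInvertible M) : FlatMod.IsFinLocFreeOfRank n (CohB1.tensorMod E M) := by
  have hT : FlatMod.IsFinLocFree (CohB1.tensorMod E M) := H16Derived.KFlat.Stalk.isFinLocFree_tensor
    (fun y => let ⟨U, hU⟩ := hE y; ⟨U, n, hU⟩) (H28Pinch.isFinLocFree_of_isInvertible hM)
  refine fun x => ?_
  obtain ⟨U, m, hxU, ⟨e⟩⟩ := hT x
  obtain rfl : m = n := by
    obtain ⟨hf, hfin, hr⟩ := H25Par.finrank_stalk hE x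
    obtain ⟨hf', hfin', hr'⟩ := H25Par.finrank_stalk (rank_one_of_isInvertible hM) x
    haveI := hf; haveI := hfin; haveI := hf'; haveI := hfin'
    haveI : Module.Free (X.presheaf.stalk x) ((CohB1.tensorMod E M).presheaf.stalk x) :=
      Module.Free.of_equiv (H16Derived.KFlat.Stalk.stalkEquiv E M x)
    rw [H25Par.rank_at_generic e hxU]
    rw [H16Derived.KFlat.Stalk.rfd, Module.finrank_baseChange,
      show Module.finrank (X.presheaf.stalk x) ((CohB1.tensorMod E M).presheaf.stalk x) = _ from
        (H16Derived.KFlat.Stalk.stalkEquiv E M x).finrank_eq.symm, Module.finrank_tensorProduct, hr, hr', mul_one]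
  exact ⟨U, hxU, ⟨e⟩⟩

variable {k : Type u} [Field k] [X.Over (Spec (CommRingCat.of k))] [IsProper (X ↘ Spec (CommRingCat.of k))]

theorem deg_tensor_bundle [IsIntegral X] (hdim : topologicalKrullDim X ≤ 1) {E M : X.Modules} {n : ℕ}
    (hE : FlatMod.IsFinLocFreeOfRank n E) (hM : PicF.IsInvertible M) :
    Curv2.deg k X (CohB1.tensorMod E M) n = Curv2.deg k X E n + (n : ℤ) * Curv2.deg k X M 1 := by
  haveI := isNoetherian_of_proper (k := k) (X := X)
  have h := euler_tensor_eq (k := k) hE hdim
    (H16Derived.KFlat.Stalk.isCoh_of_isFinLocFree (H28Pinch.isFinLocFree_of_isInvertible hM))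
  rw [(H25Par.finrank_stalk (rank_one_of_isInvertible hM) (genericPoint X)).2.2] at h
  simp only [Curv2.deg, h]
  push_cast
  ring

/-- Tensoring with an invertible module preserves semistability. -/
theorem semistable_tensor [IsIntegral X] (hdim : topologicalKrullDim X ≤ 1) {E M : X.Modules} {n : ℕ}
    (hE : FlatMod.IsFinLocFreeOfRank n E) (hss : SemistableBundle k X E n) (hM : PicF.IsInvertible M) :
    SemistableBundle k X (CohB1.tensorMod E M) n := by
  haveI := isNoetherian_of_proper (k := k) (X := X)
  intro G s i hi hs hG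
  haveI := hi
  obtain ⟨N, hN, ⟨e⟩⟩ := H11Sym.exists_inverse hM
  let T := (DCoh.tensorBi (X := X)).flip.obj N
  haveI : Mono (T.map i) := by
    have hS : (ShortComplex.mk i (cokernel.π i) (cokernel.condition i)).ShortExact :=
      { exact := ShortComplex.exact_cokernel _ }
    exact (H16Derived.KFlat.Stalk.isFlatObj_of_isFlat
      (H16Derived.KFlat.Stalk.isFlat_of_isFinLocFree (H28Pinch.isFinLocFree_of_isInvertible hN)) _ hS).mono_f
  let b : CohB1.tensorMod (CohB1.tensorMod E M) N ≅ E :=
    H10Coh.Tw.assoc E M N ≪≫ PicGrp.tensorModIso (Iso.refl E) (H10Coh.Tw.commIso M N ≪≫ e) ≪≫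
      H10Coh.Tw.rightUnitIso E
  have h := hss (CohB1.tensorMod G N) s (T.map i ≫ b.hom) (mono_comp (T.map i) b.hom) hs (rank_tensor hG hN)
  have hd := deg_tensor (k := k) hdim hN hM
  rw [deg_congr (k := k) e, deg_structureModule] at hd
  rw [deg_tensor_bundle (k := k) hdim hG hN] at h
  rw [deg_tensor_bundle (k := k) hdim hE hM]
  have hN' : Curv2.deg k X N 1 = -Curv2.deg k X M 1 := by omega
  rw [hN'] at h
  nlinarith

/-- Sections drop by at most `rank · deg x` when twisting a bundle down by a closed point. -/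
theorem h0_le_twist_point {x : X} (hx : IsClosed ({x} : Set X)) {E : X.Modules} {n : ℕ}
    (hE : FlatMod.IsFinLocFreeOfRank n E) (hI : Coh.IsCoh (ClSub.idealMod (ptIdeal x))) :
    Module.finrank k (Coh.HH X E 0) ≤
      Module.finrank k (Coh.HH X (CohB1.tensorMod (ClSub.idealMod (ptIdeal x)) E) 0) +
        n * Module.finrank k (X.residueField x) := by
  haveI := isNoetherian_of_proper (k := k) (X := X)
  let I := ptIdeal x
  have hQc : Coh.IsCoh (ClSub.quotMod I) :=
    H24FSch.isCoh_pushforward_of_isClosedImmersion I.subschemeι (H10Coh.isCoh_structureModule' _)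
  have hsupp : CohB1.support (ClSub.quotMod I) ⊆ {x} := fun y hy => by
    have := LeadProper.support_subset_range (F := ClSub.quotMod I)
      (@H10Coh.isQuasicoherent_pushforward _ _ I.subschemeι inferInstance inferInstance _ H10Coh.isQuasicoherent_unit)
      I.subschemeι (Iso.refl _) hy
    rwa [range_subscheme_pt hx] at this
  haveI := H10Coh.epi_toSubscheme I
  have hS : (ShortComplex.mk (ClSub.idealModι I) (ClSub.toSubscheme I) (kernel.condition _)).ShortExact :=
    { exact := ShortComplex.exact_kernel _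
      mono_f := inferInstanceAs (Mono (kernel.ι _)) }
  have hEf : FlatMod.IsFinLocFree E := locFree_of_rank hE
  have hEc := isCoh_of_rank hE
  let T := (DCoh.tensorBi (X := X)).flip.obj E
  have hS' := H16Derived.KFlat.Stalk.isFlatObj_of_isFlat (H16Derived.KFlat.Stalk.isFlat_of_isFinLocFree hEf) _ hS
  haveI : Mono (T.map (ClSub.idealModι I)) := hS'.mono_f
  haveI : Module.Finite k (Coh.HH X (T.obj (Coh.structureModule X)) 0) :=
    H10Coh.finite_HH_proper k X _ (H10Coh.TT.isCoh_tensorMod (H10Coh.isCoh_structureModule' X) hEc) 0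
  haveI : Module.Finite k (Coh.HH X (T.obj (ClSub.quotMod I)) 0) :=
    H10Coh.finite_HH_proper k X _ (H10Coh.TT.isCoh_tensorMod hQc hEc) 0
  have hex := H25Par.hhlin_exact (k := k) hS'
  have hinj := hhlin_zero_injective (k := k) (T.map (ClSub.idealModι I))
  have h0 := LinearMap.finrank_range_add_finrank_ker (Canon.HHlin k (T.map (ClSub.toSubscheme I)) 0)
  rw [show LinearMap.ker (Canon.HHlin k (T.map (ClSub.toSubscheme I)) 0) =
      LinearMap.range (Canon.HHlin k (T.map (ClSub.idealModι I)) 0) from hex,
    LinearMap.finrank_range_of_inj hinj] at h0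
  have h4 : Module.finrank k (LinearMap.range (Canon.HHlin k (T.map (ClSub.toSubscheme I)) 0)) ≤
      Module.finrank k (Coh.HH X (T.obj (ClSub.quotMod I)) 0) := Submodule.finrank_le _
  have hq : Module.finrank k (Coh.HH X (T.obj (ClSub.quotMod I)) 0) =
      n * Module.finrank k (Coh.HH X (ClSub.quotMod I) 0) :=
    finrank_h0_tensor_bundle (k := k) hE ((Set.finite_singleton x).subset hsupp)
      (fun z hz => by obtain rfl := hsupp hz; exact hx) (H10Coh.finite_HH_proper k X _ hQc 0)
  rw [show Module.finrank k (Coh.HH X (ClSub.quotMod I) 0) = _ from finrank_h0_quotMod_pt (k := k) hx] at hq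
  rw [← (hhIso (k := k) (H10Coh.Tw.leftUnitIso E) 0).finrank_eq]
  show Module.finrank k (Coh.HH X (T.obj (Coh.structureModule X)) 0) ≤
    Module.finrank k (Coh.HH X (T.obj (ClSub.idealMod I)) 0) + _
  omega

end Groth.Agent.H29RR
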