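import Groth.Agent.H8Props.FieldDimHeight
import Mathlib.RingTheory.Ideal.KrullsHeightTheorem
import Mathlib.RingTheory.Jacobson.Ring
import Mathlib.FieldTheory.IsAlgClosed.Basic

/-!
# Hopf's lemma on nondegenerate bilinear maps over an algebraically closed field
-/

set_option autoImplicit false
set_option linter.style.haveILetI false
universe u

open MvPolynomial

namespace Groth.Agent.H29RR

variable {k : Type u} [Field k]

/-- The algebra of the cone over a Segre variety. -/
noncomputable def segre (k : Type u) [Field k] (a b : ℕ) :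
    MvPolynomial (Fin a × Fin b) k →ₐ[k] MvPolynomial (Fin a ⊕ Fin b) k :=
  aeval fun p => X (Sum.inl p.1) * X (Sum.inr p.2)

theorem trdeg_segre (a b : ℕ) :
    ((a + 1 + b : ℕ) : Cardinal) ≤
      Algebra.trdeg k (MvPolynomial (Fin (a + 1) × Fin (b + 1)) k ⧸ RingHom.ker (segre k (a + 1) (b + 1))) := by
  let F := FractionRing (MvPolynomial (Fin (a + 1) ⊕ Fin b) k)
  let φ := segre k (a + 1) (b + 1)
  let g : Fin (a + 1) ⊕ Fin b → MvPolynomial (Fin (a + 1) × Fin (b + 1)) k :=
    Sum.elim (fun i => X (i, 0)) (fun j => X (0, j.succ))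
  let T : Fin (a + 1) ⊕ Fin b → F := fun s => algebraMap (MvPolynomial (Fin (a + 1) ⊕ Fin b) k) F (X s)
  let ψ : MvPolynomial (Fin (a + 1) ⊕ Fin (b + 1)) k →ₐ[k] F :=
    aeval (Sum.elim (fun i => T (Sum.inl i)) (Fin.cases 1 fun j => T (Sum.inr j) / T (Sum.inl 0)))
  have hT : T (Sum.inl 0) ≠ 0 := fun h =>
    X_ne_zero (Sum.inl 0) ((map_eq_zero_iff _ (IsFractionRing.injective _ F)).1 h)
  have hcomp : (ψ.comp (φ.comp (aeval g))) = IsScalarTower.toAlgHom k (MvPolynomial (Fin (a + 1) ⊕ Fin b) k) F := by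
    refine MvPolynomial.algHom_ext fun s => ?_
    rcases s with i | j
    · simp [g, φ, segre, ψ, T]
    · simp [g, φ, segre, ψ, T]
      exact mul_div_cancel₀ _ hT
  have hind : AlgebraicIndependent k fun s => Ideal.Quotient.mkₐ k (RingHom.ker φ) (g s) := by
    rw [algebraicIndependent_iff_injective_aeval]
    have e : (aeval fun s => Ideal.Quotient.mkₐ k (RingHom.ker φ) (g s)) =
        (Ideal.Quotient.mkₐ k (RingHom.ker φ)).comp (aeval g) := MvPolynomial.algHom_ext fun s => by simp
    rw [e, injective_iff_map_eq_zero]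
    intro p hp
    have h0 : φ (aeval g p) = 0 := Ideal.Quotient.eq_zero_iff_mem.1 hp
    have h1 : ψ.comp (φ.comp (aeval g)) p = 0 := by rw [AlgHom.comp_apply, AlgHom.comp_apply, h0, map_zero]
    rw [hcomp] at h1
    exact (map_eq_zero_iff _ (IsFractionRing.injective _ F)).1 h1
  have h := hind.lift_cardinalMk_le_trdeg
  simpa [Cardinal.mk_fintype] using h

/-- Fewer linear forms than the dimension of the Segre cone vanish at a nonzero decomposable point. -/
theorem exists_decomposable_zero [IsAlgClosed k] (a b u : ℕ) (hu : u ≤ a + b)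
    (c : Fin u → Fin (a + 1) × Fin (b + 1) → k) :
    ∃ (v : Fin (a + 1) → k) (w : Fin (b + 1) → k), v ≠ 0 ∧ w ≠ 0 ∧
      ∀ t, ∑ p, c t p * (v p.1 * w p.2) = 0 := by
  classical
  let S := MvPolynomial (Fin (a + 1) × Fin (b + 1)) k
  let φ := segre k (a + 1) (b + 1)
  let P : Ideal S := RingHom.ker φ
  haveI : P.IsPrime := RingHom.ker_isPrime _
  let R := S ⧸ P
  haveI : Algebra.FiniteType k R := Algebra.FiniteType.of_surjective (Ideal.Quotient.mkₐ k P) (Ideal.Quotient.mkₐ_surjective k P)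
  haveI : IsNoetherianRing R := inferInstance
  haveI : IsJacobsonRing R := inferInstance
  let ℓ : Fin u → S := fun t => ∑ p, C (c t p) * X p
  let I : Ideal R := Ideal.span (Set.range fun t => Ideal.Quotient.mk P (ℓ t))
  -- the vertex of the cone
  let ε₀ : S →ₐ[k] k := aeval fun _ => 0
  have hε₀ : ∀ x ∈ P, ε₀ x = 0 := fun x hx => by
    have h : ε₀ = (aeval fun _ => (0 : k)).comp φ := MvPolynomial.algHom_ext fun p => by simp [ε₀, φ, segre]
    rw [h, AlgHom.comp_apply, RingHom.mem_ker.1 hx, map_zero]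
  let ε : R →ₐ[k] k := Ideal.Quotient.liftₐ P ε₀ hε₀
  have hεs : Function.Surjective ε := fun x => ⟨algebraMap k R x, ε.commutes x⟩
  let m : Ideal R := RingHom.ker ε
  haveI hm : m.IsMaximal := RingHom.ker_isMaximal_of_surjective ε hεs
  have hIm : I ≤ m := Ideal.span_le.2 (by
    rintro _ ⟨t, rfl⟩
    show ε₀ (ℓ t) = 0
    refine (map_sum ε₀ _ _).trans (Finset.sum_eq_zero fun p _ => ?_)
    exact (map_mul ε₀ _ _).trans (mul_eq_zero_of_right _ (aeval_X _ p)))
  have hdim : ((a + b + 1 : ℕ) : WithBot ℕ∞) ≤ (m.height : WithBot ℕ∞) := by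
    have h := H8Props.FieldDim.height_add_dim_quotient k R m
    letI := Ideal.Quotient.field m
    rw [ringKrullDim_eq_zero_of_field, add_zero] at h
    obtain ⟨s, hs, htr⟩ := H8Props.FieldDim.exists_dim_trdeg k R
    rw [h, hs]
    have h2 : ((a + 1 + b : ℕ) : Cardinal) ≤ (s : Cardinal) := htr ▸ trdeg_segre (k := k) a b
    have h3 : a + 1 + b ≤ s := by exact_mod_cast h2
    exact_mod_cast (show a + b + 1 ≤ s by omega)
  -- another maximal ideal contains the linear forms
  obtain ⟨m', hm', hIm', hne⟩ : ∃ m' : Ideal R, m'.IsMaximal ∧ I ≤ m' ∧ m' ≠ m := by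
    by_contra! hno
    obtain ⟨Q, hQ, hQm⟩ := Ideal.exists_minimalPrimes_le hIm
    haveI : Q.IsPrime := hQ.1.1
    have hJ : Q.jacobson = Q := IsJacobsonRing.out inferInstance (Ideal.IsPrime.isRadical inferInstance)
    have hmQ : m ≤ Q := by
      rw [← hJ]
      exact le_sInf fun J hJ => (hno J hJ.2 (hQ.1.2.trans hJ.1)).ge
    have hQeq : Q = m := le_antisymm hQm hmQ
    have hle := Ideal.height_le_card_of_mem_minimalPrimes_span (Set.finite_range fun t => Ideal.Quotient.mk P (ℓ t)) (hQeq ▸ hQ)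
    have hcard : ((Set.range fun t => Ideal.Quotient.mk P (ℓ t)).ncard : ℕ∞) ≤ u := by
      rw [← Set.image_univ]
      exact_mod_cast (Set.ncard_image_le Set.finite_univ).trans (le_of_eq (by simp [Set.ncard_univ]))
    have h1 : ((a + b + 1 : ℕ) : ℕ∞) ≤ m.height := by exact_mod_cast hdim
    have h2 : ((a + b + 1 : ℕ) : ℕ∞) ≤ (u : ℕ∞) := h1.trans (hle.trans hcard)
    have : a + b + 1 ≤ u := by exact_mod_cast h2
    omega
  -- its point
  haveI := hm'
  letI := Ideal.Quotient.field m'
  haveI : Module.Finite k (R ⧸ m') := finite_of_finite_type_of_isJacobsonRing k (R ⧸ m')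
  obtain ⟨hbi, hbs⟩ := IsAlgClosed.algebraMap_bijective_of_isIntegral (k := k) (K := R ⧸ m')
  choose z hz using fun p : Fin (a + 1) × Fin (b + 1) => hbs (Ideal.Quotient.mk m' (Ideal.Quotient.mk P (X p)))
  let χ : S →ₐ[k] R ⧸ m' := (Ideal.Quotient.mkₐ k m').comp (Ideal.Quotient.mkₐ k P)
  have hχX : ∀ p, χ (X p) = algebraMap k (R ⧸ m') (z p) := fun p => (hz p).symm
  have hχP : ∀ x ∈ P, χ x = 0 := fun x hx => by
    show Ideal.Quotient.mk m' (Ideal.Quotient.mk P x) = 0
    rw [Ideal.Quotient.eq_zero_iff_mem.2 hx, map_zero]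
  have hminor : ∀ i j i' j', z (i, j) * z (i', j') = z (i, j') * z (i', j) := by
    intro i j i' j'
    apply hbi
    rw [map_mul, map_mul, ← hχX, ← hχX, ← hχX, ← hχX, ← map_mul, ← map_mul, ← sub_eq_zero, ← map_sub]
    refine hχP _ ?_
    rw [RingHom.mem_ker]
    show φ _ = 0
    erw [map_sub, map_mul, map_mul, aeval_X, aeval_X, aeval_X, aeval_X]
    ring
  have hz0 : ∃ p, z p ≠ 0 := by
    by_contra! h
    refine hne ?_
    have hχ : χ = (Algebra.ofId k (R ⧸ m')).comp ε₀ := MvPolynomial.algHom_ext fun p => by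
      rw [hχX, h p, map_zero]; simp [ε₀]
    refine hm'.eq_of_le hm.ne_top fun x hx => ?_
    obtain ⟨x, rfl⟩ := Ideal.Quotient.mk_surjective x
    have h1 : χ x = 0 := Ideal.Quotient.eq_zero_iff_mem.2 hx
    rw [hχ] at h1
    exact (map_eq_zero_iff _ hbi).1 h1
  obtain ⟨⟨i₀, j₀⟩, hz0⟩ := hz0
  refine ⟨fun i => z (i, j₀), fun j => z (i₀, j) / z (i₀, j₀), fun h => hz0 (congrFun h i₀), fun h => ?_, fun t => ?_⟩
  · have h1 := congrFun h j₀
    simp [div_self hz0] at h1
  · have hzp : ∀ p : Fin (a + 1) × Fin (b + 1), z (p.1, j₀) * (z (i₀, p.2) / z (i₀, j₀)) = z p := by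
      intro p
      rw [← mul_div_assoc, hminor, mul_div_assoc, div_self hz0, mul_one]
    simp only [hzp]
    apply hbi
    rw [map_zero]
    have h1 : χ (ℓ t) = 0 := Ideal.Quotient.eq_zero_iff_mem.2 (hIm' (Ideal.subset_span ⟨t, rfl⟩))
    rw [← h1]
    simp only [ℓ, map_sum, map_mul, hχX]
    refine Finset.sum_congr rfl fun p _ => ?_
    congr 1

/-- Hopf's lemma: a bilinear map without zero divisors has large target. -/
theorem hopf [IsAlgClosed k] {V W U : Type*} [AddCommGroup V] [Module k V] [Module.Finite k V]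
    [AddCommGroup W] [Module k W] [Module.Finite k W] [AddCommGroup U] [Module k U] [Module.Finite k U]
    (B : V →ₗ[k] W →ₗ[k] U) (hB : ∀ v w, B v w = 0 → v = 0 ∨ w = 0)
    (hV : 0 < Module.finrank k V) (hW : 0 < Module.finrank k W) :
    Module.finrank k V + Module.finrank k W ≤ Module.finrank k U + 1 := by
  classical
  obtain ⟨a, ha⟩ := Nat.exists_eq_add_one.2 hV
  obtain ⟨b, hb⟩ := Nat.exists_eq_add_one.2 hW
  by_contra hcon
  let eV := Module.finBasisOfFinrankEq k V ha
  let eW := Module.finBasisOfFinrankEq k W hb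
  let eU := Module.finBasis k U
  obtain ⟨v, w, hv, hw, h⟩ := exists_decomposable_zero a b (Module.finrank k U) (by omega)
    (fun t p => eU.repr (B (eV p.1) (eW p.2)) t)
  have h0 : B (∑ i, v i • eV i) (∑ j, w j • eW j) = 0 := by
    refine eU.ext_elem fun t => ?_
    rw [map_zero, Finsupp.zero_apply, ← h t, Fintype.sum_prod_type]
    simp only [map_sum, map_smul, LinearMap.sum_apply, LinearMap.smul_apply, Finsupp.smul_apply,
      Finsupp.finsetSum_apply, smul_eq_mul, Finset.mul_sum]
    rw [Finset.sum_comm]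
    exact Finset.sum_congr rfl fun j _ => Finset.sum_congr rfl fun i _ => by ring
  rcases hB _ _ h0 with h1 | h1
  · exact hv (funext fun i => Fintype.linearIndependent_iff.1 eV.linearIndependent v h1 i)
  · exact hw (funext fun j => Fintype.linearIndependent_iff.1 eW.linearIndependent w h1 j)

end Groth.Agent.H29RR
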