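import Groth.Agent.H29RR.MonoHom
import Groth.Agent.H29RR.Hopf

/-!
# The Hopf inequalities for sections of invertible modules
-/

set_option autoImplicit false
set_option linter.style.haveILetI false
set_option maxHeartbeats 400000
universe u

open CategoryTheory CategoryTheory.Limits AlgebraicGeometry Opposite TopologicalSpace

namespace Groth.Agent.H29RR

attribute [local instance 10000] H10Coh.hasSheafifyAb H10Coh.hasWeakSheafifyAb H10Coh.hasExtAb H10Coh.enoughInjAb

variable {k : Type u} [Field k] {X : Scheme.{u}} [X.Over (Spec (CommRingCat.of k))]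

/-- A degree zero class as a global section. -/
noncomputable def sec (M : X.Modules) : Coh.HH X M 0 ≃+ Γ(M, ⊤) :=
  (H10Coh.HHEquiv M 0).trans (H10Coh.H0Equiv (H10Coh.sh M) (⊤ : X.Opens))

theorem sec_smul (M : X.Modules) (c : k) (x : Coh.HH X M 0) :
    sec M (c • x) = (H10Coh.globA (A := k) (X := X) c) • sec M x := by
  show H10Coh.H0Equiv _ _ (H10Coh.HHEquiv M 0 (c • x)) = _
  rw [H10Coh.HHEquiv_smul']
  erw [H10Coh.compMk₀_apply, H10Coh.H0Equiv_map]
  change @HSMul.hSMul (X.ringCatSheaf.obj.obj (op ⊤)) (M.val.obj (op ⊤)) (M.val.obj (op ⊤)) _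
    (Coh.resTop X (op ⊤) (H10Coh.globA c)) _ = _
  simp only [Coh.resTop, Subsingleton.elim (homOfLE (le_top (a := (⊤ : X.Opens)))) (𝟙 _)]
  erw [CategoryTheory.Functor.map_id]
  rfl

omit [Field k] [X.Over (Spec (CommRingCat.of k))] in
theorem shF_map_homOfGlobal_add (M : X.Modules) (g g' : Γ(M, ⊤)) :
    (H10Coh.shF X).map (H11Tilde.homOfGlobal M (g + g')) =
      (H10Coh.shF X).map (H11Tilde.homOfGlobal M g) + (H10Coh.shF X).map (H11Tilde.homOfGlobal M g') := by
  refine ObjectProperty.hom_ext _ ?_
  ext ⟨V⟩ r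
  change (H11Tilde.homOfGlobal M (g + g')).app V r =
    (H11Tilde.homOfGlobal M g).app V r + (H11Tilde.homOfGlobal M g').app V r
  simp only [H11Tilde.homOfGlobal_app, map_add, smul_add]

omit [Field k] [X.Over (Spec (CommRingCat.of k))] in
theorem shF_map_homOfGlobal_smul (M : X.Modules) (a : Γ(X, ⊤)) (g : Γ(M, ⊤)) :
    (H10Coh.shF X).map (H11Tilde.homOfGlobal M (a • g)) =
      (H10Coh.shF X).map (H11Tilde.homOfGlobal M g) ≫ H10Coh.smulSh M a := by
  refine ObjectProperty.hom_ext _ ?_
  ext ⟨V⟩ r
  change (H11Tilde.homOfGlobal M (a • g)).app V r =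
    (show Γ(X, V) from X.presheaf.map (homOfLE (le_top : V ≤ ⊤)).op a) • (H11Tilde.homOfGlobal M g).app V r
  simp only [H11Tilde.homOfGlobal_app, Scheme.Modules.map_smul]
  exact smul_comm _ _ _

/-- Multiplication by sections on cohomology. -/
noncomputable def mulH (M : X.Modules) (n : ℕ) :
    Coh.HH X M 0 →ₗ[k] Coh.HH X (Coh.structureModule X) n →ₗ[k] Coh.HH X M n where
  toFun v := Canon.HHlin k (H11Tilde.homOfGlobal M (sec M v)) n
  map_add' v v' := LinearMap.ext fun x => by
    show Sheaf.H.map ((H10Coh.shF X).map (H11Tilde.homOfGlobal M (sec M (v + v')))) n x = _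
    rw [map_add, shF_map_homOfGlobal_add]
    exact Sheaf.H.map_add_apply _ _ _
  map_smul' c v := LinearMap.ext fun x => by
    show Sheaf.H.map ((H10Coh.shF X).map (H11Tilde.homOfGlobal M (sec M (c • v)))) n x = _
    rw [sec_smul, shF_map_homOfGlobal_smul, Sheaf.H.map_comp_apply]
    rfl

variable [IsProper (X ↘ Spec (CommRingCat.of k))] [IsIntegral X]

/-- A nonzero section induces a surjection in degree one. -/
theorem mulH_one_surjective (hdim : topologicalKrullDim X ≤ 1) {L : X.Modules} (hL : PicF.IsInvertible L)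
    {v : Coh.HH X L 0} (hv : v ≠ 0) : Function.Surjective (mulH (k := k) L 1 v) := by
  haveI := isNoetherian_of_proper (k := k) (X := X)
  have hg : sec L v ≠ 0 := fun h => hv ((sec L).injective (h.trans (map_zero _).symm))
  obtain ⟨hm, hη⟩ := mono_homOfGlobal hL hg
  haveI := hm
  let s := H11Tilde.homOfGlobal L (sec L v)
  obtain ⟨-, hfin, hcl, -⟩ := euler_sub_of_mono (k := k) hdim (H10Coh.isCoh_structureModule' X)
    (H16Derived.KFlat.Stalk.isCoh_of_isFinLocFree (H28Pinch.isFinLocFree_of_isInvertible hL)) s hη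
  haveI : Subsingleton (Coh.HH X (cokernel s) 1) :=
    H25Par.subsingleton_HH_of_finite_support _ hfin hcl (fun y hy => not_not.1 hy) Nat.one_pos
  have hS : (ShortComplex.mk s (cokernel.π s) (cokernel.condition s)).ShortExact :=
    { exact := ShortComplex.exact_cokernel _ }
  intro x
  exact Abelian.Ext.covariant_sequence_exact₂ _ (H10Coh.shortExact_sh hS) x
    (@Subsingleton.elim (Coh.HH X (cokernel s) 1) _ _ _)

/-- Clifford's inequality in the form of Hopf's lemma. -/
theorem h0_add_h1_le [IsAlgClosed k] (hdim : topologicalKrullDim X ≤ 1) {L : X.Modules} (hL : PicF.IsInvertible L)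
    (h0 : Nontrivial (Coh.HH X L 0)) (h1 : Nontrivial (Coh.HH X L 1)) :
    Module.finrank k (Coh.HH X L 0) + Module.finrank k (Coh.HH X L 1) ≤ Curv2.genus k X + 1 := by
  haveI := finite_HH (k := k) L hL 0
  haveI := finite_HH (k := k) L hL 1
  haveI := finite_HH (k := k) _ (H11Ample.isInvertible_structureModule (X := X)) 1
  let B : Coh.HH X L 0 →ₗ[k] Module.Dual k (Coh.HH X L 1) →ₗ[k]
      Module.Dual k (Coh.HH X (Coh.structureModule X) 1) :=
    LinearMap.mk₂ k (fun v w => w ∘ₗ mulH (k := k) L 1 v)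
      (fun v v' w => by rw [map_add, LinearMap.comp_add])
      (fun c v w => by rw [map_smul, LinearMap.comp_smul])
      (fun v w w' => by rw [LinearMap.add_comp])
      (fun c v w => by rw [LinearMap.smul_comp])
  have hB : ∀ v w, B v w = 0 → v = 0 ∨ w = 0 := fun v w h => by
    refine or_iff_not_imp_left.2 fun hv => LinearMap.ext fun y => ?_
    obtain ⟨x, rfl⟩ := mulH_one_surjective (k := k) hdim hL hv y
    exact LinearMap.congr_fun h x
  have h := hopf B hB Module.finrank_pos (by rw [Subspace.dual_finrank_eq]; exact Module.finrank_pos)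
  rwa [Subspace.dual_finrank_eq, Subspace.dual_finrank_eq] at h

/-- Invertible modules of large degree have no first cohomology. -/
theorem h1_vanish_of_deg [IsAlgClosed k] (hdim : topologicalKrullDim X ≤ 1)
    (h00 : Module.finrank k (Coh.HH X (Coh.structureModule X) 0) = 1) {L : X.Modules} (hL : PicF.IsInvertible L)
    (hdeg : 2 * (Curv2.genus k X : ℤ) - 1 ≤ Curv2.deg k X L 1) : Subsingleton (Coh.HH X L 1) := by
  haveI := finite_HH (k := k) L hL 0
  haveI := finite_HH (k := k) L hL 1
  by_contra hne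
  rw [not_subsingleton_iff_nontrivial] at hne
  have hpos := Module.finrank_pos (R := k) (M := Coh.HH X L 1)
  have hrr := riemann_roch (k := k) hdim L
  rw [h00] at hrr
  have h0 : 0 < Module.finrank k (Coh.HH X L 0) := by omega
  have hle := h0_add_h1_le (k := k) hdim hL (Module.nontrivial_of_finrank_pos h0) hne
  omega

end Groth.Agent.H29RR
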