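import Groth.Agent.H29RR.Points
import Groth.Agent.H29RR.Clifford

/-!
# Sections generating at a closed point and the drop of `h⁰`
-/

set_option autoImplicit false
set_option linter.style.haveILetI false
universe u

open CategoryTheory CategoryTheory.Limits AlgebraicGeometry TopologicalSpace Opposite

namespace Groth.Agent.H29RR

attribute [local instance 10000] H10Coh.hasSheafifyAb H10Coh.hasWeakSheafifyAb H10Coh.hasExtAb H10Coh.enoughInjAb
attribute [local instance] Curv2.resAlgebra

variable {k : Type u} [Field k] {X : Scheme.{u}} [X.Over (Spec (CommRingCat.of k))]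

theorem sec_natural {M N : X.Modules} (φ : M ⟶ N) (v : Coh.HH X M 0) :
    sec N (Canon.HHlin k φ 0 v) = φ.app ⊤ (sec M v) := by
  show H10Coh.H0Equiv _ _ (H10Coh.topEquiv _ 0 (Sheaf.H.map ((H10Coh.shF X).map φ) 0 v)) = _
  rw [H10Coh.topEquiv_map, H10Coh.H0Equiv_map]
  rfl

variable [IsProper (X ↘ Spec (CommRingCat.of k))]

/-- Closed points over an algebraically closed field are rational. -/
theorem finrank_residue_eq_one [IsAlgClosed k] {x : X} (hx : IsClosed ({x} : Set X)) :
    Module.finrank k (X.residueField x) = 1 := by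
  haveI := isClosedImmersion_pt hx
  haveI := isNoetherian_of_proper (k := k) (X := X)
  haveI : Module.Finite k (Coh.HH X (ClSub.quotMod (ptIdeal x)) 0) :=
    H10Coh.finite_HH_proper k X _
      (H24FSch.isCoh_pushforward_of_isClosedImmersion (ptIdeal x).subschemeι (H10Coh.isCoh_structureModule' _)) 0
  haveI : Module.Finite k (X.residueField x) := by
    obtain ⟨e⟩ := nonempty_quotMod_pt_equiv (k := k) hx
    exact Module.Finite.equiv e
  exact ((AlgEquiv.ofBijective (Algebra.ofId k (X.residueField x))
    IsAlgClosed.algebraMap_bijective_of_isIntegral).toLinearEquiv.finrank_eq.symm.trans (Module.finrank_self k))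

/-- If `h⁰` of the quotient at `x` is one-dimensional, sections not vanishing at `x` are detected by `h⁰`. -/
theorem h0_add_one_iff {x : X} (hx : IsClosed ({x} : Set X)) (h1 : Module.finrank k (X.residueField x) = 1)
    {M : X.Modules} (hM : PicF.IsInvertible M) (hI : Coh.IsCoh (ClSub.idealMod (ptIdeal x))) :
    Module.finrank k (Coh.HH X (CohB1.tensorMod (ClSub.idealMod (ptIdeal x)) M) 0) + 1 =
        Module.finrank k (Coh.HH X M 0) ↔ ∃ g : Γ(M, ⊤), x ∈ H11Ample.gen M g := by
  haveI := isNoetherian_of_proper (k := k) (X := X)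
  let I := ptIdeal x
  let Q := ClSub.quotMod I
  have hQc : Coh.IsCoh Q :=
    H24FSch.isCoh_pushforward_of_isClosedImmersion I.subschemeι (H10Coh.isCoh_structureModule' _)
  have hsupp : CohB1.support Q ⊆ {x} := fun y hy => by
    have := LeadProper.support_subset_range (F := Q)
      (@H10Coh.isQuasicoherent_pushforward _ _ I.subschemeι inferInstance inferInstance _ H10Coh.isQuasicoherent_unit)
      I.subschemeι (Iso.refl _) hy
    rwa [range_subscheme_pt hx] at this
  let T := (DCoh.tensorBi (X := X)).flip.obj M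
  have hflat : FlatMod.IsFlat M :=
    H16Derived.KFlat.Stalk.isFlat_of_isFinLocFree (H28Pinch.isFinLocFree_of_isInvertible hM)
  haveI := H10Coh.epi_toSubscheme I
  have hS : (ShortComplex.mk (ClSub.idealModι I) (ClSub.toSubscheme I) (kernel.condition _)).ShortExact :=
    { exact := ShortComplex.exact_kernel _
      mono_f := inferInstanceAs (Mono (kernel.ι _)) }
  have hS' := H16Derived.KFlat.Stalk.isFlatObj_of_isFlat hflat _ hS
  haveI : Mono (T.map (ClSub.idealModι I)) := hS'.mono_f
  haveI : Epi (T.map (ClSub.toSubscheme I)) := hS'.epi_g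
  let u : T.obj (Coh.structureModule X) ≅ M := H10Coh.Tw.leftUnitIso M
  let j : T.obj (ClSub.idealMod I) ⟶ M := T.map (ClSub.idealModι I) ≫ u.hom
  let q : M ⟶ T.obj Q := u.inv ≫ T.map (ClSub.toSubscheme I)
  haveI : Mono j := mono_comp _ _
  haveI : Epi q := epi_comp _ _
  have hw : j ≫ q = 0 := by
    show (T.map _ ≫ u.hom) ≫ u.inv ≫ T.map _ = 0
    rw [Category.assoc, Iso.hom_inv_id_assoc, ← T.map_comp,
      show ClSub.idealModι I ≫ ClSub.toSubscheme I = 0 from kernel.condition _, T.map_zero]
  have hS'' : (ShortComplex.mk j q hw).ShortExact :=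
    ShortComplex.shortExact_of_iso (ShortComplex.isoMk
      (S₁ := (ShortComplex.mk (ClSub.idealModι I) (ClSub.toSubscheme I) (kernel.condition _)).map T)
      (S₂ := ShortComplex.mk j q hw) (Iso.refl (T.obj (ClSub.idealMod I))) u (Iso.refl (T.obj Q))
      (show 𝟙 _ ≫ j = T.map _ ≫ u.hom from Category.id_comp _)
      (show u.hom ≫ q = T.map _ ≫ 𝟙 _ by rw [Category.comp_id]; exact Iso.hom_inv_id_assoc _ _)) hS'
  have hex := H25Par.hhlin_exact (k := k) hS''
  have hinj := hhlin_zero_injective (k := k) j
  haveI : Module.Finite k (Coh.HH X M 0) := H10Coh.finite_HH_proper k X M (H16Derived.KFlat.Stalk.isCoh_of_isFinLocFree (H28Pinch.isFinLocFree_of_isInvertible hM)) 0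
  haveI : Module.Finite k (Coh.HH X (T.obj Q) 0) :=
    H10Coh.finite_HH_proper k X _ (H11Ample.isCoh_tensor hQc hM) 0
  have hTsupp : ∀ y, y ∉ ({x} : Set X) → Subsingleton ((T.obj Q).presheaf.stalk y) := fun y hy =>
    not_not.1 fun h => hy (hsupp (H25Euler.support_tensor_subset Q M h))
  have hgerm := H25Par.germs_bijective (k := k) (T.obj Q) (Set.finite_singleton x)
    (fun z hz => by obtain rfl := hz; exact hx) hTsupp
  have hq1 : Module.finrank k (Coh.HH X (T.obj Q) 0) = 1 :=
    (finrank_h0_tensor_of_finite_support (k := k) hM ((Set.finite_singleton x).subset hsupp)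
      fun z hz => by obtain rfl := hsupp hz; exact hx).trans ((finrank_h0_quotMod_pt (k := k) hx).trans h1)
  have h0 := LinearMap.finrank_range_add_finrank_ker (Canon.HHlin k q 0)
  rw [show LinearMap.ker (Canon.HHlin k q 0) = LinearMap.range (Canon.HHlin k j 0) from hex,
    LinearMap.finrank_range_of_inj hinj] at h0
  have h4 := Submodule.finrank_le (LinearMap.range (Canon.HHlin k q 0))
  have key : LinearMap.range (Canon.HHlin k q 0) ≠ ⊥ ↔ ∃ g : Γ(M, ⊤), x ∈ H11Ample.gen M g := by
    let qs := H06Mod.stalkLin q x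
    have hdetect : ∀ v : Coh.HH X M 0, Canon.HHlin k q 0 v = 0 ↔ qs (M.presheaf.germ ⊤ x trivial (sec M v)) = 0 := by
      intro v
      have e1 : qs (M.presheaf.germ ⊤ x trivial (sec M v)) =
          H25Par.germs (k := k) (T.obj Q) {x} (Canon.HHlin k q 0 v) ⟨x, rfl⟩ := by
        refine (H06Mod.stalkLin_germ _ _ _ _ _).trans ?_
        exact congrArg ((T.obj Q).presheaf.germ ⊤ x trivial) (sec_natural (k := k) q v).symm
      rw [e1]
      refine ⟨fun h => by rw [h, map_zero]; rfl, fun h => hgerm.1 ?_⟩
      rw [map_zero]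
      exact funext fun ⟨y, hy⟩ => by obtain rfl := hy; exact h
    have hsurj : Function.Surjective qs :=
      (ModuleCat.epi_iff_surjective _).1 (inferInstance : Epi ((DerSch.stalkFunctor X x).map q))
    have hne : Nontrivial ((T.obj Q).presheaf.stalk x) := by
      haveI : Nontrivial (Coh.HH X (T.obj Q) 0) := Module.nontrivial_of_finrank_pos (R := k) (by omega)
      obtain ⟨v, hv⟩ := exists_ne (0 : Coh.HH X (T.obj Q) 0)
      refine nontrivial_of_ne (H25Par.germs (k := k) (T.obj Q) {x} v ⟨x, rfl⟩ : (T.obj Q).presheaf.stalk x) 0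
        fun h => hv (hgerm.1 ?_)
      rw [map_zero]
      exact funext fun ⟨y, hy⟩ => by obtain rfl := hy; exact h
    constructor
    · intro hr
      obtain ⟨_, ⟨v, rfl⟩, hv⟩ := Submodule.exists_mem_ne_zero_of_ne_bot hr
      refine ⟨sec M v, (H11Ample.mem_gen_iff hM _ x).2 ?_⟩
      obtain ⟨V, e, hxV, he⟩ := H11Ample.exists_gen hM x
      obtain ⟨r, hr⟩ := (he x hxV).2 (M.presheaf.germ ⊤ x trivial (sec M v))
      change r • M.presheaf.germ V x hxV e = _ at hr
      rw [← hr]
      have hu : IsUnit r := by
        by_contra hr0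
        have hv' : qs (M.presheaf.germ V x hxV e) ≠ 0 := fun h =>
          hv ((hdetect v).2 (by rw [← hr, map_smul, h, smul_zero]))
        let P := (LinearMap.proj (R := k) (φ := fun y : ({x} : Set X) => H25Par.Stk k (T.obj Q) y.1) ⟨x, rfl⟩).comp
          (H25Par.germs (k := k) (T.obj Q) {x})
        have hP : Function.Bijective P := by
          refine ⟨fun v w hvw => hgerm.1 (funext fun ⟨y, hy⟩ => by obtain rfl := hy; exact hvw), fun t => ?_⟩
          let f : ∀ y : ({x} : Set X), H25Par.Stk k (T.obj Q) y.1 := fun ⟨y, hy⟩ => by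
            rw [Set.mem_singleton_iff] at hy
            subst hy
            exact t
          obtain ⟨w, hw⟩ := hgerm.2 f
          exact ⟨w, congrFun hw ⟨x, rfl⟩⟩
        have hd : Module.finrank k (H25Par.Stk k (T.obj Q) x) = 1 :=
          (LinearEquiv.ofBijective P hP).finrank_eq.symm.trans hq1
        obtain ⟨c, hc⟩ := exists_smul_eq_of_finrank_eq_one hd
          (show (qs (M.presheaf.germ V x hxV e) : H25Par.Stk k (T.obj Q) x) ≠ 0 from hv')
          (r • qs (M.presheaf.germ V x hxV e))
        change H25Par.constStalk (k := k) x c • qs (M.presheaf.germ V x hxV e) = r • qs (M.presheaf.germ V x hxV e) at hc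
        by_cases hc0 : c = 0
        · rw [hc0, map_zero, zero_smul] at hc
          exact hv ((hdetect v).2 (by rw [← hr, map_smul, ← hc]))
        · have hu' : IsUnit (H25Par.constStalk (k := k) x c - r) := by
            have h1 : IsUnit (H25Par.constStalk (k := k) x c) := (Ne.isUnit hc0).map _
            by_contra h
            exact (IsLocalRing.nonunits_add (hr0 : r ∈ nonunits _) (h : _ ∈ nonunits _)) (by simpa using h1)
          refine hv' (hu'.smul_eq_zero.1 ?_)
          rw [sub_smul, hc, sub_self]
      have h2 := he x hxV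
      refine (congrArg Function.Bijective (funext fun a => ?_)).mp (h2.comp (hu.unit.mulRight.bijective))
      show (a * r) • _ = _
      rw [mul_smul]
    · rintro ⟨g, hg⟩ hr
      have hb := (H11Ample.mem_gen_iff hM g x).1 hg
      have h0' : qs (M.presheaf.germ ⊤ x trivial g) = 0 := by
        obtain ⟨v, rfl⟩ := (sec M).surjective g
        exact (hdetect v).1 (by
          have : Canon.HHlin k q 0 v ∈ LinearMap.range (Canon.HHlin k q 0) := ⟨v, rfl⟩
          rwa [hr, Submodule.mem_bot] at this)
      obtain ⟨w, hw⟩ := exists_ne (0 : (T.obj Q).presheaf.stalk x)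
      obtain ⟨z, rfl⟩ := hsurj w
      obtain ⟨a, rfl⟩ := hb.2 z
      exact hw (by rw [map_smul, h0', smul_zero])
  rw [← key, Ne, ← Submodule.finrank_eq_zero]
  change Module.finrank k (Coh.HH X (T.obj (ClSub.idealMod I)) 0) + 1 = _ ↔ _
  change Module.finrank k _ + Module.finrank k (Coh.HH X (T.obj (ClSub.idealMod I)) 0) =
    Module.finrank k (Coh.HH X M 0) at h0
  omega

end Groth.Agent.H29RR
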