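import Groth.Agent.H29Ref.BigOpen
import Groth.Agent.H29Ref.Rational
import Groth.Agent.H25Euler.Degree
import Groth.Agent.H25Par.CurveLocFree
import Groth.Agent.H10Coh.QcqsPush
import Groth.Agent.H10Coh.FinType2
import Groth.Agent.H7Lim.ModExact
import Groth.Agent.LeadDev.Basic
import Groth.Agent.H11Ample.RelQuasiAffine
import Groth.Agent.H11Tilde.ModLoc

/-!
# Comparing an invertible module with the structure module on an integral scheme
-/

set_option autoImplicit false
set_option linter.style.haveILetI false
universe u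

open CategoryTheory CategoryTheory.Limits AlgebraicGeometry Opposite TopologicalSpace

namespace Groth.Agent.H29RR

variable {X : Scheme.{u}}

/-- The unit of restriction to an open is an isomorphism on stalks over that open. -/
theorem isIso_stalk_unit (F : X.Modules) (V : X.Opens) {x : X} (hx : x ∈ V) :
    IsIso ((DerSch.stalkFunctor X x).map ((Scheme.Modules.restrictAdjunction V.ι).unit.app F)) := by
  let η := (Scheme.Modules.restrictAdjunction V.ι).unit.app F
  have h1 : IsIso ((Scheme.Modules.restrictFunctor V.ι).map η) := by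
    haveI : IsIso ((Scheme.Modules.restrictFunctor V.ι).map η ≫
        (Scheme.Modules.restrictAdjunction V.ι).counit.app ((Scheme.Modules.restrictFunctor V.ι).obj F)) := by
      erw [(Scheme.Modules.restrictAdjunction V.ι).left_triangle_components]
      infer_instance
    exact IsIso.of_isIso_comp_right _ ((Scheme.Modules.restrictAdjunction V.ι).counit.app _)
  haveI h0 : IsIso ((Scheme.Modules.restrictFunctor V.ι ⋙ Scheme.Modules.toPresheaf _ ⋙
      TopCat.Presheaf.stalkFunctor AddCommGrpCat.{u} (⟨x, hx⟩ : V.toScheme)).map η) := by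
    rw [Functor.comp_map]; infer_instance
  have h := (NatIso.isIso_map_iff (Scheme.Modules.restrictStalkNatIso V.ι (⟨x, hx⟩ : V.toScheme)) η).1 h0
  have hb := ConcreteCategory.bijective_of_isIso
    ((Scheme.Modules.toPresheaf X ⋙ TopCat.Presheaf.stalkFunctor AddCommGrpCat.{u} (V.ι (⟨x, hx⟩ : V.toScheme))).map η)
  rw [ConcreteCategory.isIso_iff_bijective]
  exact hb

/-- A torsion-free quasi-coherent module injects into its extension from a nonempty open. -/
theorem mono_unit [IsIntegral X] (F : X.Modules) (hF : Coh.IsQCoh F) (hFt : TorSh.IsTorsionFree F) (V : X.Opens)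
    (hV : genericPoint X ∈ V) : Mono ((Scheme.Modules.restrictAdjunction V.ι).unit.app F) := by
  refine H11Tilde.mono_of_injective _ fun W s hs x hx => ⟨W, le_rfl, hx, ?_⟩
  suffices key : Function.Injective (F.presheaf.map (homOfLE (V.ι.image_preimage_le W)).op) by
    rw [Scheme.Modules.restrictAdjunction_unit_app_app] at hs
    have : s = 0 := key (hs.trans (map_zero _).symm)
    rw [this, map_zero]
  intro a b hab
  have hη : genericPoint X ∈ W := H29Ref.genericPoint_mem hx
  refine H29Ref.germ_generic_injective F hF hFt hη ?_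
  have h := congrArg (F.presheaf.germ (V.ι ''ᵁ V.ι ⁻¹ᵁ W) (genericPoint X) ⟨⟨_, hV⟩, hη, rfl⟩) hab
  exact ((TopCat.Presheaf.germ_res_apply F.presheaf _ _ _ a).symm.trans h).trans
    (TopCat.Presheaf.germ_res_apply F.presheaf _ _ _ b)

/-- An invertible module and the structure module share a coherent submodule, full at the generic point. -/
theorem exists_common [IsIntegral X] [IsNoetherian X] (L : X.Modules) (hL : PicF.IsInvertible L) :
    ∃ (K : X.Modules) (a : K ⟶ Coh.structureModule X) (b : K ⟶ L), Coh.IsCoh K ∧ Mono a ∧ Mono b ∧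
      genericPoint X ∉ CohB1.support (cokernel a) ∧ genericPoint X ∉ CohB1.support (cokernel b) := by
  obtain ⟨V, hV, ⟨e⟩⟩ := hL (genericPoint X)
  have hLf := H28Pinch.isFinLocFree_of_isInvertible hL
  have hLc : Coh.IsCoh L := H16Derived.KFlat.Stalk.isCoh_of_isFinLocFree hLf
  have hOc : Coh.IsCoh (Coh.structureModule X) := H10Coh.isCoh_structureModule' X
  have hOf : FlatMod.IsFinLocFree (Coh.structureModule X) :=
    H28Pinch.isFinLocFree_of_isInvertible (H11Ample.isInvertible_structureModule (X := X))
  let ηL := (Scheme.Modules.restrictAdjunction V.ι).unit.app L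
  let ηO := (Scheme.Modules.restrictAdjunction V.ι).unit.app (Coh.structureModule X)
  haveI : Mono ηL := mono_unit L hLc.1 (H25Par.isTorsionFree_of_locFree hLf) V hV
  haveI : Mono ηO := mono_unit _ hOc.1 (H25Par.isTorsionFree_of_locFree hOf) V hV
  let e' := (Scheme.Modules.restrictUnitIso V.ι) ≪≫ e.symm
  let ψ : Coh.structureModule X ⟶ _ := ηO ≫ (Scheme.Modules.pushforward V.ι).map e'.hom
  haveI : Mono ψ := inferInstanceAs (Mono (ηO ≫ _))
  let φ : Coh.structureModule X ⊞ L ⟶ _ := biprod.desc ψ (-ηL)
  let a : kernel φ ⟶ Coh.structureModule X := kernel.ι φ ≫ biprod.fst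
  let b : kernel φ ⟶ L := kernel.ι φ ≫ biprod.snd
  have hab : a ≫ ψ = b ≫ ηL := by
    have h := kernel.condition φ
    simp only [φ, biprod.desc_eq, Preadditive.comp_add, Preadditive.comp_neg, add_neg_eq_zero] at h
    simpa [a, b] using h
  haveI : Mono a := by
    refine Preadditive.mono_of_cancel_zero _ fun g hg => ?_
    have hb : g ≫ b = 0 := by rw [← cancel_mono ηL, Category.assoc, ← hab, reassoc_of% hg, zero_comp, zero_comp]
    rw [← cancel_mono (kernel.ι φ), zero_comp]
    refine biprod.hom_ext _ _ ?_ ?_
    · rw [Category.assoc, zero_comp]; exact hg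
    · rw [Category.assoc, zero_comp]; exact hb
  haveI : Mono b := by
    refine Preadditive.mono_of_cancel_zero _ fun g hg => ?_
    have hb : g ≫ a = 0 := by rw [← cancel_mono ψ, Category.assoc, hab, reassoc_of% hg, zero_comp, zero_comp]
    rw [← cancel_mono (kernel.ι φ), zero_comp]
    refine biprod.hom_ext _ _ ?_ ?_
    · rw [Category.assoc, zero_comp]; exact hb
    · rw [Category.assoc, zero_comp]; exact hg
  haveI : (Coh.structureModule X).IsQuasicoherent := hOc.1
  haveI : L.IsQuasicoherent := hLc.1
  have hP : Coh.IsQCoh ((Scheme.Modules.pushforward V.ι).obj (L.restrict V.ι)) :=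
    haveI : (L.restrict V.ι).IsQuasicoherent := LeadDev.isQCoh_restrict V.ι L hLc.1
    H10Coh.isQuasicoherent_pushforward V.ι _
  have hK : Coh.IsQCoh (kernel φ) := H7Lim.ModExact.isQCoh_kernel φ (LeadDev.isCoh_biprod hOc hLc).1 hP
  have hKc : Coh.IsCoh (kernel φ) := H10Coh.isCoh_of_mono a hK hOc
  -- at the generic point both projections are isomorphisms
  let T := DerSch.stalkFunctor X (genericPoint X)
  haveI : IsIso (T.map ηL) := isIso_stalk_unit L V hV
  haveI : IsIso (T.map ηO) := isIso_stalk_unit _ V hV
  haveI : IsIso (T.map ψ) := by rw [Functor.map_comp]; infer_instance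
  have hpb : IsPullback a b ψ ηL := by
    refine ⟨⟨hab⟩, ⟨PullbackCone.IsLimit.mk _
      (fun s => kernel.lift φ (biprod.lift s.fst s.snd) (by
        simp [φ, biprod.desc_eq, s.condition])) ?_ ?_ ?_⟩⟩
    · intro s; simp [a]
    · intro s; simp [b]
    · intro s m h1 h2
      rw [← cancel_mono (kernel.ι φ), kernel.lift_ι]
      refine biprod.hom_ext _ _ ?_ ?_
      · rw [Category.assoc, biprod.lift_fst]; exact h1
      · rw [Category.assoc, biprod.lift_snd]; exact h2
  have hpb' := hpb.map T
  refine ⟨kernel φ, a, b, hKc, inferInstance, inferInstance, ?_, ?_⟩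
  · exact (H25Euler.notMem_support_kernel_cokernel a hpb'.isIso_fst_of_isIso).2
  · exact (H25Euler.notMem_support_kernel_cokernel b hpb'.isIso_snd_of_isIso).2

end Groth.Agent.H29RR
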