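import Groth.Agent.H29RR.EvalPoint
import Groth.Agent.H29RR.Choice
import Groth.Agent.H29RR.Pencil

/-!
# Small lemmas: closed points of regular curves, cohomology of a sum of two modules
-/

set_option autoImplicit false
set_option linter.style.haveILetI false
universe u

open CategoryTheory CategoryTheory.Limits AlgebraicGeometry TopologicalSpace Opposite

namespace Groth.Agent.H29RR

attribute [local instance 10000] H10Coh.hasSheafifyAb H10Coh.hasWeakSheafifyAb H10Coh.hasExtAb H10Coh.enoughInjAb
attribute [local instance] Curv2.resAlgebra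

variable {k : Type u} [Field k] {X : Scheme.{u}} [X.Over (Spec (CommRingCat.of k))]
  [IsProper (X ↘ Spec (CommRingCat.of k))] [IsIntegral X]

omit [IsIntegral X] [IsProper (X ↘ Spec (CommRingCat.of k))] in
/-- `H^q` of a sum of two modules. -/
theorem finrank_hh_biprod (M N : X.Modules) (q : ℕ) [Module.Finite k (Coh.HH X M q)]
    [Module.Finite k (Coh.HH X N q)] :
    Module.finrank k (Coh.HH X (M ⊞ N) q) = Module.finrank k (Coh.HH X M q) + Module.finrank k (Coh.HH X N q) := by
  let f := (Canon.HHlin k (biprod.fst : M ⊞ N ⟶ M) q).prod (Canon.HHlin k (biprod.snd : M ⊞ N ⟶ N) q)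
  let g := (Canon.HHlin k (biprod.inl : M ⟶ M ⊞ N) q).coprod (Canon.HHlin k (biprod.inr : N ⟶ M ⊞ N) q)
  let e : Coh.HH X (M ⊞ N) q ≃ₗ[k] Coh.HH X M q × Coh.HH X N q :=
    LinearEquiv.ofLinear f g (LinearMap.ext fun v => by
      simp only [f, g, LinearMap.comp_apply, LinearMap.prod_apply, Function.prod_apply, Pi.prod,
        LinearMap.coprod_apply, map_add, ← hhlin_comp, LinearMap.id_apply]
      simp [hhlin_id, hhlin_zero]) (LinearMap.ext fun v => by
      simp only [f, g, LinearMap.comp_apply, LinearMap.prod_apply, Function.prod_apply, Pi.prod,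
        LinearMap.coprod_apply, ← hhlin_comp, LinearMap.id_apply]
      rw [← hhlin_add, biprod.total, hhlin_id])
  rw [e.finrank_eq, Module.finrank_prod]

omit [IsIntegral X] in
include k in
theorem notMem_support_of_surjective {E F : X.Modules} (φ : E ⟶ F) {x : X}
    (h : Function.Surjective (H06Mod.stalkLin φ x)) : x ∉ CohB1.support (cokernel φ) :=
  not_not.2 (H10Coh.subsingleton_stalk_cokernel φ x h)

include k in
/-- A closed point of a regular curve is an effective Cartier divisor. -/
theorem isInvertible_pt_of_regular (hdim : topologicalKrullDim X = 1) {x : X} (hx : IsClosed ({x} : Set X))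
    [IsRegularLocalRing (X.presheaf.stalk x)] :
    PicF.IsInvertible (ClSub.idealMod (ptIdeal x)) := by
  haveI := isNoetherian_of_proper (k := k) (X := X)
  have hle : ringKrullDim (X.presheaf.stalk x) ≤ 1 :=
    (H8Props.FlatDimOneBase.ringKrullDim_stalk_le X x).trans hdim.le
  haveI := H8Props.FlatDimOneBase.isPrincipalIdealRing_of_dim_le_one _ hle
  refine isInvertible_ptIdeal hx (IsPrincipalIdealRing.principal _) (le_antisymm hle ?_)
  obtain ⟨d, hd⟩ := H4Depth.exists_nat_ringKrullDim_eq (R := X.presheaf.stalk x)
  rcases Nat.eq_zero_or_pos d with rfl | hpos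
  · exfalso
    have hgen := (H12AlgSp.ringKrullDim_stalk_eq_zero_iff x).1 (by rw [hd]; rfl)
    have h1 : genericPoint X = x := (H8Props.mem_genericPoints_iff.1 hgen) _ (genericPoint_specializes x)
    haveI : Subsingleton X := ⟨fun a b => by
      have key : ∀ c : X, c = x := fun c => by
        have hc : c ∈ closure ({genericPoint X} : Set X) := (genericPoint_specializes c).mem_closure
        rw [h1, hx.closure_eq] at hc
        exact hc
      rw [key a, key b]⟩
    have := topologicalKrullDim_zero_of_discreteTopology X
    rw [hdim] at this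
    exact not_le.2 zero_lt_one this
  · rw [hd]; exact_mod_cast hpos

end Groth.Agent.H29RR
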