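import Groth.Agent.H29RR.Invert
import Groth.Agent.H22Alg.PB.Local

/-!
# Line subbundles of rank two bundles
-/

set_option autoImplicit false
set_option linter.style.haveILetI false
universe u

open CategoryTheory CategoryTheory.Limits AlgebraicGeometry Opposite TopologicalSpace

namespace Groth.Agent.H29RR

attribute [local instance 10000] H10Coh.hasSheafifyAb H10Coh.hasWeakSheafifyAb H10Coh.hasExtAb H10Coh.enoughInjAb

variable {k : Type u} [Field k] {X : Scheme.{u}} [X.Over (Spec (CommRingCat.of k))]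
  [IsProper (X ↘ Spec (CommRingCat.of k))] [IsIntegral X]

include k in
theorem not_isZero_of_rank {M : X.Modules} {n : ℕ} (h : FlatMod.IsFinLocFreeOfRank n M) (hn : 0 < n) :
    ¬ IsZero M := fun h0 => by
  haveI := isNoetherian_of_proper (k := k) (X := X)
  obtain ⟨-, -, h3⟩ := H25Par.finrank_stalk h (genericPoint X)
  haveI : Subsingleton (M.presheaf.stalk (genericPoint X)) :=
    ModuleCat.isZero_iff_subsingleton.1 ((DerSch.stalkFunctor X (genericPoint X)).map_isZero h0)
  rw [Module.finrank_zero_of_subsingleton] at h3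
  omega

/-- A nonsplit extension of line bundles forces nonvanishing twisted first cohomology. -/
theorem exists_nonvanishing_twist (hdim : topologicalKrullDim X ≤ 1) {E L : X.Modules}
    (hE : FlatMod.IsFinLocFreeOfRank 2 E) (hL : PicF.IsInvertible L) (i : L ⟶ E) [Mono i]
    (hq : PicF.IsInvertible (cokernel i)) (hns : ¬ IsSplitEpi (cokernel.π i)) :
    ∃ M' : X.Modules, PicF.IsInvertible M' ∧ Nonempty (CohB1.tensorMod (cokernel i) M' ≅ Coh.structureModule X) ∧
      Nontrivial (Coh.HH X (CohB1.tensorMod L M') 1) ∧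
      Curv2.deg k X (CohB1.tensorMod L M') 1 = 2 * Curv2.deg k X L 1 - Curv2.deg k X E 2 := by
  obtain ⟨M', hM', ⟨e⟩⟩ := exists_inverse_comm hq
  refine ⟨M', hM', ⟨e⟩, ?_, ?_⟩
  · by_contra h
    rw [not_nontrivial_iff_subsingleton] at h
    exact hns (isSplitEpi_of_h1 (k := k) (S := ShortComplex.mk i (cokernel.π i) (cokernel.condition i))
      { exact := ShortComplex.exact_cokernel _ } hM' e h)
  · obtain ⟨-, hd⟩ := deg_add_of_shortExact (k := k)
      (S := ShortComplex.mk i (cokernel.π i) (cokernel.condition i)) { exact := ShortComplex.exact_cokernel _ }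
      (rank_one_of_isInvertible hL) hE (rank_one_of_isInvertible hq)
    change Curv2.deg k X E 2 = Curv2.deg k X L 1 + Curv2.deg k X (cokernel i) 1 at hd
    have h1 := deg_tensor (k := k) hdim hq hM'
    rw [deg_congr (k := k) e, deg_structureModule] at h1
    rw [deg_tensor (k := k) hdim hL hM']
    omega

/-- A split extension gives a decomposition. -/
theorem nonempty_iso_of_split {E L : X.Modules} (i : L ⟶ E) [Mono i] (h : IsSplitEpi (cokernel.π i)) :
    Nonempty (E ≅ L ⊞ cokernel i) := by
  obtain ⟨⟨⟨σ, hσ⟩⟩⟩ := h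
  exact ⟨(ShortComplex.Splitting.ofExactOfSection (ShortComplex.mk i (cokernel.π i) (cokernel.condition i))
    (ShortComplex.exact_cokernel _) σ hσ inferInstance).isoBinaryBiproduct⟩

variable [Smooth (X ↘ Spec (CommRingCat.of k))]

/-- Every line subbundle lies in a saturated one of at least its degree. -/
theorem exists_saturated_line (hdim : topologicalKrullDim X ≤ 1) {E L : X.Modules}
    (hE : FlatMod.IsFinLocFreeOfRank 2 E) (hL : PicF.IsInvertible L) (i : L ⟶ E) [Mono i] :
    ∃ (G : X.Modules) (j : G ⟶ E), Mono j ∧ PicF.IsInvertible G ∧ PicF.IsInvertible (cokernel j) ∧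
      Curv2.deg k X L 1 ≤ Curv2.deg k X G 1 := by
  obtain ⟨G, j, c, hj, hG, hc, hr, hle, -⟩ :=
    exists_saturated_quotient (k := k) hdim hE (rank_one_of_isInvertible hL) i
  obtain rfl : c = 1 := by omega
  exact ⟨G, j, hj, H22Alg.PB.isInvertible_of_rank_one hG, H22Alg.PB.isInvertible_of_rank_one hc, hle⟩

/-- Line subsheaves of an indecomposable rank two bundle. -/
theorem two_deg_le_of_nonsplit [IsAlgClosed k] (hdim : topologicalKrullDim X ≤ 1) {E L : X.Modules}
    (hE : FlatMod.IsFinLocFreeOfRank 2 E) (hL : PicF.IsInvertible L) (i : L ⟶ E) [Mono i]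
    (hind : ∀ (G : X.Modules) (j : G ⟶ E), Mono j → PicF.IsInvertible G → PicF.IsInvertible (cokernel j) →
      ¬ IsSplitEpi (cokernel.π j)) :
    2 * Curv2.deg k X L 1 ≤ Curv2.deg k X E 2 + 2 * (Curv2.genus k X : ℤ) - 2 := by
  obtain ⟨G, j, hj, hG, hq, hle⟩ := exists_saturated_line (k := k) hdim hE hL i
  haveI := hj
  obtain ⟨M', hM', -, hnt, hd⟩ := exists_nonvanishing_twist (k := k) hdim hE hG j hq (hind G j hj hG hq)
  by_contra hlt
  exact not_subsingleton_iff_nontrivial.2 hnt (h1_vanish_of_deg (k := k) hdim (finrank_h0_structure k X)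
    (H11Ample.isInvertible_tensor hG hM') (by omega))

/-- Rank two bundles have line subsheaves of degree at least `deg E / 2 - g`. -/
theorem exists_sub_deg_ge [IsAlgClosed k] (hdim : topologicalKrullDim X = 1) {E : X.Modules}
    (hE : FlatMod.IsFinLocFreeOfRank 2 E) :
    ∃ (L : X.Modules) (i : L ⟶ E), PicF.IsInvertible L ∧ Mono i ∧
      Curv2.deg k X E 2 - 2 * (Curv2.genus k X : ℤ) ≤ 2 * Curv2.deg k X L 1 := by
  haveI := isNoetherian_of_proper (k := k) (X := X)
  let t : ℤ := (2 * (Curv2.genus k X : ℤ) - Curv2.deg k X E 2) / 2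
  obtain ⟨M, hM, hdM⟩ := exists_deg (k := k) hdim t
  obtain ⟨N, hN, ⟨e⟩⟩ := exists_inverse_comm hM
  have hT := rank_tensor hE hM
  have hd := deg_tensor_bundle (k := k) hdim.le hE hM
  have hχ := euler_eq_sub (k := k) hdim.le (CohB1.tensorMod E M)
  have hO := euler_eq_sub (k := k) hdim.le (Coh.structureModule X)
  rw [finrank_h0_structure k X,
    show Module.finrank k (Coh.HH X (Coh.structureModule X) 1) = Curv2.genus k X from rfl] at hO
  have hd2 : Curv2.euler k X (CohB1.tensorMod E M) = Curv2.deg k X (CohB1.tensorMod E M) 2 +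
      2 * Curv2.euler k X (Coh.structureModule X) := by simp [Curv2.deg]
  haveI : Nontrivial (Coh.HH X (CohB1.tensorMod E M) 0) := Module.nontrivial_of_finrank_pos (R := k) (by
    rw [hd2, hd, hdM, hO] at hχ
    simp only [t] at hχ
    omega)
  obtain ⟨φ, hφ⟩ := exists_hom_of_section hN e (inferInstance : Nontrivial (Coh.HH X (CohB1.tensorMod E M) 0))
  obtain ⟨a, r, -, -, har, -, hr0, hmono, -⟩ :=
    exists_image_data (k := k) hdim.le (rank_one_of_isInvertible hN) hE φ
  have hr := hr0 hφ
  haveI := hmono (by omega)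
  refine ⟨N, φ, hN, inferInstance, ?_⟩
  have h1 := deg_tensor (k := k) hdim.le hM hN
  rw [deg_congr (k := k) e, deg_structureModule, hdM] at h1
  simp only [t] at h1
  omega

end Groth.Agent.H29RR

namespace Groth.Agent.H29RR

attribute [local instance 10000] H10Coh.hasSheafifyAb H10Coh.hasWeakSheafifyAb H10Coh.hasExtAb H10Coh.enoughInjAb

variable {k : Type u} [Field k] {X : Scheme.{u}} [X.Over (Spec (CommRingCat.of k))]
  [IsProper (X ↘ Spec (CommRingCat.of k))] [IsIntegral X]

/-- In a module without sections after negative twists, line subsheaves have degree at most zero. -/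
theorem deg_sub_nonpos [IsAlgClosed k] (hdim : topologicalKrullDim X ≤ 1) {E : X.Modules}
    (hneg : ∀ M : X.Modules, PicF.IsInvertible M → Curv2.deg k X M 1 < 0 →
      Subsingleton (Coh.HH X (CohB1.tensorMod E M) 0))
    {L : X.Modules} (hL : PicF.IsInvertible L) (i : L ⟶ E) [Mono i] : Curv2.deg k X L 1 ≤ 0 := by
  haveI := isNoetherian_of_proper (k := k) (X := X)
  have h00 := finrank_h0_structure k X
  by_contra hpos
  obtain ⟨M, hM, ⟨e⟩⟩ := exists_inverse_comm hL
  have hd := deg_tensor (k := k) hdim hL hM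
  rw [deg_congr (k := k) e, deg_structureModule] at hd
  haveI := hneg M hM (by omega)
  let T := (DCoh.tensorBi (X := X)).flip.obj M
  haveI : Mono (T.map i) :=
    (H16Derived.KFlat.Stalk.isFlatObj_of_isFlat
      (H16Derived.KFlat.Stalk.isFlat_of_isFinLocFree (H28Pinch.isFinLocFree_of_isInvertible hM))
      (ShortComplex.mk i (cokernel.π i) (cokernel.condition i))
      { exact := ShortComplex.exact_cokernel _ }).mono_f
  haveI : Subsingleton (Coh.HH X (CohB1.tensorMod L M) 0) :=
    ⟨fun a b => hhlin_zero_injective (k := k) (T.map i)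
      (@Subsingleton.elim (Coh.HH X (CohB1.tensorMod E M) 0) _ _ _)⟩
  rw [← (hhIso (k := k) e 0).finrank_eq, Module.finrank_zero_of_subsingleton] at h00
  omega

/-- A nonzero map out of an invertible module into a bundle is injective. -/
theorem mono_of_invertible [Smooth (X ↘ Spec (CommRingCat.of k))] (hdim : topologicalKrullDim X ≤ 1)
    {L F : X.Modules} {n : ℕ} (hL : PicF.IsInvertible L) (hF : FlatMod.IsFinLocFreeOfRank n F) {φ : L ⟶ F}
    (hφ : φ ≠ 0) : Mono φ := by
  obtain ⟨a, r, -, -, har, -, hr0, hmono, -⟩ :=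
    exists_image_data (k := k) hdim (rank_one_of_isInvertible hL) hF φ
  have := hr0 hφ
  exact hmono (by omega)

/-- The endomorphisms of an invertible module over an algebraically closed field are scalars. -/
theorem scalar_of_invertible [IsAlgClosed k] [Smooth (X ↘ Spec (CommRingCat.of k))]
    (hdim : topologicalKrullDim X ≤ 1) {L : X.Modules} (hL : PicF.IsInvertible L) (f : L ⟶ L) :
    ∃ c : k, f = Formal.smulMod k L c :=
  scalar_of_stable (k := k) hdim (rank_one_of_isInvertible hL) (fun _ s _ _ h0 h1 _ => by omega) f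

theorem homOfGlobal_ne_zero' {E : X.Modules} {g : Γ(E, ⊤)} (hg : g ≠ 0) : H11Tilde.homOfGlobal E g ≠ 0 := fun h0 =>
  hg (by
    have h := congrArg (fun φ : Coh.structureModule X ⟶ E => φ.app ⊤ (1 : Γ(X, ⊤))) h0
    simpa [H11Tilde.homOfGlobal_app] using h)

/-- An extension of bundles is a bundle. -/
theorem exists_rank_of_extension [Smooth (X ↘ Spec (CommRingCat.of k))] (hdim : topologicalKrullDim X ≤ 1)
    {S : ShortComplex X.Modules} (hS : S.ShortExact) {a c : ℕ}
    (h₁ : FlatMod.IsFinLocFreeOfRank a S.X₁) (h₃ : FlatMod.IsFinLocFreeOfRank c S.X₃) :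
    FlatMod.IsFinLocFreeOfRank (a + c) S.X₂ := by
  haveI := isNoetherian_of_proper (k := k) (X := X)
  have t1 := H25Par.isTorsionFree_of_locFree (locFree_of_rank h₁)
  have t3 := H25Par.isTorsionFree_of_locFree (locFree_of_rank h₃)
  have htf : TorSh.IsTorsionFree S.X₂ := fun y => by
    have hT := hS.map_of_exact (DerSch.stalkFunctor X y)
    have hinj := hT.moduleCat_injective_f
    haveI : Module.IsTorsionFree (X.presheaf.stalk y) ((DerSch.stalkFunctor X y).obj S.X₁) := t1 y
    haveI : Module.IsTorsionFree (X.presheaf.stalk y) ((DerSch.stalkFunctor X y).obj S.X₃) := t3 y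
    suffices Module.IsTorsionFree (X.presheaf.stalk y) ((DerSch.stalkFunctor X y).obj S.X₂) from this
    let f := ((DerSch.stalkFunctor X y).map S.f).hom
    let g := ((DerSch.stalkFunctor X y).map S.g).hom
    have hex : ∀ x, g x = 0 → ∃ u, f u = x := (ShortComplex.moduleCat_exact_iff _).1 hT.exact
    refine ⟨fun r hr v w hvw => ?_⟩
    have hvw' : r • (v - w) = 0 := by rw [smul_sub]; exact sub_eq_zero.2 hvw
    obtain ⟨u, hu⟩ := hex (v - w) (hr.isSMulRegular (((g.map_smul r (v - w)).symm.trans
      ((congrArg g hvw').trans g.map_zero)).trans (smul_zero r).symm))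
    have h0 : r • u = 0 := hinj ((f.map_smul r u).trans ((congrArg (r • ·) hu).trans (hvw'.trans f.map_zero.symm)))
    have hu0 : u = 0 := hr.isSMulRegular (h0.trans (smul_zero r).symm)
    rw [hu0, f.map_zero, eq_comm, sub_eq_zero] at hu
    exact hu
  obtain ⟨n, hn⟩ := H25Par.exists_rank k hdim (H10Coh.isCoh_X₂ hS (isCoh_of_rank h₁) (isCoh_of_rank h₃)) htf
  obtain ⟨rfl, -⟩ := deg_add_of_shortExact (k := k) hS h₁ hn h₃
  exact hn

end Groth.Agent.H29RR
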