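import Groth.Agent.H29RR.PnSplit
import Groth.Agent.H29RR.FiniteGen
import Groth.Agent.H29RR.SubBundle
import Groth.Agent.H29RR.RankTwo
import Groth.Agent.H29RR.PointAux
import Groth.Agent.H26Smooth.ProjSmooth
import Groth.Agent.H28Curve.ProjLine
import Groth.Agent.H11Ample.Converse
import Groth.Agent.H19Grp.ProjPoint
import Groth.Agent.H27Weil.Geometry
import Groth.Agent.S1697
import Groth.Agent.S2325

/-!
# Vector bundles on the projective line split
-/

set_option autoImplicit false
set_option linter.style.haveILetI false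
universe u

open CategoryTheory CategoryTheory.Limits AlgebraicGeometry TopologicalSpace Opposite

namespace Groth.Agent.H29RR.PnPic

attribute [local instance 10000] H10Coh.hasSheafifyAb H10Coh.hasWeakSheafifyAb H10Coh.hasExtAb H10Coh.enoughInjAb

noncomputable section

/-- Split off the first summand of a finite coproduct. -/
def consIso {C : Type*} [Category C] [Preadditive C] [HasFiniteCoproducts C] [HasBinaryBiproducts C]
    {r : ℕ} (F : Fin (r + 1) → C) : (∐ F) ≅ F 0 ⊞ ∐ fun i : Fin r => F i.succ where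
  hom := Sigma.desc (Fin.cases biprod.inl fun i => Sigma.ι (fun i : Fin r => F i.succ) i ≫ biprod.inr)
  inv := biprod.desc (Sigma.ι F 0) (Sigma.desc fun i => Sigma.ι F i.succ)
  hom_inv_id := Sigma.hom_ext _ _ fun b => by cases b using Fin.cases <;> simp
  inv_hom_id := biprod.hom_ext' _ _ (by simp) (by
    simp only [biprod.inr_desc_assoc, Category.comp_id]
    exact Sigma.hom_ext _ _ fun b => by simp)

variable {k : Type u} [Field k] {n : ℕ}

/-- The structure morphism as an instance. -/
abbrev overSpec (n : ℕ) (k : Type u) [Field k] : (CohB1.ProjSpace n k).Over (Spec (CommRingCat.of k)) :=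
  ⟨CohB1.ProjSpace.toSpec n k⟩

attribute [local instance] overSpec

theorem finite_hh (d : ℤ) (q : ℕ) :
    Module.Finite k (Coh.HH (CohB1.ProjSpace n k) (Twist.twistProjSpace n k d) q) := by
  haveI : IsProper (CohB1.ProjSpace n k ↘ Spec (CommRingCat.of k)) := H27Weil.isProper_toSpec n k
  haveI := isNoetherian_of_proper (k := k) (X := CohB1.ProjSpace n k)
  exact H10Coh.finite_HH_proper k _ _ (H16Derived.KFlat.Stalk.isCoh_of_isFinLocFree
    (H28Pinch.isFinLocFree_of_isInvertible ((H10Coh.Stab.isTwistFamily_projSpace n k).inv d))) q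

theorem finrank_h0_nat (e : ℕ) :
    Module.finrank k (Coh.HH (CohB1.ProjSpace n k) (Twist.twistProjSpace n k (e : ℤ)) 0) =
      Module.finrank k (MvPolynomial.homogeneousSubmodule (Fin (n + 1)) k e) := by
  have e₁ := LinearEquiv.ofBijective _ (H10Coh.Pn.HH0Od_bijective (n := n) (R := k) e)
  have e₂ := LinearEquiv.ofBijective _ (H10Coh.Pn.homToAllowed_bijective (n := n) (R := k) e)
  exact (e₁.trans e₂.symm).finrank_eq

theorem finrank_h0_zero :
    Module.finrank k (Coh.HH (CohB1.ProjSpace n k) (Twist.twistProjSpace n k 0) 0) = 1 := by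
  refine (finrank_h0_nat (n := n) (k := k) 0).trans ?_
  rw [MvPolynomial.homogeneousSubmodule_zero, Submodule.one_eq_span, finrank_span_singleton one_ne_zero]

theorem finite_homog (m : ℕ) : Module.Finite k (MvPolynomial.homogeneousSubmodule (Fin (n + 1)) k m) := by
  exact @Module.Finite.equiv _ _ _ _ _ _ _ _ (finite_hh (k := k) (n := n) (m : ℤ) 0)
    ((LinearEquiv.ofBijective _ (H10Coh.Pn.HH0Od_bijective (n := n) (R := k) m)).trans
      (LinearEquiv.ofBijective _ (H10Coh.Pn.homToAllowed_bijective (n := n) (R := k) m)).symm)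

theorem nontrivial_h0_nonneg {e : ℤ} (he : 0 ≤ e) :
    Nontrivial (Coh.HH (CohB1.ProjSpace n k) (Twist.twistProjSpace n k e) 0) := by
  obtain ⟨m, rfl⟩ := Int.eq_ofNat_of_zero_le he
  haveI := finite_hh (k := k) (n := n) (m : ℤ) 0
  refine Module.nontrivial_of_finrank_pos (R := k) ?_
  rw [finrank_h0_nat]
  have hX : (MvPolynomial.X (0 : Fin (n + 1)) : MvPolynomial (Fin (n + 1)) k) ^ m ∈
      MvPolynomial.homogeneousSubmodule (Fin (n + 1)) k m := MvPolynomial.isHomogeneous_X_pow _ _
  haveI := finite_homog (k := k) (n := n) m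
  exact Module.finrank_pos_iff_exists_ne_zero.2 ⟨⟨_, hX⟩, fun h =>
    pow_ne_zero m (MvPolynomial.X_ne_zero _) (congrArg Subtype.val h)⟩

theorem subsingleton_h0_neg (hn : n ≠ 0) {d : ℤ} (hd : d < 0) :
    Subsingleton (Coh.HH (CohB1.ProjSpace n k) (Twist.twistProjSpace n k d) 0) :=
  H10Coh.Pn.subsingleton_HH_Od 0 (by omega) (by omega)

theorem finrank_h0_sum (hn : n ≠ 0) : ∀ {r : ℕ} (d : Fin r → ℤ),
    Module.finrank k (Coh.HH (CohB1.ProjSpace n k) (∐ fun i : Fin r => Twist.twistProjSpace n k (d i)) 0) =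
        ∑ i, Module.finrank k (Coh.HH (CohB1.ProjSpace n k) (Twist.twistProjSpace n k (d i)) 0) ∧
      Module.Finite k (Coh.HH (CohB1.ProjSpace n k) (∐ fun i : Fin r => Twist.twistProjSpace n k (d i)) 0) := by
  intro r
  haveI : IsProper (CohB1.ProjSpace n k ↘ Spec (CommRingCat.of k)) := H27Weil.isProper_toSpec n k
  induction r with
  | zero =>
    intro d
    haveI : Subsingleton (Coh.HH (CohB1.ProjSpace n k) (∐ fun i : Fin 0 => Twist.twistProjSpace n k (d i)) 0) := by
      refine ⟨fun a b => ?_⟩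
      have h : (𝟙 (∐ fun i : Fin 0 => Twist.twistProjSpace n k (d i))) = 0 := Sigma.hom_ext _ _ fun b => b.elim0
      have : ∀ x : Coh.HH (CohB1.ProjSpace n k) (∐ fun i : Fin 0 => Twist.twistProjSpace n k (d i)) 0, x = 0 :=
        fun x => by rw [← hhlin_id (k := k) _ 0 x, h, hhlin_zero]
      rw [this a, this b]
    exact ⟨by simp [Module.finrank_zero_of_subsingleton], inferInstance⟩
  | succ r ih =>
    intro d
    let a := d 0
    let d' : Fin r → ℤ := fun i => d i.succ
    obtain ⟨hsum, hfin⟩ := ih d'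
    haveI := hfin
    haveI := finite_hh (k := k) (n := n) a 0
    let e := hhIso (k := k) (consIso fun i => Twist.twistProjSpace n k (d i)) 0
    refine ⟨?_, ?_⟩
    · rw [e.finrank_eq, finrank_hh_biprod, hsum, Fin.sum_univ_succ]
    · haveI : Module.Finite k (Coh.HH (CohB1.ProjSpace n k) (Twist.twistProjSpace n k a ⊞
          ∐ fun i : Fin r => Twist.twistProjSpace n k (d' i)) 0) := by
        refine Module.Finite.of_injective ((Canon.HHlin k (biprod.fst :
          Twist.twistProjSpace n k a ⊞ (∐ fun i : Fin r => Twist.twistProjSpace n k (d' i)) ⟶ _) 0).prod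
          (Canon.HHlin k (biprod.snd : Twist.twistProjSpace n k a ⊞
            (∐ fun i : Fin r => Twist.twistProjSpace n k (d' i)) ⟶ _) 0)) ?_
        intro v w h
        simp only [LinearMap.prod_apply, Function.prod_apply, Prod.mk.injEq] at h
        rw [← hhlin_id (k := k) _ 0 v, ← hhlin_id (k := k) _ 0 w, ← biprod.total, hhlin_add, hhlin_add,
          hhlin_comp, hhlin_comp, hhlin_comp, hhlin_comp, h.1, h.2]
      exact Module.Finite.equiv e.symm

/-- The twist of a sum of twisting sheaves. -/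
theorem nonempty_tensor_sum {r : ℕ} (d : Fin r → ℤ) (b : ℤ) :
    Nonempty (CohB1.tensorMod (∐ fun i : Fin r => Twist.twistProjSpace n k (d i)) (Twist.twistProjSpace n k b) ≅
      ∐ fun i : Fin r => Twist.twistProjSpace n k (d i + b)) := by
  let T := twist (Twist.twistProjSpace n k b)
  haveI : T.Additive := inferInstanceAs ((DCoh.tensorBi (X := CohB1.ProjSpace n k)).flip.obj _).Additive
  let f : Fin r → (CohB1.ProjSpace n k).Modules := fun i => Twist.twistProjSpace n k (d i)
  exact ⟨(PreservesCoproduct.iso T f : T.obj (∐ f) ≅ ∐ fun i => T.obj (f i)) ≪≫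
    Sigma.mapIso fun i => ((H10Coh.Stab.isTwistFamily_projSpace n k).add (d i) b).some⟩

/-- The degrees in a sum of twisting sheaves are determined. -/
theorem antitone_sum_inj (hn : n ≠ 0) {r : ℕ} {d d' : Fin r → ℤ} (hd : Antitone d) (hd' : Antitone d')
    (e : (∐ fun i : Fin r => Twist.twistProjSpace n k (d i)) ≅ ∐ fun i : Fin r => Twist.twistProjSpace n k (d' i)) :
    d = d' := by
  let φ : ℤ → ℕ := fun c => Module.finrank k (Coh.HH (CohB1.ProjSpace n k) (Twist.twistProjSpace n k c) 0)
  have hφneg : ∀ c < 0, φ c = 0 := fun c hc => by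
    haveI := subsingleton_h0_neg (k := k) hn hc
    exact Module.finrank_zero_of_subsingleton
  have hsum : ∀ m : ℤ, ∑ i, φ (d i + -m) = ∑ i, φ (d' i + -m) := fun m => by
    obtain ⟨e₁⟩ := nonempty_tensor_sum (n := n) (k := k) d (-m)
    obtain ⟨e₂⟩ := nonempty_tensor_sum (n := n) (k := k) d' (-m)
    rw [← (finrank_h0_sum (k := k) hn fun i => d i + -m).1, ← (finrank_h0_sum (k := k) hn fun i => d' i + -m).1]
    exact (hhIso (k := k) (e₁.symm ≪≫ PicGrp.tensorModIso e (Iso.refl _) ≪≫ e₂) 0).finrank_eq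
  have key : ∀ {d d' : Fin r → ℤ}, Antitone d → Antitone d' → (∀ m : ℤ, ∑ i, φ (d i + -m) = ∑ i, φ (d' i + -m)) →
      ∀ j, (∀ i < j, d i = d' i) → d j ≤ d' j := by
    intro d d' _ hd' hs j hj
    by_contra hlt
    push Not at hlt
    refine Nat.lt_irrefl _ ((hs (d j)).le.trans_lt' (Finset.sum_lt_sum (fun i _ => ?_) ⟨j, Finset.mem_univ j, ?_⟩))
    · rcases lt_or_ge i j with hi | hi
      · rw [hj i hi]
      · rw [hφneg (d' i + -d j) (by have := hd' hi; omega)]
        exact Nat.zero_le _
    · rw [hφneg (d' j + -d j) (by omega), add_neg_cancel]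
      simp only [φ, finrank_h0_zero]
      exact Nat.one_pos
  funext j
  induction j using WellFoundedLT.induction with
  | _ j ih => exact le_antisymm (key hd hd' hsum j ih) (key hd' hd (fun m => (hsum m).symm) j fun i hi => (ih i hi).symm)

/-- Degree of twisting sheaves on the line. -/
theorem deg_twist_line :
    ∃ c : ℤ, 1 ≤ c ∧ ∀ a : ℤ, Curv2.deg k (CohB1.ProjSpace 1 k) (Twist.twistProjSpace 1 k a) 1 = a * c := by
  haveI : IsProper (CohB1.ProjSpace 1 k ↘ Spec (CommRingCat.of k)) := H27Weil.isProper_toSpec 1 k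
  obtain ⟨hint, -, hdim⟩ := H28Curve.projLine_facts k
  haveI := hint
  haveI := isNoetherian_of_proper (k := k) (X := CohB1.ProjSpace 1 k)
  have hdim' : topologicalKrullDim ↥(CohB1.ProjSpace 1 k) ≤ 1 := hdim.le
  have hT := H10Coh.Stab.isTwistFamily_projSpace 1 k
  let D : ℤ → ℤ := fun a => Curv2.deg k (CohB1.ProjSpace 1 k) (Twist.twistProjSpace 1 k a) 1
  have hadd : ∀ a b, D (a + b) = D a + D b := fun a b => by
    obtain ⟨e⟩ := hT.add a b
    exact (deg_congr (k := k) e.symm).trans (deg_tensor (k := k) hdim' (hT.inv a) (hT.inv b))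
  let F : ℤ →+ ℤ := AddMonoidHom.mk' D hadd
  refine ⟨D 1, ?_, fun a => show F a = a * F 1 by rw [← smul_eq_mul, ← map_zsmul, smul_eq_mul, mul_one]⟩
  obtain ⟨e₀⟩ := hT.zero
  haveI : Subsingleton (Coh.HH (CohB1.ProjSpace 1 k) (Twist.twistProjSpace 1 k 1) 1) :=
    H10Coh.Pn.subsingleton_HH_Od 1 (by omega) (by omega)
  haveI : Subsingleton (Coh.HH (CohB1.ProjSpace 1 k) (Coh.structureModule _) 1) :=
    H10Coh.Pn.subsingleton_HH_structureModule 1 k 1 one_pos
  have h2 : 2 ≤ Module.finrank k (Coh.HH (CohB1.ProjSpace 1 k) (Twist.twistProjSpace 1 k 1) 0) := by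
    haveI := finite_hh (k := k) (n := 1) 1 0
    rw [show (1 : ℤ) = ((1 : ℕ) : ℤ) from rfl, finrank_h0_nat]
    haveI := finite_homog (k := k) (n := 1) 1
    let v : Fin (1 + 1) → MvPolynomial.homogeneousSubmodule (Fin (1 + 1)) k 1 := fun i =>
      ⟨MvPolynomial.X i, MvPolynomial.isHomogeneous_X k i⟩
    have hv : LinearIndependent k v :=
      LinearIndependent.of_comp (MvPolynomial.homogeneousSubmodule (Fin (1 + 1)) k 1).subtype (MvPolynomial.linearIndependent_X (Fin (1 + 1)) k)
    simpa using hv.fintype_card_le_finrank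
  have h00 := finrank_h0_zero (k := k) (n := 1)
  rw [(hhIso (k := k) e₀ 0).finrank_eq] at h00
  show 1 ≤ Curv2.deg k _ (Twist.twistProjSpace 1 k 1) 1
  rw [deg_def, euler_eq_sub (k := k) hdim', euler_eq_sub (k := k) hdim', h00,
    Module.finrank_zero_of_subsingleton (M := Coh.HH (CohB1.ProjSpace 1 k) (Twist.twistProjSpace 1 k 1) 1),
    Module.finrank_zero_of_subsingleton (M := Coh.HH (CohB1.ProjSpace 1 k) (Coh.structureModule _) 1)]
  omega

/-- Grothendieck's splitting theorem: existence. -/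
theorem exists_splitting : ∀ (r : ℕ) (E : (CohB1.ProjSpace 1 k).Modules), FlatMod.IsFinLocFreeOfRank r E →
    ∃ d : Fin r → ℤ, Antitone d ∧ Nonempty (E ≅ ∐ fun i : Fin r => Twist.twistProjSpace 1 k (d i)) := by
  haveI : IsProper (CohB1.ProjSpace 1 k ↘ Spec (CommRingCat.of k)) := H27Weil.isProper_toSpec 1 k
  haveI : Smooth (CohB1.ProjSpace 1 k ↘ Spec (CommRingCat.of k)) := H26Smooth.smooth_toSpec 1 k
  obtain ⟨hint, -, hdim⟩ := H28Curve.projLine_facts k
  haveI := hint
  haveI := isNoetherian_of_proper (k := k) (X := CohB1.ProjSpace 1 k)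
  haveI := H11Ample.compactSpace_projSpace 1 k
  haveI : (CohB1.ProjSpace 1 k).IsSeparated :=
    inferInstanceAs (Scheme.IsSeparated (Proj (CohB1.polyGrading 1 k)))
  have hdim' : topologicalKrullDim ↥(CohB1.ProjSpace 1 k) ≤ 1 := hdim.le
  have hT := H10Coh.Stab.isTwistFamily_projSpace 1 k
  obtain ⟨c, hc, hdeg⟩ := deg_twist_line (k := k)
  intro r
  induction r with
  | zero =>
    intro E hE
    refine ⟨Fin.elim0, fun a => a.elim0, ⟨(isZero_of_rank_zero hE).iso ?_⟩⟩
    exact (IsZero.iff_id_eq_zero _).2 (Sigma.hom_ext _ _ fun b => b.elim0)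
  | succ r ih =>
    intro E hE
    have hEc := isCoh_of_rank hE
    let S : Set ℤ := {a | ∃ φ : Twist.twistProjSpace 1 k a ⟶ E, φ ≠ 0}
    have hne : S.Nonempty := by
      obtain ⟨m, hm⟩ := H11Ample.eventually_globallyGenerated (H11Ample.isAmple_twistProjSpace 1 k) hEc
      have hgg := hm m le_rfl
      obtain ⟨e₁⟩ := hT.nonempty_tensorPow m
      obtain ⟨e₂⟩ := hT.add (m : ℤ) (-(m : ℤ))
      obtain ⟨e₃⟩ := hT.zero
      refine ⟨-(m : ℤ), exists_hom_of_section (hT.inv _)
        (PicGrp.tensorModIso e₁ (Iso.refl _) ≪≫ e₂ ≪≫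
          eqToIso (congrArg (fun a => Twist.twistProjSpace 1 k a) (add_neg_cancel (m : ℤ))) ≪≫ e₃) ?_⟩
      let x : ↥(CohB1.ProjSpace 1 k) := genericPoint ↥(CohB1.ProjSpace 1 k)
      have hrk := rank_tensor hE (H11Ample.isInvertible_tensorPow (hT.inv 1) m)
      obtain ⟨-, hfin, hr⟩ := H25Par.finrank_stalk hrk x
      by_contra htriv
      rw [not_nontrivial_iff_subsingleton] at htriv
      haveI : Subsingleton Γ(CohB1.tensorMod E (CohB1.tensorPow (Twist.twistProjSpace 1 k 1) m), ⊤) :=
        (sec _).symm.toEquiv.subsingleton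
      have hspan := spansAt_of_globallyGenerated hgg x
      rw [SpansAt, show (Set.range fun g : Γ(CohB1.tensorMod E (CohB1.tensorPow (Twist.twistProjSpace 1 k 1) m), ⊤) =>
          (CohB1.tensorMod E (CohB1.tensorPow (Twist.twistProjSpace 1 k 1) m)).presheaf.germ ⊤ x trivial g) = {0} from
          Set.ext fun v => ⟨fun ⟨g, hg⟩ => by rw [← hg, Subsingleton.elim g 0]; exact map_zero _,
            fun hv => ⟨0, (map_zero _).trans hv.symm⟩⟩, Submodule.span_zero_singleton] at hspan
      haveI : Subsingleton ((CohB1.tensorMod E (CohB1.tensorPow (Twist.twistProjSpace 1 k 1) m)).presheaf.stalk x) :=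
        (Submodule.subsingleton_iff ((CohB1.ProjSpace 1 k).presheaf.stalk x)).1 (subsingleton_of_bot_eq_top hspan)
      rw [Module.finrank_zero_of_subsingleton] at hr
      omega
    have hmonoφ : ∀ {a : ℤ} {φ : Twist.twistProjSpace 1 k a ⟶ E}, φ ≠ 0 → Mono φ := fun {a φ} hφ =>
      mono_of_invertible (k := k) hdim' (hT.inv a) hE hφ
    have hbdd : BddAbove S := by
      let B := (Module.finrank k (Coh.HH (CohB1.ProjSpace 1 k) E 0) : ℤ) -
        Curv2.euler k (CohB1.ProjSpace 1 k) (Coh.structureModule _)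
      refine ⟨max B 0, fun a ⟨φ, hφ⟩ => ?_⟩
      haveI := hmonoφ hφ
      have h := deg_le_h0 (k := k) (s := 1) hdim' hEc φ
      rw [hdeg a, Nat.cast_one, one_mul] at h
      rcases le_or_gt a 0 with ha | ha
      · exact ha.trans (le_max_right _ _)
      · exact le_trans (by nlinarith) (le_max_left B 0)
    obtain ⟨a, ⟨φ, hφ⟩, hmax⟩ := Int.exists_greatest_of_bdd
      (P := fun a => a ∈ S) ⟨_, fun a ha => hbdd.choose_spec ha⟩ hne
    haveI := hmonoφ hφ
    obtain ⟨G', ι', cr, hι', hG', hq, hrk, hle, -⟩ :=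
      exists_saturated_quotient (k := k) hdim' hE (rank_one_of_isInvertible (hT.inv a)) φ
    haveI := hι'
    obtain ⟨b, ⟨eb⟩⟩ := Groth.Agent.S1697.result k 1 G' (H22Alg.PB.isInvertible_of_rank_one hG')
    have hba : b ≤ a := hmax b ⟨eb.inv ≫ ι', fun h0 => by
      refine not_isZero_of_rank (k := k) hG' one_pos ((IsZero.iff_id_eq_zero _).2 ?_)
      rw [← cancel_mono ι', zero_comp, Category.id_comp]
      exact (cancel_epi eb.inv).1 (h0.trans comp_zero.symm)⟩
    have hab : a ≤ b := by
      rw [hdeg a, deg_congr (k := k) eb, hdeg b] at hle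
      nlinarith
    obtain rfl : b = a := le_antisymm hba hab
    obtain rfl : cr = r := by omega
    obtain ⟨d, hd, ⟨eF⟩⟩ := ih _ hq
    have hS : (ShortComplex.mk ι' (cokernel.π ι') (cokernel.condition ι')).ShortExact :=
      { exact := ShortComplex.exact_cokernel _ }
    let f : Fin cr → (CohB1.ProjSpace 1 k).Modules := fun i => Twist.twistProjSpace 1 k (d i)
    let j : ∀ i, f i ⟶ cokernel ι' := fun i => Sigma.ι f i ≫ eF.inv
    have hdle : ∀ i, d i ≤ b := by
      intro i
      by_contra hlt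
      push Not at hlt
      have hTex := H16Derived.KFlat.Stalk.isFlatObj_of_isFlat (H16Derived.KFlat.Stalk.isFlat_of_isFinLocFree
        (H28Pinch.isFinLocFree_of_isInvertible (hT.inv (-(b + 1))))) _ hS
      let T := twist (Twist.twistProjSpace 1 k (-(b + 1)))
      haveI h1 : Subsingleton (Coh.HH (CohB1.ProjSpace 1 k) (T.obj G') 1) :=
        H10Coh.subsingleton_HH_of_iso ((hT.add b (-(b + 1))).some.symm ≪≫
          PicGrp.tensorModIso eb.symm (Iso.refl _)) 1 (H10Coh.Pn.subsingleton_HH_Od 1 (by omega) (by omega))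
      have hsurj := H25Par.hhlin_surjective (k := k) hTex h1
      have h0 : Subsingleton (Coh.HH (CohB1.ProjSpace 1 k) (T.obj E) 0) := by
        by_contra hn
        rw [not_subsingleton_iff_nontrivial] at hn
        obtain ⟨e₂⟩ := hT.add (-(b + 1)) (b + 1)
        obtain ⟨e₃⟩ := hT.zero
        obtain ⟨ψ, hψ⟩ := exists_hom_of_section (hT.inv (b + 1)) (e₂ ≪≫
          eqToIso (congrArg (fun a => Twist.twistProjSpace 1 k a) (neg_add_cancel (b + 1))) ≪≫ e₃) hn
        have := hmax (b + 1) ⟨ψ, hψ⟩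
        omega
      haveI : Subsingleton (Coh.HH (CohB1.ProjSpace 1 k) (T.obj (cokernel ι')) 0) :=
        @Function.Surjective.subsingleton _ _ _ h0 hsurj
      haveI : Nontrivial (Coh.HH (CohB1.ProjSpace 1 k) (T.obj (f i)) 0) := by
        haveI := nontrivial_h0_nonneg (k := k) (n := 1) (show 0 ≤ d i + -(b + 1) by omega)
        exact (hhIso (k := k) (hT.add (d i) (-(b + 1))).some 0).toEquiv.nontrivial
      classical
      let p : cokernel ι' ⟶ f i := eF.hom ≫
        Sigma.desc fun l => if h : l = i then eqToHom (congrArg f h) else 0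
      have hjp : T.map (j i) ≫ T.map p = 𝟙 _ := by
        rw [← T.map_comp, show j i ≫ p = 𝟙 _ by
          simp only [j, p, Category.assoc, Iso.inv_hom_id_assoc]
          rw [Sigma.ι_desc, dif_pos rfl]
          rfl, T.map_id]
      obtain ⟨v, w, hvw⟩ := exists_pair_ne (Coh.HH (CohB1.ProjSpace 1 k) (T.obj (f i)) 0)
      refine hvw ?_
      rw [← hhlin_id (k := k) _ 0 v, ← hhlin_id (k := k) _ 0 w, ← hjp, hhlin_comp, hhlin_comp,
        Subsingleton.elim (Canon.HHlin k (T.map (j i)) 0 v) (Canon.HHlin k (T.map (j i)) 0 w)]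
    have hsec : ∀ i, ∃ σ : f i ⟶ E, σ ≫ cokernel.π ι' = j i := by
      intro i
      let ι : G' ⟶ pullback (cokernel.π ι') (j i) :=
        pullback.lift ι' 0 (by rw [cokernel.condition, zero_comp])
      have hι : ι ≫ pullback.fst (cokernel.π ι') (j i) = ι' := pullback.lift_fst _ _ _
      haveI : Mono ι := mono_of_mono_fac hι
      have hz : ι ≫ pullback.snd (cokernel.π ι') (j i) = 0 := pullback.lift_snd _ _ _
      have hP : (ShortComplex.mk ι (pullback.snd (cokernel.π ι') (j i)) hz).ShortExact :=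
        { exact := ShortComplex.exact_of_f_is_kernel _ (KernelFork.IsLimit.ofι' _ _ fun {A} x hx => by
            have hx' : (x ≫ pullback.fst (cokernel.π ι') (j i)) ≫ cokernel.π ι' = 0 := by
              rw [Category.assoc, pullback.condition, ← Category.assoc]
              show (x ≫ pullback.snd (cokernel.π ι') (j i)) ≫ j i = 0
              rw [show x ≫ pullback.snd (cokernel.π ι') (j i) = 0 from hx, zero_comp]
            refine ⟨hS.exact.lift _ hx', pullback.hom_ext ?_ ?_⟩
            · rw [Category.assoc, hι]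
              exact hS.exact.lift_f _ _
            · rw [Category.assoc, hz, comp_zero]
              exact hx.symm) }
      obtain ⟨e₂⟩ := hT.add (d i) (-d i)
      obtain ⟨e₃⟩ := hT.zero
      haveI : IsSplitEpi (pullback.snd (cokernel.π ι') (j i)) :=
        isSplitEpi_of_h1 (k := k) hP (hT.inv (-d i)) (e₂ ≪≫
          eqToIso (congrArg (fun a => Twist.twistProjSpace 1 k a) (add_neg_cancel (d i))) ≪≫ e₃)
          (H10Coh.subsingleton_HH_of_iso ((hT.add b (-d i)).some.symm ≪≫
            PicGrp.tensorModIso eb.symm (Iso.refl _)) 1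
            (H10Coh.Pn.subsingleton_HH_Od 1 (by omega) (by have := hdle i; omega)))
      refine ⟨section_ (pullback.snd (cokernel.π ι') (j i)) ≫ pullback.fst _ _, ?_⟩
      rw [Category.assoc, pullback.condition, IsSplitEpi.id_assoc]
    choose σ hσ using hsec
    let s : cokernel ι' ⟶ E := eF.hom ≫ Sigma.desc σ
    have hs : s ≫ cokernel.π ι' = 𝟙 _ := by
      rw [Category.assoc, ← cancel_epi eF.inv, Iso.inv_hom_id_assoc]
      refine (Sigma.hom_ext _ _ fun i => ?_)
      rw [Sigma.ι_desc_assoc, hσ, Category.comp_id]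
    let sp := ShortComplex.Splitting.ofExactOfSection _ hS.exact s hs (inferInstanceAs (Mono ι'))
    refine ⟨Fin.cons (α := fun _ => ℤ) b d, ?_, ⟨sp.isoBinaryBiproduct ≪≫ biprod.mapIso eb eF ≪≫
      (consIso fun i => Twist.twistProjSpace 1 k (Fin.cons (α := fun _ => ℤ) b d i)).symm⟩⟩
    intro i i' hii
    cases i using Fin.cases with
    | zero =>
      cases i' using Fin.cases with
      | zero => exact le_rfl
      | succ i' => simpa using hdle i'
    | succ i =>
      cases i' using Fin.cases with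
      | zero => simp at hii
      | succ i' => simpa using hd (Fin.succ_le_succ_iff.1 hii)

end

end Groth.Agent.H29RR.PnPic
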