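import Groth.Agent.S1561

/-!
# Regular schemes over perfect fields are smooth
-/

set_option autoImplicit false
set_option linter.style.haveILetI false
universe u

open CategoryTheory CategoryTheory.Limits AlgebraicGeometry

namespace Groth.Agent.H29RR

theorem smooth_of_regular (k : Type u) [Field k] [PerfectField k] (X : Scheme.{u})
    [X.Over (Spec (CommRingCat.of k))] [IsReduced X] [LocallyOfFiniteType (X ↘ Spec (CommRingCat.of k))]
    (hreg : ∀ x : X, IsRegularLocalRing (X.presheaf.stalk x)) : Smooth (X ↘ Spec (CommRingCat.of k)) := by
  haveI : LocallyOfFinitePresentation (X ↘ Spec (CommRingCat.of k)) := inferInstance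
  rw [← Scheme.Hom.smoothLocus_eq_top_iff]
  exact top_le_iff.1 fun x _ => ((S1561.result k X).1 x).2 (hreg x)

end Groth.Agent.H29RR
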