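import Groth.Agent.H29RR.Choice
import Groth.Agent.H11Ample.Tensor
import Groth.Agent.H11Ample.Global
import Groth.Agent.H17.Image

/-!
# Global generation of invertible modules and `h⁰`
-/

set_option autoImplicit false
set_option linter.style.haveILetI false
universe u

open CategoryTheory CategoryTheory.Limits AlgebraicGeometry TopologicalSpace Opposite
open Groth.Agent.H11Tilde

namespace Groth.Agent.H29RR

attribute [local instance 10000] H10Coh.hasSheafifyAb H10Coh.hasWeakSheafifyAb H10Coh.hasExtAb H10Coh.enoughInjAb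

variable {X : Scheme.{u}}

/-- Global generation is detected on closed points. -/
theorem isGloballyGenerated_of_closedPoints [CompactSpace X] {L : X.Modules} (hL : PicF.IsInvertible L)
    (h : ∀ x : X, IsClosed ({x} : Set X) → ∃ g : Γ(L, ⊤), x ∈ H11Ample.gen L g) :
    Curv2.IsGloballyGenerated L := by
  refine H11Ample.isGloballyGenerated_of_locally L (fun g : Γ(L, ⊤) => g) fun W t x hx => ?_
  obtain ⟨y, hy, hyc⟩ := IsClosed.exists_closed_singleton (isClosed_closure (s := ({x} : Set X)))
    ⟨x, subset_closure rfl⟩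
  obtain ⟨g, hg⟩ := h y hyc
  have hxg : x ∈ H11Ample.gen L g :=
    (specializes_iff_mem_closure.2 hy).mem_open (H11Ample.gen L g).isOpen hg
  have he : IsGen L (L.presheaf.map (homOfLE (le_top : W ⊓ H11Ample.gen L g ≤ ⊤)).op g) :=
    fun z hz => by
      refine (congrArg Function.Bijective (funext fun r => ?_)).mp ((H11Ample.mem_gen_iff hL g z).1 hz.2)
      rw [TopCat.Presheaf.germ_res_apply]
  obtain ⟨c, hc⟩ := H11Ample.exists_coeff he (L.presheaf.map (homOfLE (inf_le_left : W ⊓ H11Ample.gen L g ≤ W)).op t)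
  refine ⟨W ⊓ H11Ample.gen L g, inf_le_left, ⟨hx, hxg⟩, ?_⟩
  rw [show L.presheaf.map _ t = c • L.presheaf.map (homOfLE (le_top : W ⊓ H11Ample.gen L g ≤ ⊤)).op g from hc]
  exact Submodule.smul_mem _ _ (Submodule.subset_span ⟨g, rfl⟩)

/-- The ideal of a closed point is the vanishing ideal of that point. -/
theorem ptIdeal_eq_vanishingIdeal {x : X} (hx : IsClosed ({x} : Set X)) :
    ptIdeal x = Scheme.IdealSheafData.vanishingIdeal ⟨{x}, hx⟩ := by
  haveI := isClosedImmersion_pt hx
  rw [ptIdeal, H17.ker_eq_vanishingIdeal]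
  congr 1
  ext z
  show z ∈ closure (Set.range (X.fromSpecResidueField x)) ↔ z ∈ ({x} : Set X)
  rw [Scheme.range_fromSpecResidueField, hx.closure_eq]

variable {k : Type u} [Field k] [X.Over (Spec (CommRingCat.of k))] [IsProper (X ↘ Spec (CommRingCat.of k))]

theorem isCoh_idealMod_pt [IsLocallyNoetherian X] (x : X) (hx : IsClosed ({x} : Set X)) :
    Coh.IsCoh (ClSub.idealMod (ptIdeal x)) := by
  haveI := isClosedImmersion_pt hx
  exact H10Coh.isCoh_kernel _ (H10Coh.isCoh_structureModule' _)
    (H24FSch.isCoh_pushforward_of_isClosedImmersion (ptIdeal x).subschemeι (H10Coh.isCoh_structureModule' _)).1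

/-- Global generation in terms of `h⁰` at closed points (algebraically closed base). -/
theorem isGloballyGenerated_iff_h0 [IsAlgClosed k] {L : X.Modules} (hL : PicF.IsInvertible L) :
    Curv2.IsGloballyGenerated L ↔ ∀ (x : X), IsClosed ({x} : Set X) →
      Module.finrank k (Coh.HH X (CohB1.tensorMod (ClSub.idealMod (ptIdeal x)) L) 0) + 1 =
        Module.finrank k (Coh.HH X L 0) := by
  haveI := isNoetherian_of_proper (k := k) (X := X)
  refine ⟨fun h x hx => (h0_add_one_iff (k := k) hx (finrank_residue_eq_one (k := k) hx) hL (isCoh_idealMod_pt x hx)).2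
    (H11Ample.exists_mem_gen_of_isGloballyGenerated hL h x), fun h => isGloballyGenerated_of_closedPoints hL fun x hx =>
    (h0_add_one_iff (k := k) hx (finrank_residue_eq_one (k := k) hx) hL (isCoh_idealMod_pt x hx)).1 (h x hx)⟩

end Groth.Agent.H29RR
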