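import Groth.Agent.H29RR.Slope
import Groth.Agent.S7862

/-!
# Smooth geometrically connected curves are integral
-/

set_option autoImplicit false
set_option linter.style.haveILetI false
universe u

open CategoryTheory CategoryTheory.Limits AlgebraicGeometry

namespace Groth.Agent.H29RR

theorem isIntegral_of_geomConnected (k : Type u) [Field k] (X : Scheme.{u}) [X.Over (Spec (CommRingCat.of k))]
    [IsProper (X ↘ Spec (CommRingCat.of k))] [Smooth (X ↘ Spec (CommRingCat.of k))]
    [GeometricallyConnected (X ↘ Spec (CommRingCat.of k))] : IsIntegral X := by
  haveI := isNoetherian_of_proper (k := k) (X := X)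
  haveI : ConnectedSpace X :=
    GeometricallyConnected.connectedSpace_of_subsingleton (X ↘ Spec (CommRingCat.of k))
  exact S7862.isIntegral_of_connected X fun t => by
    haveI := H19Grp.isRegularLocalRing_stalk_of_smooth (X ↘ Spec (CommRingCat.of k)) t
    exact H4Depth.isDomain_of_isRegularLocalRing _

end Groth.Agent.H29RR
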