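import Groth.Agent.H29RR.RiemannRoch

/-!
# Nonzero maps of invertible modules and degree comparison
-/

set_option autoImplicit false
set_option linter.style.haveILetI false
set_option maxHeartbeats 400000
universe u

open CategoryTheory CategoryTheory.Limits AlgebraicGeometry Opposite TopologicalSpace

namespace Groth.Agent.H29RR

variable {X : Scheme.{u}}

/-- A nonzero map between invertible modules on an integral scheme is injective and generically bijective. -/
theorem mono_of_ne_zero [IsIntegral X] [IsLocallyNoetherian X] {N L : X.Modules} (hN : PicF.IsInvertible N)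
    (hL : PicF.IsInvertible L) {φ : N ⟶ L} (hφ : φ ≠ 0) :
    Mono φ ∧ genericPoint X ∉ CohB1.support (cokernel φ) := by
  have hNf := H28Pinch.isFinLocFree_of_isInvertible hN
  have hLf := H28Pinch.isFinLocFree_of_isInvertible hL
  have hNc := H16Derived.KFlat.Stalk.isCoh_of_isFinLocFree hNf
  have hLc := H16Derived.KFlat.Stalk.isCoh_of_isFinLocFree hLf
  have hNt := H25Par.isTorsionFree_of_locFree hNf
  have hLt := H25Par.isTorsionFree_of_locFree hLf
  letI : Field (X.presheaf.stalk (genericPoint X)) := inferInstanceAs (Field X.functionField)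
  let T := DerSch.stalkFunctor X (genericPoint X)
  have hgerm : ∀ (W : X.Opens) (hW : genericPoint X ∈ W) (t : Γ(N, W)),
      (T.map φ).hom (N.presheaf.germ W (genericPoint X) hW t) =
        L.presheaf.germ W (genericPoint X) hW (φ.app W t) := fun W hW t =>
    TopCat.Presheaf.stalkFunctor_map_germ_apply W _ hW φ.mapPresheaf t
  have hne : (T.map φ).hom ≠ 0 := fun h0 => hφ (Scheme.Modules.hom_ext _ _ fun W => ConcreteCategory.hom_ext _ _
    fun t => H29Ref.sec_ext L fun y hy => by
      have hW : genericPoint X ∈ W := H29Ref.genericPoint_mem hy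
      have h1 : L.presheaf.germ W (genericPoint X) hW (φ.app W t) = 0 := by
        rw [← hgerm W hW t, h0]; rfl
      have h2 : φ.app W t = 0 :=
        H29Ref.germ_generic_injective L hLc.1 hLt hW (h1.trans (map_zero _).symm)
      exact congrArg _ h2)
  obtain ⟨hf, hfin, hr⟩ := H25Par.finrank_stalk (rank_one_of_isInvertible hN) (genericPoint X)
  obtain ⟨hf', hfin', hr'⟩ := H25Par.finrank_stalk (rank_one_of_isInvertible hL) (genericPoint X)
  haveI : Module.Finite (X.presheaf.stalk (genericPoint X)) (T.obj N) := hfin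
  haveI : Module.Finite (X.presheaf.stalk (genericPoint X)) (T.obj L) := hfin'
  have hinj : Function.Injective (T.map φ).hom := by
    rw [injective_iff_map_eq_zero]
    intro v hv
    by_contra hv0
    refine hne (LinearMap.ext fun w => ?_)
    have hr1 : Module.finrank (X.presheaf.stalk (genericPoint X)) (T.obj N) = 1 := hr
    obtain ⟨c, rfl⟩ := exists_smul_eq_of_finrank_eq_one hr1 hv0 w
    rw [map_smul, hv, smul_zero]; rfl
  have hbij : Function.Bijective (T.map φ).hom :=
    ⟨hinj, (LinearMap.injective_iff_surjective_of_finrank_eq_finrank (hr.trans hr'.symm)).1 hinj⟩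
  refine ⟨?_, (H25Euler.notMem_support_kernel_cokernel φ ?_).2⟩
  · refine H11Tilde.mono_of_injective _ fun W t ht x hx => ⟨W, le_rfl, hx, ?_⟩
    have hW : genericPoint X ∈ W := H29Ref.genericPoint_mem hx
    have h1 : (T.map φ).hom (N.presheaf.germ W (genericPoint X) hW t) = 0 := by
      rw [hgerm]; erw [ht]; exact map_zero _
    have h2 : t = 0 := H29Ref.germ_generic_injective N hNc.1 hNt hW
      ((hinj (h1.trans (map_zero _).symm)).trans (map_zero _).symm)
    rw [h2, map_zero]
  · rw [ConcreteCategory.isIso_iff_bijective]; exact hbij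

variable {k : Type u} [Field k] [X.Over (Spec (CommRingCat.of k))] [IsProper (X ↘ Spec (CommRingCat.of k))]
  [IsIntegral X]

/-- A coherent submodule of full generic rank has smaller Euler characteristic, equal only if it is everything. -/
theorem euler_le_and_isIso_of_eq (hdim : topologicalKrullDim X ≤ 1) {F G : X.Modules} (hF : Coh.IsCoh F)
    (hG : Coh.IsCoh G) (i : F ⟶ G) [Mono i] (hi : genericPoint X ∉ CohB1.support (cokernel i)) :
    Curv2.euler k X F ≤ Curv2.euler k X G ∧ (Curv2.euler k X F = Curv2.euler k X G → IsIso i) := by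
  haveI := isNoetherian_of_proper (k := k) (X := X)
  obtain ⟨hC, hfin, hcl, he⟩ := euler_sub_of_mono (k := k) hdim hF hG i hi
  haveI : Module.Finite k (Coh.HH X (cokernel i) 0) := H10Coh.finite_HH_proper k X _ hC 0
  refine ⟨by omega, fun heq => ?_⟩
  haveI : Subsingleton (Coh.HH X (cokernel i) 0) := (Module.finrank_zero_iff (R := k)).1 (by omega)
  have hb := H25Par.germs_bijective (k := k) (cokernel i) hfin hcl (fun y hy => not_not.1 hy)
  haveI : Subsingleton (∀ y : CohB1.support (cokernel i), H25Par.Stk k (cokernel i) y.1) :=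
    hb.2.subsingleton
  have hemp : ∀ y, y ∉ CohB1.support (cokernel i) := fun y hy => hy (by
    classical
    refine subsingleton_of_forall_eq 0 fun v => ?_
    have h := congrFun (Subsingleton.elim
      (Function.update (0 : ∀ z : CohB1.support (cokernel i), H25Par.Stk k (cokernel i) z.1) ⟨y, hy⟩ v) 0) ⟨y, hy⟩
    rw [Function.update_self] at h
    exact h)
  have hz : IsZero (cokernel i) := H16Derived.KFlat.Stalk.isZero_of_stalk fun y =>
    (H25Euler.notMem_support_iff _ y).1 (hemp y)
  haveI : Epi i := Preadditive.epi_of_cokernel_zero (hz.eq_of_tgt _ _)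
  exact isIso_of_mono_of_epi i

/-- Degrees along a nonzero map of invertible modules. -/
theorem deg_le_of_ne_zero (hdim : topologicalKrullDim X ≤ 1) {N L : X.Modules} (hN : PicF.IsInvertible N)
    (hL : PicF.IsInvertible L) {φ : N ⟶ L} (hφ : φ ≠ 0) :
    Curv2.deg k X N 1 ≤ Curv2.deg k X L 1 ∧ (Curv2.deg k X N 1 = Curv2.deg k X L 1 → IsIso φ) := by
  haveI := isNoetherian_of_proper (k := k) (X := X)
  obtain ⟨hm, hη⟩ := mono_of_ne_zero hN hL hφ
  haveI := hm
  obtain ⟨h1, h2⟩ := euler_le_and_isIso_of_eq (k := k) hdim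
    (H16Derived.KFlat.Stalk.isCoh_of_isFinLocFree (H28Pinch.isFinLocFree_of_isInvertible hN))
    (H16Derived.KFlat.Stalk.isCoh_of_isFinLocFree (H28Pinch.isFinLocFree_of_isInvertible hL)) φ hη
  rw [deg_def, deg_def]
  exact ⟨by omega, fun h => h2 (by omega)⟩

theorem deg_nonneg_of_hom (hdim : topologicalKrullDim X ≤ 1) {L : X.Modules} (hL : PicF.IsInvertible L)
    {s : Coh.structureModule X ⟶ L} (hs : s ≠ 0) :
    0 ≤ Curv2.deg k X L 1 ∧ (Curv2.deg k X L 1 ≤ 0 → IsIso s) := by
  have h := deg_le_of_ne_zero (k := k) hdim (H11Ample.isInvertible_structureModule (X := X)) hL hs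
  rw [deg_structureModule] at h
  exact ⟨h.1, fun hle => h.2 (le_antisymm h.1 hle)⟩

end Groth.Agent.H29RR
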