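import Groth.Agent.H29RR.GenBundle
import Groth.Agent.H22Alg.ExtPowHom

/-!
# Globally generated bundles with trivial determinant

On an integral scheme whose nonzero global functions are units, a bundle spanned by global sections
whose determinant is trivial is trivial.
-/

set_option autoImplicit false
set_option linter.style.haveILetI false
universe u

open CategoryTheory CategoryTheory.Limits AlgebraicGeometry TopologicalSpace Opposite

namespace Groth.Agent.H29RR

open H22Alg.ExtPowAlg H22Alg.ExtPowSheaf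

variable {X : Scheme.{u}}

/-- The germ, as a semilinear map. -/
noncomputable def germSemi (E : X.Modules) {U : X.Opens} {y : X} (hy : y ∈ U) :
    Γ(E, U) →ₛₗ[(X.presheaf.germ U y hy).hom] E.presheaf.stalk y where
  toFun := E.presheaf.germ U y hy
  map_add' := map_add _
  map_smul' r m := H06Mod.germ_smul E U hy r m

/-- A morphism which is bijective on all stalks is an isomorphism. -/
theorem isIso_of_bijective_stalks {F G : X.Modules} (φ : F ⟶ G)
    (h : ∀ y : X, Function.Bijective (H06Mod.stalkLin φ y)) : IsIso φ := by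
  haveI : Mono φ := Preadditive.mono_of_kernel_zero
    ((H16Derived.KFlat.Stalk.isZero_of_stalk fun y => by
      haveI : Subsingleton ((DerSch.stalkFunctor X y).obj (kernel φ)) :=
        H10Coh.subsingleton_stalk_kernel φ y (h y).1
      exact ModuleCat.isZero_of_subsingleton _).eq_of_src _ _)
  haveI : Epi φ := Preadditive.epi_of_cokernel_zero
    ((H16Derived.KFlat.Stalk.isZero_of_stalk fun y => by
      haveI : Subsingleton ((DerSch.stalkFunctor X y).obj (cokernel φ)) :=
        H10Coh.subsingleton_stalk_cokernel φ y (h y).2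
      exact ModuleCat.isZero_of_subsingleton _).eq_of_tgt _ _)
  exact isIso_of_mono_of_epi φ

/-- A spanning family of sections whose top wedge trivialises the determinant gives a trivialisation. -/
theorem nonempty_iso_free_of_det_trivial [IsIntegral X] [IsLocallyNoetherian X]
    (hΓ : ∀ c : Γ(X, ⊤), c ≠ 0 → IsUnit c) {E L : X.Modules} {r N : ℕ}
    (hE : FlatMod.IsFinLocFreeOfRank r E) {g : Fin N → Γ(E, ⊤)} (hg : SpansStalks E g)
    (hL : ExtPow.IsExtPow r E L) (eL : L ≅ Coh.structureModule X) :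
    Nonempty (E ≅ FlatMod.freeMod X r) := by
  classical
  have hq : Coh.IsQCoh E := (isCoh_of_rank hE).1
  obtain ⟨e⟩ := H22Alg.ExtPowHom.nonempty_iso (isExtPow_sheaf (i := r) hq) hL
  let θ : sheaf r E ≅ Coh.structureModule X := e ≪≫ eL
  have hθ : ∀ (U : X.Opens) (v : Γ(sheaf r E, U)), θ.inv.app U (θ.hom.app U v) = v := fun U v => by
    show (θ.hom ≫ θ.inv).app U v = v
    rw [θ.hom_inv_id]
    rfl
  obtain ⟨x₀⟩ : Nonempty X := inferInstance
  obtain ⟨U₀, p, A₀, hx₀, hU₀, hp, hd₀, heq₀⟩ := exists_chart hE hg x₀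
  let s : Fin r → Γ(E, ⊤) := fun i => g (p i)
  let ω : Sec r E ⊤ := exteriorPower.ιMulti Γ(X, ⊤) r s
  let c : Γ(X, ⊤) := θ.hom.app ⊤ (η r E ⊤ ω)
  have hres : ∀ U : X.Opens, θ.hom.app U (η r E U (exteriorPower.ιMulti Γ(X, U) r fun i =>
      E.presheaf.map (homOfLE (le_top : U ≤ ⊤)).op (s i))) = X.presheaf.map (homOfLE (le_top : U ≤ ⊤)).op c := by
    intro U
    rw [← res_ιMulti, ← η_res]
    exact H11Tilde.app_map_apply θ.hom (le_top : U ≤ ⊤) (η r E ⊤ ω)
  have hinj : ∀ U : X.Opens, IsAffineOpen U → ∀ v : Sec r E U, θ.hom.app U (η r E U v) = 0 → v = 0 := by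
    intro U hU v hv
    refine injective_η hq hU ?_
    rw [map_zero, ← hθ U (η r E U v), hv, map_zero]
  have hbasis : ∀ (y : X) (U : X.Opens) (p' : Fin r → Fin N) (A : Fin N → Fin r → Γ(X, U)) (hy : y ∈ U),
      (∀ j, E.presheaf.map (homOfLE (le_top : U ≤ ⊤)).op (g j) =
        ∑ i, A j i • E.presheaf.map (homOfLE (le_top : U ≤ ⊤)).op (g (p' i))) →
      ∃ b : Module.Basis (Fin r) (X.presheaf.stalk y) (E.presheaf.stalk y),
        ∀ i, b i = E.presheaf.germ ⊤ y trivial (g (p' i)) := by
    intro y U p' A hy heq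
    obtain ⟨hf, hfin, hr⟩ := H25Par.finrank_stalk hE y
    haveI := hf
    haveI := hfin
    let v : Fin r → E.presheaf.stalk y := fun i => E.presheaf.germ ⊤ y trivial (g (p' i))
    let Lm : (Fin r → X.presheaf.stalk y) →ₗ[X.presheaf.stalk y] E.presheaf.stalk y :=
      Fintype.linearCombination (X.presheaf.stalk y) v
    have hL' : Function.Surjective Lm := by
      rw [← LinearMap.range_eq_top, eq_top_iff, ← hg y, Submodule.span_le]
      rintro _ ⟨j, rfl⟩
      refine ⟨fun i => X.presheaf.germ U y hy (A j i), ?_⟩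
      show Lm _ = E.presheaf.germ ⊤ y trivial (g j)
      rw [← TopCat.Presheaf.germ_res_apply E.presheaf (homOfLE (le_top : U ≤ ⊤)) y hy (g j), heq j, map_sum,
        Fintype.linearCombination_apply]
      refine Finset.sum_congr rfl fun i _ => ?_
      rw [H06Mod.germ_smul]
      exact congrArg _ (TopCat.Presheaf.germ_res_apply E.presheaf (homOfLE (le_top : U ≤ ⊤)) y hy _).symm
    let B := Module.finBasisOfFinrankEq (X.presheaf.stalk y) (E.presheaf.stalk y) hr
    have hbij : Function.Bijective Lm :=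
      ⟨fun a b h => (OrzechProperty.injective_of_surjective_endomorphism (B.equivFun.toLinearMap ∘ₗ Lm)
        (B.equivFun.surjective.comp hL')) (congrArg B.equivFun h), hL'⟩
    refine ⟨Module.Basis.ofEquivFun (LinearEquiv.ofBijective Lm hbij).symm, fun i => ?_⟩
    rw [Module.Basis.coe_ofEquivFun, LinearEquiv.symm_symm]
    show Lm (Function.update 0 i 1) = _
    simp [Lm, v, Fintype.linearCombination_apply, Function.update_apply]
  have hgerm : ∀ (U : X.Opens) (y : X) (hy : y ∈ U) (t : Fin r → Γ(E, ⊤)),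
      wmap r _ (germSemi E hy) (exteriorPower.ιMulti Γ(X, U) r fun i => E.presheaf.map (homOfLE (le_top : U ≤ ⊤)).op (t i)) =
        exteriorPower.ιMulti (X.presheaf.stalk y) r fun i => E.presheaf.germ ⊤ y trivial (t i) := by
    intro U y hy t
    rw [wmap_ιMulti]
    exact congrArg _ (funext fun i => TopCat.Presheaf.germ_res_apply E.presheaf (homOfLE (le_top : U ≤ ⊤)) y hy (t i))
  have hc : c ≠ 0 := by
    intro hc
    have h0 := hinj U₀ hU₀ _ ((hres U₀).trans (by rw [hc, map_zero]; rfl))
    have h1 := congrArg (wmap r _ (germSemi E hx₀)) h0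
    rw [map_zero, hgerm] at h1
    obtain ⟨b, hb⟩ := hbasis x₀ U₀ p A₀ hx₀ heq₀
    have h2 := congrArg (exteriorPower.alternatingMapLinearEquiv b.det) h1
    rw [map_zero, exteriorPower.alternatingMapLinearEquiv_apply_ιMulti,
      show (fun i => E.presheaf.germ ⊤ x₀ trivial (s i)) = ⇑b from funext fun i => (hb i).symm,
      Module.Basis.det_self] at h2
    exact one_ne_zero h2
  have hcu := hΓ c hc
  let φ : FlatMod.freeMod X r ⟶ E := Sigma.desc fun i => H11Tilde.homOfGlobal E (s i)
  haveI : IsIso φ := isIso_of_bijective_stalks φ fun y => by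
    obtain ⟨U, p', A, hy, hU, -, -, heq⟩ := exists_chart hE hg y
    obtain ⟨b, hb⟩ := hbasis y U p' A hy heq
    let sU : Sec r E U := exteriorPower.ιMulti Γ(X, U) r fun i => E.presheaf.map (homOfLE (le_top : U ≤ ⊤)).op (s i)
    let bU : Sec r E U := exteriorPower.ιMulti Γ(X, U) r fun i =>
      E.presheaf.map (homOfLE (le_top : U ≤ ⊤)).op (g (p' i))
    obtain ⟨uc, huc⟩ := hcu.map (X.presheaf.map (homOfLE (le_top : U ≤ ⊤)).op).hom
    let a : Γ(X, U) := (show Γ(X, U) from θ.hom.app U (η r E U bU)) * (uc⁻¹ : Γ(X, U)ˣ)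
    have hab : bU = a • sU := by
      refine sub_eq_zero.1 (hinj U hU _ ?_)
      rw [map_sub, map_smul, map_sub, Scheme.Modules.Hom.app_smul, hres U]
      show (show Γ(X, U) from θ.hom.app U (η r E U bU)) - a * X.presheaf.map (homOfLE (le_top : U ≤ ⊤)).op c = 0
      rw [mul_assoc, ← huc, Units.inv_mul, mul_one, sub_self]
    have h1 := congrArg (wmap r _ (germSemi E hy)) hab
    rw [LinearMap.map_smulₛₗ, hgerm, hgerm] at h1
    have h2 := congrArg (exteriorPower.alternatingMapLinearEquiv b.det) h1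
    rw [map_smul, exteriorPower.alternatingMapLinearEquiv_apply_ιMulti,
      exteriorPower.alternatingMapLinearEquiv_apply_ιMulti,
      show (fun i => E.presheaf.germ ⊤ y trivial (g (p' i))) = ⇑b from funext fun i => (hb i).symm,
      Module.Basis.det_self, smul_eq_mul] at h2
    have hdet : IsUnit (b.det fun i => E.presheaf.germ ⊤ y trivial (s i)) :=
      isUnit_of_mul_isUnit_right (x := X.presheaf.germ U y hy a) (by rw [← h2]; exact isUnit_one)
    obtain ⟨hli, hsp⟩ := (b.is_basis_iff_det).2 hdet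
    let b' := Module.Basis.mk hli hsp.ge
    have hι : ∀ i, H06Mod.stalkLin φ y (H06Mod.stalkLin (Sigma.ι (fun _ : Fin r => Coh.structureModule X) i) y
        ((Coh.structureModule X).presheaf.germ ⊤ y trivial (H11Ample.one ⊤))) = b' i := by
      intro i
      rw [← stalkLin_comp, Sigma.ι_desc, germ_app, Module.Basis.mk_apply]
      exact congrArg _ ((H11Tilde.homOfGlobal_app E _ ⊤ _).trans ((one_smul _ _).trans
        (ConcreteCategory.congr_hom (E.presheaf.map_id (op ⊤)) _)))
    let σ : E.presheaf.stalk y →ₗ[X.presheaf.stalk y] (FlatMod.freeMod X r).presheaf.stalk y :=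
      b'.constr (X.presheaf.stalk y) fun i => H06Mod.stalkLin (Sigma.ι (fun _ : Fin r => Coh.structureModule X) i) y
        ((Coh.structureModule X).presheaf.germ ⊤ y trivial (H11Ample.one ⊤))
    have hσ : ∀ v, H06Mod.stalkLin φ y (σ v) = v := fun v => by
      have : (H06Mod.stalkLin φ y).comp σ = LinearMap.id := b'.ext fun i => by
        rw [LinearMap.comp_apply, Module.Basis.constr_basis, hι]
        rfl
      exact LinearMap.congr_fun this v
    refine ⟨fun v w hvw => ?_, fun v => ⟨σ v, hσ v⟩⟩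
    have hσsurj : Function.Surjective σ := by
      rw [← LinearMap.range_eq_top, eq_top_iff, ← spansStalks_of_epi (𝟙 (FlatMod.freeMod X r)) y, Submodule.span_le]
      rintro _ ⟨j, rfl⟩
      refine ⟨b' j, ?_⟩
      rw [Module.Basis.constr_basis, germ_app]
      simp only [Category.comp_id]
    obtain ⟨v', rfl⟩ := hσsurj v
    obtain ⟨w', rfl⟩ := hσsurj w
    rw [hσ, hσ] at hvw
    rw [hvw]
  exact ⟨(asIso φ).symm⟩

end Groth.Agent.H29RR
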