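import Groth.Agent.H29RR.Pencil

/-!
# Invertible modules with as many sections as possible
-/

set_option autoImplicit false
set_option linter.style.haveILetI false
set_option maxHeartbeats 600000
universe u

open CategoryTheory CategoryTheory.Limits AlgebraicGeometry Opposite TopologicalSpace

namespace Groth.Agent.H29RR

variable {k : Type u} [Field k] {X : Scheme.{u}} [X.Over (Spec (CommRingCat.of k))]
  [IsProper (X ↘ Spec (CommRingCat.of k))] [IsIntegral X]

/-- Equality in `h⁰ ≤ deg + 1` forces genus zero. -/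
theorem genus_eq_zero_of_max_sections (hdim : topologicalKrullDim X ≤ 1)
    (h00 : Module.finrank k (Coh.HH X (Coh.structureModule X) 0) = 1)
    {L : X.Modules} (hL : PicF.IsInvertible L) (hdeg : 0 < Curv2.deg k X L 1)
    (heq : (Module.finrank k (Coh.HH X L 0) : ℤ) = Curv2.deg k X L 1 + 1) : Curv2.genus k X = 0 := by
  classical
  haveI := isNoetherian_of_proper (k := k) (X := X)
  have hLf := H28Pinch.isFinLocFree_of_isInvertible hL
  have hLc := H16Derived.KFlat.Stalk.isCoh_of_isFinLocFree hLf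
  haveI := finite_HH (k := k) L hL 0
  haveI : Nontrivial (Coh.HH X L 0) := Module.nontrivial_of_finrank_pos (R := k) (by omega)
  obtain ⟨vs, hvs⟩ := exists_ne (0 : Coh.HH X L 0)
  have hg : sec L vs ≠ 0 := fun h => hvs ((sec L).injective (h.trans (map_zero _).symm))
  obtain ⟨hm, hη⟩ := mono_homOfGlobal hL hg
  haveI := hm
  let s := H11Tilde.homOfGlobal L (sec L vs)
  obtain ⟨hC, hfin, hcl, he⟩ := euler_sub_of_mono (k := k) hdim (H10Coh.isCoh_structureModule' X) hLc s hη
  have hd : Curv2.deg k X L 1 = (Module.finrank k (Coh.HH X (cokernel s) 0) : ℤ) := by rw [deg_def]; omega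
  haveI : Module.Finite k (Coh.HH X (cokernel s) 0) := H10Coh.finite_HH_proper k X _ hC 0
  haveI := finite_HH (k := k) _ (H11Ample.isInvertible_structureModule (X := X)) 0
  have hS : (ShortComplex.mk s (cokernel.π s) (cokernel.condition s)).ShortExact :=
    { exact := ShortComplex.exact_cokernel _ }
  have hsurj : Function.Surjective (Canon.HHlin k (cokernel.π s) 0) := by
    have h1 := LinearMap.finrank_range_add_finrank_ker (Canon.HHlin k (cokernel.π s) 0)
    have h2 : Module.finrank k (LinearMap.ker (Canon.HHlin k (cokernel.π s) 0)) ≤ 1 := by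
      rw [H25Par.hhlin_exact (k := k) (S := ShortComplex.mk s (cokernel.π s) (cokernel.condition s)) hS]
      exact (LinearMap.finrank_range_le _).trans h00.le
    have h3 := Submodule.finrank_le (LinearMap.range (Canon.HHlin k (cokernel.π s) 0))
    rw [← LinearMap.range_eq_top]
    exact Submodule.eq_top_of_finrank_eq (by omega)
  -- a point of the zero scheme
  obtain ⟨x, hx⟩ : ∃ x, x ∈ CohB1.support (cokernel s) := by
    by_contra! hno
    have hb := H25Par.germs_bijective (k := k) (cokernel s) hfin hcl (fun y hy => not_not.1 hy)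
    haveI : IsEmpty (CohB1.support (cokernel s)) := ⟨fun y => hno y.1 y.2⟩
    haveI : Subsingleton (Coh.HH X (cokernel s) 0) := hb.1.subsingleton
    rw [hd, Module.finrank_zero_of_subsingleton] at hdeg
    exact lt_irrefl _ hdeg
  let R := X.presheaf.stalk x
  let T := DerSch.stalkFunctor X x
  obtain ⟨hfr, hff, hr1⟩ := H25Par.finrank_stalk (rank_one_of_isInvertible hL) x
  haveI := hfr
  haveI := hff
  let b := Module.finBasisOfFinrankEq R (L.presheaf.stalk x) hr1
  let b₀ : T.obj L := b 0
  let gs : T.obj L := L.presheaf.germ ⊤ x trivial (sec L vs)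
  have hgen : ∀ z : T.obj L, ∃ c : R, z = c • b₀ := fun z => ⟨b.repr z 0, by
    conv_lhs => rw [← b.sum_repr z]
    exact Fin.sum_univ_one _⟩
  have hrange : ∀ z, (T.map (cokernel.π s)).hom z = 0 → ∃ c : R, z = c • gs := by
    intro z hz
    have hT := hS.map_of_exact T
    obtain ⟨y, hy⟩ := (ShortComplex.moduleCat_exact_iff _).1 hT.exact z hz
    have key : ∀ y : T.obj (Coh.structureModule X), ∃ c : R, (T.map s).hom y = c • gs := by
      intro y
      obtain ⟨V, hxV, r, rfl⟩ := (Coh.structureModule X).presheaf.exists_germ_eq y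
      refine ⟨X.presheaf.germ V x hxV r, ?_⟩
      refine (TopCat.Presheaf.stalkFunctor_map_germ_apply V x hxV s.mapPresheaf r).trans ?_
      show L.presheaf.germ V x hxV (s.app V r) = X.presheaf.germ V x hxV r • gs
      erw [H11Tilde.homOfGlobal_app, H17.AssPts.germ_smul']
      exact congrArg _ (TopCat.Presheaf.germ_res_apply L.presheaf _ _ _ _)
    obtain ⟨c, hc⟩ := key y
    exact ⟨c, hy.symm.trans hc⟩
  obtain ⟨r₀, hr₀⟩ := hgen gs
  have hr₀m : r₀ ∈ IsLocalRing.maximalIdeal R := by
    by_contra hu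
    rw [IsLocalRing.notMem_maximalIdeal] at hu
    refine hx ?_
    haveI : Epi (T.map (cokernel.π s)) := inferInstance
    refine subsingleton_of_forall_eq 0 fun q => ?_
    obtain ⟨z, rfl⟩ := (ModuleCat.epi_iff_surjective (T.map (cokernel.π s))).1 inferInstance q
    obtain ⟨c, rfl⟩ := hgen z
    have hgs : (T.map (cokernel.π s)).hom gs = 0 := by
      have h1 : gs = (T.map s).hom ((Coh.structureModule X).presheaf.germ ⊤ x trivial (show Γ(X, ⊤) from 1)) := by
        refine Eq.symm ((TopCat.Presheaf.stalkFunctor_map_germ_apply (⊤ : X.Opens) x trivial s.mapPresheaf _).trans ?_)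
        refine congrArg _ ?_
        show s.app ⊤ (show Γ(X, ⊤) from 1) = sec L vs
        erw [H11Tilde.homOfGlobal_app]
        simp
      rw [h1]
      have h5 := congrArg (fun ψ => (T.map ψ).hom ((Coh.structureModule X).presheaf.germ ⊤ x trivial (show Γ(X, ⊤) from 1)))
        (cokernel.condition s)
      simp only [Functor.map_comp, ModuleCat.hom_comp, LinearMap.comp_apply, Functor.map_zero] at h5
      exact h5
    obtain ⟨u, hu'⟩ := hu
    rw [show c • b₀ = (c * ↑u⁻¹) • gs by rw [hr₀, ← hu', smul_smul, mul_assoc, Units.inv_mul, mul_one],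
      map_smul, hgs, smul_zero]
    rfl
  -- a section generating at `x`
  obtain ⟨q, hq⟩ := (H25Par.germs_bijective (k := k) (cokernel s) hfin hcl (fun y hy => not_not.1 hy)).2
    (Function.update 0 ⟨x, hx⟩ ((T.map (cokernel.π s)).hom b₀))
  obtain ⟨w, hw⟩ := hsurj q
  let gw : T.obj L := L.presheaf.germ ⊤ x trivial (sec L w)
  have hwx : (T.map (cokernel.π s)).hom gw = (T.map (cokernel.π s)).hom b₀ := by
    have h1 := congrFun hq ⟨x, hx⟩
    rw [Function.update_self] at h1
    refine Eq.trans ?_ h1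
    rw [← hw]
    refine (TopCat.Presheaf.stalkFunctor_map_germ_apply (⊤ : X.Opens) x trivial (cokernel.π s).mapPresheaf _).trans ?_
    refine congrArg ((cokernel s).presheaf.germ ⊤ x trivial) ?_
    exact (H10Coh.H0Equiv_map ((H10Coh.shF X).map (cokernel.π s)) (H10Coh.HHEquiv L 0 w)).symm.trans
      (congrArg (H10Coh.H0Equiv _ _) (H10Coh.topEquiv_map ((H10Coh.shF X).map (cokernel.π s)) 0 w).symm)
  obtain ⟨c, hc⟩ := hrange (gw - b₀) (by rw [map_sub, hwx, sub_self])
  obtain ⟨u, hu⟩ : ∃ u : R, IsUnit u ∧ gw = u • b₀ := by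
    refine ⟨1 + c * r₀, ?_, ?_⟩
    · have hcm : c * r₀ ∈ IsLocalRing.maximalIdeal R := Ideal.mul_mem_left _ c hr₀m
      rcases IsLocalRing.isUnit_or_isUnit_of_isUnit_add (a := 1 + c * r₀) (b := -(c * r₀)) (by simp) with h | h
      · exact h
      · exact absurd ((IsUnit.neg_iff _).1 h) hcm
    · rw [add_smul, one_smul, mul_smul, ← hr₀, ← hc]; abel
  obtain ⟨u', rfl⟩ := hu.1
  let r : R := r₀ * ↑u'⁻¹
  have hrm : r ∈ IsLocalRing.maximalIdeal R := Ideal.mul_mem_right _ _ hr₀m
  have hrs : gs = r • gw := by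
    rw [hu.2, smul_smul, mul_assoc, Units.inv_mul, mul_one, ← hr₀]
  have hgsne : gs ≠ 0 := fun h0 => germ_ne_zero hLc.1 (H25Par.isTorsionFree_of_locFree hLf) hg (by
    rw [← H29Ref.sp_germ L (U := ⊤) x trivial (sec L vs)]
    exact (congrArg (H29Ref.sp L x) h0).trans (map_zero _))
  have hw0 : w ≠ 0 := by
    rintro rfl
    exact hgsne (by rw [hrs, show gw = 0 by simp [gw, map_zero]; rfl, smul_zero])
  have hr0 : r ≠ 0 := fun h0 => hgsne (by rw [hrs, h0, zero_smul])
  haveI : IsDomain R := Function.Injective.isDomain (H29Ref.spO x) (H29Ref.spO_injective x)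
  refine genus_eq_zero_of_pencil (k := k) hdim hL vs w hw0 (H29Ref.spO x r) ?_ ?_ ?_
  · have h1 := congrArg (H29Ref.sp L x) hrs
    erw [H29Ref.sp_smul] at h1
    erw [H29Ref.sp_germ L (U := ⊤) x trivial, H29Ref.sp_germ L (U := ⊤) x trivial] at h1
    exact h1
  · intro P hP
    let κ : k →+* R := H25Par.constStalk x
    have hκ : (H29Ref.spO x).comp κ = constGen (k := k) (X := X) := RingHom.ext fun a =>
      H29Ref.spO_germ (U := ⊤) x trivial _
    rw [← hκ, ← Polynomial.hom_eval₂, map_ne_zero_iff _ (H29Ref.spO_injective x)]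
    obtain ⟨q, hPq, hq⟩ := Polynomial.exists_eq_pow_rootMultiplicity_mul_and_not_dvd P hP.ne_zero 0
    rw [hPq, Polynomial.eval₂_mul, Polynomial.eval₂_pow, Polynomial.eval₂_sub, Polynomial.eval₂_X,
      Polynomial.eval₂_C, map_zero, sub_zero]
    refine mul_ne_zero (pow_ne_zero _ hr0) fun h0 => ?_
    have hq0 : q.coeff 0 ≠ 0 := fun h => hq (by simpa using Polynomial.X_dvd_iff.2 h)
    rw [← Polynomial.X_mul_divX_add q, Polynomial.eval₂_add, Polynomial.eval₂_mul, Polynomial.eval₂_X,
      Polynomial.eval₂_C, add_eq_zero_iff_eq_neg'] at h0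
    have hmem : κ (q.coeff 0) ∈ IsLocalRing.maximalIdeal R := by
      rw [h0]; exact neg_mem (Ideal.mul_mem_right _ _ hrm)
    exact hmem ((isUnit_iff_ne_zero.2 hq0).map κ)
  · have hrr := riemann_roch (k := k) hdim L
    rw [h00] at hrr
    omega

end Groth.Agent.H29RR
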