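import Groth.Agent.H29RR.Clifford
import Groth.Agent.H29Ref.HomSections
import Groth.Prelude.Def_KLin
import Mathlib.RingTheory.IntegralClosure.Algebra.Basic

/-!
# Endomorphisms of coherent modules on proper schemes; Fitting's lemma
-/

set_option autoImplicit false
set_option linter.style.haveILetI false
universe u

open CategoryTheory CategoryTheory.Limits AlgebraicGeometry TopologicalSpace Opposite Polynomial

namespace Groth.Agent.H29RR

attribute [local instance 10000] H10Coh.hasSheafifyAb H10Coh.hasWeakSheafifyAb H10Coh.hasExtAb H10Coh.enoughInjAb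

/-- Fitting: in a finite-dimensional algebra without nontrivial idempotents, elements are units or nilpotent. -/
theorem isUnit_or_isNilpotent {k A : Type*} [Field k] [Ring A] [Algebra k A] [Module.Finite k A]
    (hidem : ∀ e : A, e * e = e → e = 0 ∨ e = 1) (a : A) : IsUnit a ∨ IsNilpotent a := by
  have ha : IsIntegral k a := Algebra.IsIntegral.isIntegral a
  have hp0 : minpoly k a ≠ 0 := minpoly.ne_zero ha
  obtain ⟨m, q, hq, hpq⟩ : ∃ (m : ℕ) (q : k[X]), q.coeff 0 ≠ 0 ∧ minpoly k a = X ^ m * q := by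
    obtain ⟨q, hq, hdvd⟩ := exists_eq_pow_rootMultiplicity_mul_and_not_dvd _ hp0 0
    refine ⟨rootMultiplicity 0 (minpoly k a), q, fun h => hdvd (by rwa [map_zero, sub_zero, X_dvd_iff]), ?_⟩
    simpa using hq
  obtain ⟨u, v, huv⟩ : ∃ u v : k[X], u * X ^ m + v * q = 1 := by
    refine IsCoprime.pow_left (show IsCoprime X q from ?_)
    exact (Polynomial.irreducible_X.coprime_iff_not_dvd).2 fun h => hq (X_dvd_iff.1 h)
  have h0 : aeval a (X ^ m * q) = 0 := hpq ▸ minpoly.aeval k a
  have he : aeval a (u * X ^ m) * aeval a (u * X ^ m) = aeval a (u * X ^ m) := by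
    have h1 : (u * X ^ m) * (u * X ^ m) = u * X ^ m - u * v * (X ^ m * q) := by
      linear_combination (u * X ^ m) * huv
    rw [← map_mul, h1, map_sub, map_mul _ (u * v), h0, mul_zero, sub_zero]
  rcases hidem _ he with h | h
  · refine Or.inr ⟨m, ?_⟩
    have h2 : (X ^ m : k[X]) = X ^ m * (u * X ^ m) + v * (X ^ m * q) := by
      linear_combination -(X ^ m) * huv
    have h3 := congrArg (aeval a) h2
    rw [map_add, map_mul _ (X ^ m), h, mul_zero, map_mul _ v, h0, mul_zero, add_zero, map_pow, aeval_X] at h3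
    exact h3
  · cases m with
    | zero =>
      refine Or.inl ?_
      rw [pow_zero, one_mul] at h0
      obtain ⟨r, hr⟩ : X ∣ q - C (q.coeff 0) := by rw [X_dvd_iff]; simp
      have h4 : aeval a (X * r) = algebraMap k A (-q.coeff 0) := by
        rw [← hr, map_sub, h0, aeval_C, map_neg, zero_sub]
      have hu : IsUnit (aeval a (X * r)) := h4 ▸ (Ne.isUnit (neg_ne_zero.2 hq)).map _
      rw [map_mul, aeval_X] at hu
      exact ((Commute.isUnit_mul_iff (by
        have := (Commute.all (X : k[X]) r).map (aeval (R := k) a)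
        rwa [aeval_X] at this)).1 hu).1
    | succ m =>
      refine Or.inl ?_
      have hu : IsUnit (aeval a (u * X ^ (m + 1))) := h ▸ isUnit_one
      rw [pow_succ', ← mul_assoc, mul_comm u X, mul_assoc, map_mul, aeval_X] at hu
      exact ((Commute.isUnit_mul_iff (by
        have := (Commute.all (X : k[X]) (u * X ^ m)).map (aeval (R := k) a)
        rwa [aeval_X] at this)).1 hu).1

/-- A finite-dimensional algebra without nontrivial idempotents is local. -/
theorem isUnit_or_of_isUnit_add {k A : Type*} [Field k] [Ring A] [Algebra k A] [Module.Finite k A]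
    (hidem : ∀ e : A, e * e = e → e = 0 ∨ e = 1) {a b : A} (h : IsUnit (a + b)) : IsUnit a ∨ IsUnit b := by
  obtain ⟨w, hw⟩ := h
  rcases isUnit_or_isNilpotent (k := k) hidem ((↑w⁻¹ : A) * a) with h1 | h1
  · refine Or.inl ?_
    simpa using w.isUnit.mul h1
  · refine Or.inr ?_
    have h2 : (↑w⁻¹ : A) * b = 1 - (↑w⁻¹ : A) * a := by
      rw [eq_sub_iff_add_eq', ← mul_add, ← hw, Units.inv_mul]
    have h3 : IsUnit ((↑w⁻¹ : A) * b) := h2 ▸ h1.isUnit_one_sub
    simpa using w.isUnit.mul h3

/-- In an abelian category, an indecomposable object has no nontrivial idempotents. -/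
theorem idem_of_indecomposable {C : Type*} [Category C] [Abelian C] {E : C}
    (hind : ∀ E₁ E₂ : C, Nonempty (E ≅ E₁ ⊞ E₂) → IsZero E₁ ∨ IsZero E₂) (e : E ⟶ E) (he : e ≫ e = e) :
    e = 0 ∨ e = 𝟙 E := by
  have h1 : (𝟙 E - e) ≫ e = 0 := by rw [Preadditive.sub_comp, Category.id_comp, he, sub_self]
  have h2 : e ≫ (𝟙 E - e) = 0 := by rw [Preadditive.comp_sub, Category.comp_id, he, sub_self]
  let a : E ⟶ kernel e := kernel.lift e _ h1
  let b : E ⟶ kernel (𝟙 E - e) := kernel.lift _ _ h2
  have hK₁ : kernel.ι e ≫ a = 𝟙 _ := by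
    rw [← cancel_mono (kernel.ι e), Category.assoc, kernel.lift_ι, Preadditive.comp_sub, kernel.condition,
      Category.comp_id, sub_zero, Category.id_comp]
  have hK₂ : kernel.ι (𝟙 E - e) ≫ b = 𝟙 _ := by
    rw [← cancel_mono (kernel.ι (𝟙 E - e)), Category.assoc, kernel.lift_ι, Category.id_comp]
    have := kernel.condition (𝟙 E - e)
    rw [Preadditive.comp_sub, Category.comp_id, sub_eq_zero] at this
    exact this.symm
  have hK₁₂ : kernel.ι e ≫ b = 0 := by
    rw [← cancel_mono (kernel.ι (𝟙 E - e)), Category.assoc, kernel.lift_ι, kernel.condition, Limits.zero_comp]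
  have hK₂₁ : kernel.ι (𝟙 E - e) ≫ a = 0 := by
    rw [← cancel_mono (kernel.ι e), Category.assoc, kernel.lift_ι, kernel.condition, Limits.zero_comp]
  let φ : E ≅ kernel e ⊞ kernel (𝟙 E - e) :=
    { hom := biprod.lift a b
      inv := biprod.desc (kernel.ι e) (kernel.ι (𝟙 E - e))
      hom_inv_id := by rw [biprod.lift_desc, kernel.lift_ι, kernel.lift_ι]; abel
      inv_hom_id := by ext <;> simp [hK₁, hK₂, hK₁₂, hK₂₁] }
  rcases hind _ _ ⟨φ⟩ with h | h
  · refine Or.inr (sub_eq_zero.1 ?_).symm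
    rw [← kernel.lift_ι e _ h1, show kernel.lift e _ h1 = 0 from h.eq_of_tgt _ _]
    exact Limits.zero_comp
  · refine Or.inl ?_
    rw [← kernel.lift_ι _ _ h2, show kernel.lift _ _ h2 = 0 from h.eq_of_tgt _ _]
    exact Limits.zero_comp

variable {k : Type u} [Field k] {X : Scheme.{u}} [X.Over (Spec (CommRingCat.of k))]

/-- Hom spaces of coherent modules on proper schemes are finite-dimensional. -/
theorem finite_hom [IsProper (X ↘ Spec (CommRingCat.of k))] {F G : X.Modules} (hF : Coh.IsCoh F)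
    (hG : Coh.IsCoh G) : Module.Finite k (F ⟶ G) := by
  haveI := isNoetherian_of_proper (k := k) (X := X)
  haveI : Module.Finite k (Coh.HH X (RefHull.homSh F G) 0) :=
    H10Coh.finite_HH_proper k X _ (H29Ref.isCoh_homSh F G hF hG) 0
  have hadd : ∀ (φ ψ : F ⟶ G), RefHull.ofHom (φ + ψ) ⊤ = RefHull.ofHom φ ⊤ + RefHull.ofHom ψ ⊤ := fun φ ψ =>
    Subtype.ext (funext fun y => LinearMap.ext fun v => by
      obtain ⟨U, hy, m, rfl⟩ := TopCat.Presheaf.exists_germ_eq F.presheaf v
      show RefHull.stalkMapₗ (φ + ψ) y.1 _ = RefHull.stalkMapₗ φ y.1 _ + RefHull.stalkMapₗ ψ y.1 _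
      rw [RefHull.stalkMapₗ_germ, RefHull.stalkMapₗ_germ, RefHull.stalkMapₗ_germ, ← map_add]
      rfl)
  let Φ : (F ⟶ G) →ₗ[k] Coh.HH X (RefHull.homSh F G) 0 :=
    { toFun := fun φ => (sec _).symm (RefHull.ofHom φ ⊤)
      map_add' := fun φ ψ => by rw [hadd, map_add]
      map_smul' := fun c φ => (sec _).injective (by
        rw [RingHom.id_apply, sec_smul, AddEquiv.apply_symm_apply, AddEquiv.apply_symm_apply]
        refine Subtype.ext (funext fun y => LinearMap.ext fun v => ?_)
        obtain ⟨U, hy, m, rfl⟩ := TopCat.Presheaf.exists_germ_eq F.presheaf v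
        show RefHull.stalkMapₗ (Formal.smulMod k F c ≫ φ) y.1 _ =
          X.presheaf.germ ⊤ y.1 trivial (H10Coh.globA (A := k) (X := X) c) • RefHull.stalkMapₗ φ y.1 _
        rw [RefHull.stalkMapₗ_germ, RefHull.stalkMapₗ_germ,
          ← TopCat.Presheaf.germ_res_apply X.presheaf (homOfLE (le_top : U ≤ ⊤)) y.1 hy, ← Mero.germ_smul]
        refine congrArg _ ?_
        show φ.app U ((Formal.smulModΓ F _).app U m) = _
        rw [KLin.smulModΓ_app_apply, Scheme.Modules.Hom.app_smul]
        rfl) }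
  refine Module.Finite.of_injective Φ fun φ ψ h => ?_
  have h' : RefHull.ofHom φ ⊤ = RefHull.ofHom ψ ⊤ := (sec _).symm.injective h
  refine Scheme.Modules.hom_ext _ _ fun U => ?_
  ext m
  refine H29Ref.sec_ext G fun y hy => ?_
  rw [← RefHull.stalkMapₗ_germ φ y hy, ← RefHull.stalkMapₗ_germ ψ y hy]
  exact congrArg (fun t => t.1 ⟨y, trivial⟩ (F.presheaf.germ U y hy m)) h'

/-- Indecomposable coherent modules on proper schemes have local endomorphism rings. -/
theorem isIso_or_of_isIso_add [IsProper (X ↘ Spec (CommRingCat.of k))] {E : X.Modules} (hE : Coh.IsCoh E)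
    (hind : ∀ E₁ E₂ : X.Modules, Nonempty (E ≅ E₁ ⊞ E₂) → IsZero E₁ ∨ IsZero E₂) {f g : E ⟶ E}
    (h : IsIso (f + g)) : IsIso f ∨ IsIso g := by
  haveI : Module.Finite k (End E) := finite_hom (k := k) hE hE
  have key := isUnit_or_of_isUnit_add (k := k) (A := End E)
    (fun e he => idem_of_indecomposable hind e he) (a := f) (b := g) ((isUnit_iff_isIso _).2 h)
  exact key.imp (isUnit_iff_isIso _).1 (isUnit_iff_isIso _).1

end Groth.Agent.H29RR
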