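import Groth.Agent.H29RR.Twist
import Groth.Agent.H29RR.GenPoint
import Groth.Agent.H11Ample.Basic

/-!
# Evaluation of global sections of a bundle at a closed point
-/

set_option autoImplicit false
set_option linter.style.haveILetI false
universe u

open CategoryTheory CategoryTheory.Limits AlgebraicGeometry TopologicalSpace Opposite
open Groth.Agent.H11Tilde

namespace Groth.Agent.H29RR

attribute [local instance] Curv2.resAlgebra
attribute [local instance 10000] H10Coh.hasSheafifyAb H10Coh.hasWeakSheafifyAb H10Coh.hasExtAb H10Coh.enoughInjAb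

variable {X : Scheme.{u}}

/-- The global sections generate the stalk. -/
def SpansAt (E : X.Modules) (x : X) : Prop :=
  Submodule.span (X.presheaf.stalk x) (Set.range fun g : Γ(E, ⊤) => E.presheaf.germ ⊤ x trivial g) = ⊤

theorem germ_app {E F : X.Modules} (φ : E ⟶ F) (x : X) (g : Γ(E, ⊤)) :
    H06Mod.stalkLin φ x (E.presheaf.germ ⊤ x trivial g) = F.presheaf.germ ⊤ x trivial (φ.app ⊤ g) :=
  H06Mod.stalkLin_germ φ x ⊤ trivial g

theorem spansAt_structureModule (x : X) : SpansAt (Coh.structureModule X) x := by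
  rw [SpansAt, eq_top_iff]
  rintro v -
  obtain ⟨r, hr⟩ := (H11Ample.isGen_one (X := X) ⊤ x trivial).2 v
  rw [← hr]
  exact Submodule.smul_mem _ _ (Submodule.subset_span ⟨H11Ample.one ⊤, rfl⟩)

theorem spansAt_of_surjective {E F : X.Modules} (φ : E ⟶ F) {x : X} (hE : SpansAt E x)
    (h : Function.Surjective (H06Mod.stalkLin φ x)) : SpansAt F x := by
  rw [SpansAt, eq_top_iff]
  rintro v -
  obtain ⟨w, rfl⟩ := h v
  have hw : w ∈ Submodule.span (X.presheaf.stalk x) (Set.range fun g : Γ(E, ⊤) => E.presheaf.germ ⊤ x trivial g) :=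
    hE ▸ Submodule.mem_top
  induction hw using Submodule.span_induction with
  | mem y hy => obtain ⟨g, rfl⟩ := hy; exact Submodule.subset_span ⟨φ.app ⊤ g, (germ_app φ x g).symm⟩
  | zero => rw [map_zero]; exact zero_mem _
  | add y z _ _ hy hz => rw [map_add]; exact add_mem hy hz
  | smul r y _ hy => rw [map_smul]; exact Submodule.smul_mem _ r hy

theorem surjective_of_spansAt {E F : X.Modules} (φ : E ⟶ F) {x : X} (hF : SpansAt F x)
    (h : Function.Surjective (φ.app ⊤)) : Function.Surjective (H06Mod.stalkLin φ x) := by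
  rw [← LinearMap.range_eq_top, eq_top_iff, ← hF, Submodule.span_le]
  rintro _ ⟨g, rfl⟩
  obtain ⟨g', rfl⟩ := h g
  exact ⟨_, germ_app φ x g'⟩

theorem stalkLin_comp {E F G : X.Modules} (φ : E ⟶ F) (ψ : F ⟶ G) (x : X) (v : E.presheaf.stalk x) :
    H06Mod.stalkLin (φ ≫ ψ) x v = H06Mod.stalkLin ψ x (H06Mod.stalkLin φ x v) := by
  obtain ⟨U, hx, s, rfl⟩ := E.presheaf.exists_germ_eq v
  rw [H06Mod.stalkLin_germ, H06Mod.stalkLin_germ, H06Mod.stalkLin_germ]
  rfl

theorem stalkLin_add {E F : X.Modules} (φ ψ : E ⟶ F) (x : X) (v : E.presheaf.stalk x) :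
    H06Mod.stalkLin (φ + ψ) x v = H06Mod.stalkLin φ x v + H06Mod.stalkLin ψ x v := by
  obtain ⟨U, hx, s, rfl⟩ := E.presheaf.exists_germ_eq v
  rw [H06Mod.stalkLin_germ, H06Mod.stalkLin_germ, H06Mod.stalkLin_germ, ← map_add]
  rfl

theorem spansAt_biprod {E F : X.Modules} {x : X} (hE : SpansAt E x) (hF : SpansAt F x) : SpansAt (E ⊞ F) x := by
  rw [SpansAt, eq_top_iff]
  rintro v -
  have hv : H06Mod.stalkLin (biprod.fst ≫ biprod.inl) x v + H06Mod.stalkLin (biprod.snd ≫ biprod.inr) x v = v := by
    rw [← stalkLin_add, biprod.total]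
    obtain ⟨U, hx, s, rfl⟩ := (E ⊞ F).presheaf.exists_germ_eq v
    rw [H06Mod.stalkLin_germ]
    rfl
  rw [← hv]
  refine add_mem ?_ ?_
  · rw [stalkLin_comp]
    generalize H06Mod.stalkLin (biprod.fst : E ⊞ F ⟶ E) x v = a
    have ha : a ∈ Submodule.span (X.presheaf.stalk x) (Set.range fun g : Γ(E, ⊤) => E.presheaf.germ ⊤ x trivial g) :=
      hE ▸ Submodule.mem_top
    induction ha using Submodule.span_induction with
    | mem y hy => obtain ⟨g, rfl⟩ := hy; exact Submodule.subset_span ⟨_, (germ_app _ x g).symm⟩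
    | zero => rw [map_zero]; exact zero_mem _
    | add y z _ _ hy hz => rw [map_add]; exact add_mem hy hz
    | smul r y _ hy => rw [map_smul]; exact Submodule.smul_mem _ r hy
  · rw [stalkLin_comp]
    generalize H06Mod.stalkLin (biprod.snd : E ⊞ F ⟶ F) x v = a
    have ha : a ∈ Submodule.span (X.presheaf.stalk x) (Set.range fun g : Γ(F, ⊤) => F.presheaf.germ ⊤ x trivial g) :=
      hF ▸ Submodule.mem_top
    induction ha using Submodule.span_induction with
    | mem y hy => obtain ⟨g, rfl⟩ := hy; exact Submodule.subset_span ⟨_, (germ_app _ x g).symm⟩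
    | zero => rw [map_zero]; exact zero_mem _
    | add y z _ _ hy hz => rw [map_add]; exact add_mem hy hz
    | smul r y _ hy => rw [map_smul]; exact Submodule.smul_mem _ r hy

theorem surjective_stalk_of_notMem_support {E F : X.Modules} (φ : E ⟶ F) {x : X}
    (hx : x ∉ CohB1.support (cokernel φ)) : Function.Surjective (H06Mod.stalkLin φ x) := by
  intro v
  let T := DerSch.stalkFunctor X x
  have hT : ((ShortComplex.mk φ (cokernel.π φ) (cokernel.condition φ)).map T).Exact :=
    (ShortComplex.exact_cokernel φ).map T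
  haveI : Subsingleton (T.obj (cokernel φ)) := not_not.1 hx
  exact (ShortComplex.moduleCat_exact_iff _).1 hT v
    (@Subsingleton.elim (T.obj (cokernel φ)) inferInstance _ _)

variable {k : Type u} [Field k] [X.Over (Spec (CommRingCat.of k))] [IsProper (X ↘ Spec (CommRingCat.of k))]

/-- The twist down by a rational point drops `h⁰` by the rank exactly when sections span at that point. -/
theorem h0_twist_point_eq_iff {x : X} (hx : IsClosed ({x} : Set X))
    (h1 : Module.finrank k (X.residueField x) = 1) {E : X.Modules} {n : ℕ}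
    (hE : FlatMod.IsFinLocFreeOfRank n E) :
    Module.finrank k (Coh.HH X (CohB1.tensorMod (ClSub.idealMod (ptIdeal x)) E) 0) + n =
        Module.finrank k (Coh.HH X E 0) ↔ SpansAt E x := by
  haveI := isNoetherian_of_proper (k := k) (X := X)
  let I := ptIdeal x
  let Q := ClSub.quotMod I
  have hQc : Coh.IsCoh Q :=
    H24FSch.isCoh_pushforward_of_isClosedImmersion I.subschemeι (H10Coh.isCoh_structureModule' _)
  have hsupp : CohB1.support Q ⊆ {x} := fun y hy => by
    have := LeadProper.support_subset_range (F := Q)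
      (@H10Coh.isQuasicoherent_pushforward _ _ I.subschemeι inferInstance inferInstance _ H10Coh.isQuasicoherent_unit)
      I.subschemeι (Iso.refl _) hy
    rwa [range_subscheme_pt hx] at this
  have hEf : FlatMod.IsFinLocFree E := locFree_of_rank hE
  have hEc : Coh.IsCoh E := isCoh_of_rank hE
  let T := (DCoh.tensorBi (X := X)).flip.obj E
  haveI := H10Coh.epi_toSubscheme I
  have hS : (ShortComplex.mk (ClSub.idealModι I) (ClSub.toSubscheme I) (kernel.condition _)).ShortExact :=
    { exact := ShortComplex.exact_kernel _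
      mono_f := inferInstanceAs (Mono (kernel.ι _)) }
  have hS' := H16Derived.KFlat.Stalk.isFlatObj_of_isFlat (H16Derived.KFlat.Stalk.isFlat_of_isFinLocFree hEf) _ hS
  haveI : Mono (T.map (ClSub.idealModι I)) := hS'.mono_f
  haveI : Epi (T.map (ClSub.toSubscheme I)) := hS'.epi_g
  let u : T.obj (Coh.structureModule X) ≅ E := H10Coh.Tw.leftUnitIso E
  let q : E ⟶ T.obj Q := u.inv ≫ T.map (ClSub.toSubscheme I)
  haveI : Epi q := epi_comp _ _
  haveI : Module.Finite k (Coh.HH X (T.obj Q) 0) :=
    H10Coh.finite_HH_proper k X _ (H10Coh.TT.isCoh_tensorMod hQc hEc) 0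
  haveI : Module.Finite k (Coh.HH X (T.obj (Coh.structureModule X)) 0) :=
    H10Coh.finite_HH_proper k X _ (H10Coh.TT.isCoh_tensorMod (H10Coh.isCoh_structureModule' X) hEc) 0
  haveI : Module.Finite k (Coh.HH X E 0) := H10Coh.finite_HH_proper k X E hEc 0
  have hTsupp : ∀ y, y ∉ ({x} : Set X) → Subsingleton ((T.obj Q).presheaf.stalk y) := fun y hy =>
    not_not.1 fun h => hy (hsupp (H25Euler.support_tensor_subset Q E h))
  have hgerm := H25Par.germs_bijective (k := k) (T.obj Q) (Set.finite_singleton x)
    (fun z hz => by obtain rfl := hz; exact hx) hTsupp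
  let W := H25Par.Stk k (T.obj Q) x
  let P : Coh.HH X (T.obj Q) 0 →ₗ[k] W :=
    (LinearMap.proj (R := k) (φ := fun y : ({x} : Set X) => H25Par.Stk k (T.obj Q) y.1) ⟨x, rfl⟩).comp
      (H25Par.germs (k := k) (T.obj Q) {x})
  have hP : Function.Bijective P := by
    refine ⟨fun v w hvw => hgerm.1 (funext fun ⟨y, hy⟩ => by obtain rfl := hy; exact hvw), fun t => ?_⟩
    let f : ∀ y : ({x} : Set X), H25Par.Stk k (T.obj Q) y.1 := fun ⟨y, hy⟩ => by
      rw [Set.mem_singleton_iff] at hy
      subst hy
      exact t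
    obtain ⟨w, hw⟩ := hgerm.2 f
    exact ⟨w, congrFun hw ⟨x, rfl⟩⟩
  have hQ1 : Module.finrank k (Coh.HH X Q 0) = 1 := (finrank_h0_quotMod_pt (k := k) hx).trans h1
  have hqn : Module.finrank k (Coh.HH X (T.obj Q) 0) = n := by
    refine (finrank_h0_tensor_bundle (k := k) hE ((Set.finite_singleton x).subset hsupp)
      (fun z hz => by obtain rfl := hsupp hz; exact hx) (H10Coh.finite_HH_proper k X _ hQc 0)).trans ?_
    show n * Module.finrank k (Coh.HH X Q 0) = n
    rw [hQ1, mul_one]
  have hW : Module.finrank k W = n := (LinearEquiv.ofBijective P hP).finrank_eq.symm.trans hqn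
  haveI : Module.Finite k W := Module.Finite.equiv (LinearEquiv.ofBijective P hP)
  -- the maximal ideal kills the fibre
  have hkQ : ∀ r ∈ IsLocalRing.maximalIdeal (X.presheaf.stalk x), ∀ v : Q.presheaf.stalk x, r • v = 0 := by
    have hgQ := H25Par.germs_bijective (k := k) Q (Set.finite_singleton x)
      (fun z hz => by obtain rfl := hz; exact hx) (fun y hy => not_not.1 fun h => hy (hsupp h))
    let PQ : Coh.HH X Q 0 →ₗ[k] H25Par.Stk k Q x :=
      (LinearMap.proj (R := k) (φ := fun y : ({x} : Set X) => H25Par.Stk k Q y.1) ⟨x, rfl⟩).comp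
        (H25Par.germs (k := k) Q {x})
    have hPQ : Function.Bijective PQ := by
      refine ⟨fun v w hvw => hgQ.1 (funext fun ⟨y, hy⟩ => by obtain rfl := hy; exact hvw), fun t => ?_⟩
      let f : ∀ y : ({x} : Set X), H25Par.Stk k Q y.1 := fun ⟨y, hy⟩ => by
        rw [Set.mem_singleton_iff] at hy
        subst hy
        exact t
      obtain ⟨w, hw⟩ := hgQ.2 f
      exact ⟨w, congrFun hw ⟨x, rfl⟩⟩
    have hd : Module.finrank k (H25Par.Stk k Q x) = 1 :=
      (LinearEquiv.ofBijective PQ hPQ).finrank_eq.symm.trans hQ1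
    intro r hr v
    by_contra hrv
    have hv : (v : H25Par.Stk k Q x) ≠ 0 := fun h => hrv (by rw [show v = 0 from h, smul_zero])
    obtain ⟨c, hc⟩ := exists_smul_eq_of_finrank_eq_one hd hv (r • v)
    change H25Par.constStalk (k := k) x c • v = r • v at hc
    by_cases hc0 : c = 0
    · rw [hc0, map_zero, zero_smul] at hc
      exact hrv hc.symm
    · have hu : IsUnit (H25Par.constStalk (k := k) x c - r) := by
        have hcu : IsUnit (H25Par.constStalk (k := k) x c) := (Ne.isUnit hc0).map _
        by_contra h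
        exact (IsLocalRing.nonunits_add (hr : r ∈ nonunits _) (h : _ ∈ nonunits _)) (by simpa using hcu)
      exact hrv (by rw [hu.smul_eq_zero.1 (by rw [sub_smul, hc, sub_self] : (H25Par.constStalk (k := k) x c - r) • v = 0), smul_zero])
  have hkW : ∀ r ∈ IsLocalRing.maximalIdeal (X.presheaf.stalk x), ∀ w : (T.obj Q).presheaf.stalk x, r • w = 0 := by
    intro r hr w
    obtain ⟨z, rfl⟩ := (H16Derived.KFlat.Stalk.stalkEquiv Q E x).surjective w
    refine ((H16Derived.KFlat.Stalk.stalkEquiv Q E x).map_smul r z).symm.trans ?_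
    have : r • z = 0 := by
      induction z using TensorProduct.induction_on with
      | zero => rw [smul_zero]
      | tmul a b => rw [TensorProduct.smul_tmul', hkQ r hr, TensorProduct.zero_tmul]
      | add a b ha hb => rw [smul_add, ha, hb, add_zero]
    rw [this]
    exact LinearEquiv.map_zero _
  -- residues are constants
  have hres : ∀ r : X.presheaf.stalk x, ∃ c : k,
      r - H25Par.constStalk (k := k) x c ∈ IsLocalRing.maximalIdeal (X.presheaf.stalk x) := by
    intro r
    haveI : Module.Finite k (X.residueField x) := Module.finite_of_finrank_eq_succ h1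
    have hsurj : Function.Surjective (algebraMap k (X.residueField x)) :=
      (LinearMap.injective_iff_surjective_of_finrank_eq_finrank ((Module.finrank_self k).trans h1.symm)
        (f := (Algebra.linearMap k (X.residueField x)))).1 (algebraMap k (X.residueField x)).injective
    obtain ⟨c, hc⟩ := hsurj (X.residue x r)
    refine ⟨c, ?_⟩
    rw [← IsLocalRing.residue_eq_zero_iff, map_sub, sub_eq_zero]
    exact hc.symm
  let qs := H06Mod.stalkLin q x
  have hqsurj : Function.Surjective qs :=
    (ModuleCat.epi_iff_surjective _).1 (inferInstance : Epi ((DerSch.stalkFunctor X x).map q))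
  let qW : E.presheaf.stalk x →+ W := qs.toAddMonoidHom
  have hqW : ∀ (r : X.presheaf.stalk x) (c : k), r - H25Par.constStalk (k := k) x c ∈ IsLocalRing.maximalIdeal (X.presheaf.stalk x) →
      ∀ z : E.presheaf.stalk x, qW (r • z) = c • qW z := by
    intro r c hrc z
    show qs (r • z) = H25Par.constStalk (k := k) x c • qs z
    rw [map_smul, ← sub_eq_zero, ← sub_smul]
    exact hkW _ hrc _
  have hcomp : ∀ v : Coh.HH X E 0, P (Canon.HHlin k q 0 v) = qs (E.presheaf.germ ⊤ x trivial (sec E v)) := by
    intro v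
    rw [germ_app]
    exact congrArg ((T.obj Q).presheaf.germ ⊤ x trivial) (sec_natural (k := k) q v)
  -- the dimension count
  have hrk : Module.finrank k (Coh.HH X E 0) = Module.finrank k (LinearMap.range (Canon.HHlin k q 0)) +
      Module.finrank k (Coh.HH X (CohB1.tensorMod (ClSub.idealMod I) E) 0) := by
    have hex := H25Par.hhlin_exact (k := k) hS'
    have hinj := hhlin_zero_injective (k := k) (T.map (ClSub.idealModι I))
    have h0 := LinearMap.finrank_range_add_finrank_ker (Canon.HHlin k (T.map (ClSub.toSubscheme I)) 0)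
    rw [show LinearMap.ker (Canon.HHlin k (T.map (ClSub.toSubscheme I)) 0) =
        LinearMap.range (Canon.HHlin k (T.map (ClSub.idealModι I)) 0) from hex,
      LinearMap.finrank_range_of_inj hinj] at h0
    have hr : LinearMap.range (Canon.HHlin k q 0) = LinearMap.range (Canon.HHlin k (T.map (ClSub.toSubscheme I)) 0) := by
      refine le_antisymm ?_ ?_
      · rintro _ ⟨v, rfl⟩
        exact ⟨Canon.HHlin k u.inv 0 v, (hhlin_comp (k := k) _ _ 0 v).symm⟩
      · rintro _ ⟨v, rfl⟩
        refine ⟨Canon.HHlin k u.hom 0 v, ?_⟩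
        show Canon.HHlin k (u.inv ≫ T.map _) 0 _ = _
        rw [← hhlin_comp (k := k), Iso.hom_inv_id_assoc]
    rw [hr, ← (hhIso (k := k) u 0).finrank_eq]
    exact h0.symm
  have key : Module.finrank k (LinearMap.range (Canon.HHlin k q 0)) = n ↔ SpansAt E x := by
    constructor
    · intro h
      have htop : LinearMap.range (Canon.HHlin k q 0) = ⊤ := Submodule.eq_top_of_finrank_eq (h.trans hqn.symm)
      obtain ⟨hf, hfin, hr'⟩ := H25Par.finrank_stalk hE x
      haveI := hfin
      haveI := hf
      let N := Submodule.span (X.presheaf.stalk x) (Set.range fun g : Γ(E, ⊤) => E.presheaf.germ ⊤ x trivial g)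
      have hker : LinearMap.ker qs ≤ IsLocalRing.maximalIdeal (X.presheaf.stalk x) • ⊤ := by
        intro v hv
        let b := Module.finBasisOfFinrankEq (X.presheaf.stalk x) (E.presheaf.stalk x) hr'
        let Φ : (Fin n → k) →ₗ[k] W := Fintype.linearCombination k fun j => qW (b j)
        choose c hc using hres
        have hΦ : ∀ z, Φ (fun j => c (b.repr z j)) = qW z := by
          intro z
          conv_rhs => rw [← b.sum_repr z, map_sum]
          rw [Fintype.linearCombination_apply]
          exact Finset.sum_congr rfl fun j _ => (hqW _ _ (hc _) _).symm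
        have hΦsurj : Function.Surjective Φ := fun w => by
          obtain ⟨z, hz⟩ := hqsurj w
          exact ⟨_, (hΦ z).trans hz⟩
        have hΦinj : Function.Injective Φ :=
          (LinearMap.injective_iff_surjective_of_finrank_eq_finrank ((Module.finrank_fin_fun k).trans hW.symm)).2 hΦsurj
        have hz : (fun j => c (b.repr v j)) = 0 := hΦinj ((hΦ v).trans ((show qW v = 0 from hv).trans (map_zero Φ).symm))
        rw [← b.sum_repr v]
        refine Submodule.sum_mem _ fun j _ => Submodule.smul_mem_smul ?_ Submodule.mem_top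
        have h := hc (b.repr v j)
        rwa [show c (b.repr v j) = 0 from congrFun hz j, map_zero, sub_zero] at h
      refine top_le_iff.1 (Submodule.le_of_le_smul_of_le_jacobson_bot (N := N) Module.Finite.fg_top
        (IsLocalRing.jacobson_eq_maximalIdeal ⊥ bot_ne_top).ge fun v _ => ?_)
      obtain ⟨y, hy⟩ := hP.2 (qs v : W)
      obtain ⟨t, rfl⟩ : y ∈ LinearMap.range (Canon.HHlin k q 0) := htop ▸ Submodule.mem_top
      rw [hcomp] at hy
      rw [Submodule.mem_sup]
      refine ⟨_, Submodule.subset_span ⟨sec E t, rfl⟩, v - E.presheaf.germ ⊤ x trivial (sec E t), hker ?_,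
        add_sub_cancel _ _⟩
      show qs (v - _) = 0
      rw [map_sub, sub_eq_zero]
      exact hy.symm
    · intro h
      rw [show LinearMap.range (Canon.HHlin k q 0) = ⊤ from ?_, finrank_top, hqn]
      rw [eq_top_iff]
      intro y _
      obtain ⟨v, hv⟩ := hqsurj (P y : W)
      have hmem : v ∈ Submodule.span (X.presheaf.stalk x) (Set.range fun g : Γ(E, ⊤) => E.presheaf.germ ⊤ x trivial g) :=
        h ▸ Submodule.mem_top
      suffices ∀ v ∈ Submodule.span (X.presheaf.stalk x) (Set.range fun g : Γ(E, ⊤) => E.presheaf.germ ⊤ x trivial g),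
          ∃ t, P (Canon.HHlin k q 0 t) = qs v by
        obtain ⟨t, ht⟩ := this v hmem
        exact ⟨t, hP.1 (ht.trans hv)⟩
      intro v hv
      induction hv using Submodule.span_induction with
      | mem y hy =>
        obtain ⟨g, rfl⟩ := hy
        exact ⟨(sec E).symm g, by rw [hcomp, AddEquiv.apply_symm_apply]⟩
      | zero => exact ⟨0, by rw [map_zero, map_zero, map_zero]; rfl⟩
      | add y z _ _ hy hz =>
        obtain ⟨a, ha⟩ := hy
        obtain ⟨b, hb⟩ := hz
        exact ⟨a + b, by rw [map_add, map_add, map_add, ha, hb]; rfl⟩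
      | smul r y _ hy =>
        obtain ⟨a, ha⟩ := hy
        obtain ⟨c, hc⟩ := hres r
        refine ⟨c • a, ?_⟩
        rw [map_smul (Canon.HHlin k q 0), map_smul P, ha]
        exact (hqW r c hc y).symm
  rw [← key]
  change Module.finrank k (Coh.HH X (CohB1.tensorMod (ClSub.idealMod I) E) 0) + n = _ ↔ _
  omega

end Groth.Agent.H29RR
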