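import Groth.Agent.H29RR.FiniteSupport
import Groth.Agent.H29Blow.OfStalk
import Groth.Agent.H29Blow.Stalk
import Groth.Agent.H4Depth.Regular
import Groth.Prelude.Def_CurvBase
import Groth.Agent.H25Par.GPDeg
import Groth.Agent.H10Coh.SerreVanishing
import Groth.Agent.H11Sym.InvertibleInverse

/-!
# Closed regular points as effective Cartier divisors
-/

set_option autoImplicit false
set_option linter.style.haveILetI false
universe u

open CategoryTheory CategoryTheory.Limits AlgebraicGeometry TopologicalSpace Opposite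

namespace Groth.Agent.H29RR

attribute [local instance 10000] H10Coh.hasSheafifyAb H10Coh.hasWeakSheafifyAb H10Coh.hasExtAb H10Coh.enoughInjAb

variable {X : Scheme.{u}}

/-- The ideal of a point. -/
noncomputable abbrev ptIdeal (x : X) : X.IdealSheafData := (X.fromSpecResidueField x).ker

theorem isClosedImmersion_pt {x : X} (hx : IsClosed ({x} : Set X)) :
    IsClosedImmersion (X.fromSpecResidueField x) :=
  isClosed_singleton_iff_isClosedImmersion.1 hx

theorem range_subscheme_pt {x : X} (hx : IsClosed ({x} : Set X)) :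
    Set.range (ptIdeal x).subschemeι = {x} := by
  haveI := isClosedImmersion_pt hx
  rw [Scheme.IdealSheafData.range_subschemeι, Scheme.Hom.support_ker, Scheme.range_fromSpecResidueField,
    hx.closure_eq]

theorem isField_subscheme_stalk {x : X} (hx : IsClosed ({x} : Set X)) (d : (ptIdeal x).subscheme) :
    IsField ((ptIdeal x).subscheme.presheaf.stalk d) := by
  haveI := isClosedImmersion_pt hx
  let e := asIso (X.fromSpecResidueField x).toImage
  obtain ⟨p, rfl⟩ := e.hom.homeomorph.surjective d
  refine MulEquiv.isField ?_ (asIso (e.hom.stalkMap p)).commRingCatIsoToRingEquiv.toMulEquiv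
  obtain rfl : p = genericPoint (Spec (X.residueField x)) :=
    Subsingleton.elim (α := PrimeSpectrum (X.residueField x)) _ _
  exact Field.toIsField (Spec (X.residueField x)).functionField

/-- A closed point with principal maximal ideal and one-dimensional local ring is an effective Cartier divisor. -/
theorem isInvertible_ptIdeal [IsLocallyNoetherian X] {x : X} (hx : IsClosed ({x} : Set X))
    (hreg : (IsLocalRing.maximalIdeal (X.presheaf.stalk x)).IsPrincipal)
    (hdim : ringKrullDim (X.presheaf.stalk x) = 1) : PicF.IsInvertible (ClSub.idealMod (ptIdeal x)) := by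
  refine H29Blow.isInvertible_of_isEffCartierIdeal _ (H29Blow.isEffCartierIdeal_of_stalk _ fun y V hy => ?_)
  by_cases hs : y ∈ (ptIdeal x).support
  swap
  · exact ⟨1, one_mem _, by rw [H29Blow.map_germ_eq_top_of_notMem_support _ y V hy hs, Ideal.span_singleton_one]⟩
  obtain ⟨d, rfl⟩ : y ∈ Set.range (ptIdeal x).subschemeι := by
    rw [Scheme.IdealSheafData.range_subschemeι]; exact hs
  have hd : (ptIdeal x).subschemeι d = x := (range_subscheme_pt hx).subset ⟨d, rfl⟩
  rw [← H29Blow.ker_stalkMap_subschemeι (ptIdeal x) d V hy]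
  letI := (isField_subscheme_stalk hx d).toField
  have hmax := RingHom.ker_isMaximal_of_surjective ((ptIdeal x).subschemeι.stalkMap d).hom
    ((ptIdeal x).subschemeι.stalkMap_surjective d)
  rw [IsLocalRing.eq_maximalIdeal hmax]
  have key : ∀ z : X, z = x → (IsLocalRing.maximalIdeal (X.presheaf.stalk z)).IsPrincipal ∧
      ringKrullDim (X.presheaf.stalk z) = 1 := by
    rintro z rfl; exact ⟨hreg, hdim⟩
  obtain ⟨h1, h2⟩ := key _ hd
  haveI : IsNoetherianRing (X.presheaf.stalk ((ptIdeal x).subschemeι d)) := inferInstance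
  obtain ⟨g, hg⟩ := h1
  haveI : IsRegularLocalRing (X.presheaf.stalk ((ptIdeal x).subschemeι d)) := by
    refine IsRegularLocalRing.of_spanFinrank_maximalIdeal_le (R := X.presheaf.stalk ((ptIdeal x).subschemeι d)) ?_
    rw [h2]
    have h3 := H4Depth.spanFinrank_maximalIdeal_le_of_span (fun _ : Unit => g) {()}
      (by simpa using hg)
    exact_mod_cast h3
  haveI := H4Depth.isDomain_of_isRegularLocalRing (X.presheaf.stalk ((ptIdeal x).subschemeι d))
  refine ⟨g, mem_nonZeroDivisors_of_ne_zero fun h0 => ?_, hg⟩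
  have hbot : IsLocalRing.maximalIdeal (X.presheaf.stalk ((ptIdeal x).subschemeι d)) = ⊥ := by
    rw [hg, h0]; simp
  have hf := IsLocalRing.isField_iff_maximalIdeal_eq.2 hbot
  rw [ringKrullDim_eq_zero_of_isField hf] at h2
  exact zero_ne_one h2

variable {k : Type u} [Field k] [X.Over (Spec (CommRingCat.of k))]

attribute [local instance] Curv2.resAlgebra

/-- The sections of the quotient at a closed point form the residue field. -/
theorem nonempty_quotMod_pt_equiv {x : X} (hx : IsClosed ({x} : Set X)) :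
    Nonempty (Coh.HH X (ClSub.quotMod (ptIdeal x)) 0 ≃ₗ[k] X.residueField x) := by
  haveI := isClosedImmersion_pt hx
  let j := X.fromSpecResidueField x
  haveI : IsIso j.toImage.appTop := inferInstanceAs (IsIso (j.toImage.app ⊤))
  let ψ : Γ((ptIdeal x).subscheme, ⊤) ≃+* X.residueField x :=
    (asIso j.toImage.appTop ≪≫ Scheme.ΓSpecIso (X.residueField x)).commRingCatIsoToRingEquiv
  refine ⟨{ ((sec (ClSub.quotMod (ptIdeal x))).trans
        (show Γ(ClSub.quotMod (ptIdeal x), ⊤) ≃+ X.residueField x from ψ.toAddEquiv)) with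
      map_smul' := fun c v => ?_ }⟩
  show ψ (sec (ClSub.quotMod (ptIdeal x)) (c • v)) = c • ψ (sec (ClSub.quotMod (ptIdeal x)) v)
  rw [sec_smul]
  let z : Γ((ptIdeal x).subscheme, ⊤) := sec (ClSub.quotMod (ptIdeal x)) v
  show ψ ((ptIdeal x).subschemeι.appTop (H10Coh.globA (A := k) (X := X) c) * z) = c • ψ z
  rw [map_mul, Algebra.smul_def]
  refine congrArg (· * ψ z) ?_
  show (j.toImage.appTop ≫ (Scheme.ΓSpecIso (X.residueField x)).hom)
    ((ptIdeal x).subschemeι.appTop (H10Coh.globA (A := k) (X := X) c)) = Curv2.resMap k X x c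
  refine Eq.trans ?_ (show ((X.presheaf.germ ⊤ x trivial ≫ X.residue x) (H10Coh.globA (A := k) (X := X) c)) =
    Curv2.resMap k X x c from rfl)
  rw [← CommRingCat.comp_apply, ← Category.assoc, ← Scheme.Hom.comp_appTop]
  refine congrArg (fun f : Γ(X, ⊤) ⟶ X.residueField x => f (H10Coh.globA (A := k) (X := X) c)) ?_
  have hj : j.toImage ≫ (ptIdeal x).subschemeι = Spec.map (X.residue x) ≫ X.fromSpecStalk x := j.toImage_imageι
  rw [hj, Scheme.Hom.comp_appTop, Scheme.fromSpecStalk_appTop]
  simp [Scheme.ΓSpecIso_naturality]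

/-- The degree of a closed point. -/
theorem finrank_h0_quotMod_pt {x : X} (hx : IsClosed ({x} : Set X)) :
    Module.finrank k (Coh.HH X (ClSub.quotMod (ptIdeal x)) 0) = Module.finrank k (X.residueField x) :=
  let ⟨e⟩ := nonempty_quotMod_pt_equiv (k := k) hx
  e.finrank_eq

end Groth.Agent.H29RR

namespace Groth.Agent.H29RR

attribute [local instance 10000] H10Coh.hasSheafifyAb H10Coh.hasWeakSheafifyAb H10Coh.hasExtAb H10Coh.enoughInjAb
attribute [local instance] Curv2.resAlgebra

variable {k : Type u} [Field k] {X : Scheme.{u}} [X.Over (Spec (CommRingCat.of k))]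
  [IsProper (X ↘ Spec (CommRingCat.of k))]

/-- The zeroth cohomology along a short exact sequence with small last term, twisted. -/
theorem twist_seq {S : ShortComplex X.Modules} (hS : S.ShortExact) {M : X.Modules} (hM : PicF.IsInvertible M)
    (h₁ : Coh.IsCoh S.X₁) (h₂ : Coh.IsCoh S.X₂) (h₃ : Coh.IsCoh S.X₃) (hfin : (CohB1.support S.X₃).Finite)
    (hcl : ∀ z ∈ CohB1.support S.X₃, IsClosed ({z} : Set X)) :
    Module.finrank k (Coh.HH X (CohB1.tensorMod S.X₁ M) 0) ≤
        Module.finrank k (Coh.HH X (CohB1.tensorMod S.X₂ M) 0) ∧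
      Module.finrank k (Coh.HH X (CohB1.tensorMod S.X₂ M) 0) ≤
        Module.finrank k (Coh.HH X (CohB1.tensorMod S.X₁ M) 0) + Module.finrank k (Coh.HH X S.X₃ 0) ∧
      Curv2.euler k X (CohB1.tensorMod S.X₂ M) = Curv2.euler k X (CohB1.tensorMod S.X₁ M) +
          (Module.finrank k (Coh.HH X S.X₃ 0) : ℤ) := by
  haveI := isNoetherian_of_proper (k := k) (X := X)
  have hflat : FlatMod.IsFlat M :=
    H16Derived.KFlat.Stalk.isFlat_of_isFinLocFree (H28Pinch.isFinLocFree_of_isInvertible hM)
  let T := (DCoh.tensorBi (X := X)).flip.obj M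
  have hS' := H16Derived.KFlat.Stalk.isFlatObj_of_isFlat hflat _ hS
  haveI : Mono (T.map S.f) := hS'.mono_f
  have he := H25Euler.euler_add (k := k) (X := X) (S := S.map T) hS'
    (show Coh.IsCoh (T.obj _) from H11Ample.isCoh_tensor h₁ hM)
    (show Coh.IsCoh (T.obj _) from H11Ample.isCoh_tensor h₂ hM)
    (show Coh.IsCoh (T.obj _) from H11Ample.isCoh_tensor h₃ hM)
  change Curv2.euler k X (T.obj S.X₂) = Curv2.euler k X (T.obj S.X₁) + Curv2.euler k X (T.obj S.X₃) at he
  haveI : Module.Finite k (Coh.HH X (T.obj S.X₂) 0) :=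
    H10Coh.finite_HH_proper k X _ (H11Ample.isCoh_tensor h₂ hM) 0
  haveI : Module.Finite k (Coh.HH X (T.obj S.X₃) 0) :=
    H10Coh.finite_HH_proper k X _ (H11Ample.isCoh_tensor h₃ hM) 0
  have hex := H25Par.hhlin_exact (k := k) hS'
  have hinj := hhlin_zero_injective (k := k) (T.map S.f)
  have h0 := LinearMap.finrank_range_add_finrank_ker (Canon.HHlin k (T.map S.g) 0)
  rw [show LinearMap.ker (Canon.HHlin k (T.map S.g) 0) = LinearMap.range (Canon.HHlin k (T.map S.f) 0)
    from hex, LinearMap.finrank_range_of_inj hinj] at h0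
  have h4 : Module.finrank k (LinearMap.range (Canon.HHlin k (T.map S.g) 0)) ≤
      Module.finrank k (Coh.HH X (T.obj S.X₃) 0) := Submodule.finrank_le _
  have hq := finrank_h0_tensor_of_finite_support (k := k) hM hfin hcl
  change Module.finrank k (Coh.HH X (T.obj S.X₃) 0) = _ at hq
  rw [H25Euler.euler_eq_sum (T.obj S.X₃) 1 fun p hp => H25Par.subsingleton_HH_of_finite_support _
    (hfin.subset (H25Euler.support_tensor_subset S.X₃ M))
    (fun z hz => hcl z (H25Euler.support_tensor_subset S.X₃ M hz)) (fun y hy => not_not.1 hy) hp,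
    Finset.sum_range_one, pow_zero, one_mul] at he
  show Module.finrank k (Coh.HH X (T.obj S.X₁) 0) ≤ Module.finrank k (Coh.HH X (T.obj S.X₂) 0) ∧
    Module.finrank k (Coh.HH X (T.obj S.X₂) 0) ≤ Module.finrank k (Coh.HH X (T.obj S.X₁) 0) + _ ∧
    Curv2.euler k X (T.obj S.X₂) = Curv2.euler k X (T.obj S.X₁) + _
  omega

/-- Twisting down by a closed point. -/
theorem twist_point {x : X} (hx : IsClosed ({x} : Set X)) {M : X.Modules} (hM : PicF.IsInvertible M)
    (hI : Coh.IsCoh (ClSub.idealMod (ptIdeal x))) :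
    Module.finrank k (Coh.HH X (CohB1.tensorMod (ClSub.idealMod (ptIdeal x)) M) 0) ≤
        Module.finrank k (Coh.HH X M 0) ∧
      Module.finrank k (Coh.HH X M 0) ≤
        Module.finrank k (Coh.HH X (CohB1.tensorMod (ClSub.idealMod (ptIdeal x)) M) 0) +
          Module.finrank k (X.residueField x) ∧
      Curv2.euler k X M = Curv2.euler k X (CohB1.tensorMod (ClSub.idealMod (ptIdeal x)) M) +
          (Module.finrank k (X.residueField x) : ℤ) := by
  haveI := isNoetherian_of_proper (k := k) (X := X)
  let I := ptIdeal x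
  have hsupp : CohB1.support (ClSub.quotMod I) ⊆ {x} := fun y hy => by
    have := LeadProper.support_subset_range (F := ClSub.quotMod I)
      (@H10Coh.isQuasicoherent_pushforward _ _ I.subschemeι inferInstance inferInstance _ H10Coh.isQuasicoherent_unit)
      I.subschemeι (Iso.refl _) hy
    rwa [range_subscheme_pt hx] at this
  haveI := H10Coh.epi_toSubscheme I
  have hS : (ShortComplex.mk (ClSub.idealModι I) (ClSub.toSubscheme I) (kernel.condition _)).ShortExact :=
    { exact := ShortComplex.exact_kernel _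
      mono_f := inferInstanceAs (Mono (kernel.ι _)) }
  have h := twist_seq (k := k) hS hM hI (H10Coh.isCoh_structureModule' X)
    (H24FSch.isCoh_pushforward_of_isClosedImmersion I.subschemeι (H10Coh.isCoh_structureModule' _))
    ((Set.finite_singleton x).subset hsupp) (fun z hz => by obtain rfl := hsupp hz; exact hx)
  rw [(hhIso (k := k) (H10Coh.Tw.leftUnitIso M) 0).finrank_eq, euler_structureModule_tensor,
    show Module.finrank k (Coh.HH X (ClSub.quotMod I) 0) = _ from finrank_h0_quotMod_pt (k := k) hx] at h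
  exact h

/-- Adding a closed point to an invertible module. -/
theorem exists_add_point {x : X} (hx : IsClosed ({x} : Set X))
    (hI : PicF.IsInvertible (ClSub.idealMod (ptIdeal x))) {L : X.Modules} (hL : PicF.IsInvertible L) :
    ∃ L' : X.Modules, PicF.IsInvertible L' ∧
      Nonempty (L ≅ CohB1.tensorMod (ClSub.idealMod (ptIdeal x)) L') ∧
      Curv2.deg k X L' 1 = Curv2.deg k X L 1 + (Module.finrank k (X.residueField x) : ℤ) ∧
      Module.finrank k (Coh.HH X L 0) ≤ Module.finrank k (Coh.HH X L' 0) ∧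
      Module.finrank k (Coh.HH X L' 0) ≤ Module.finrank k (Coh.HH X L 0) + Module.finrank k (X.residueField x) := by
  haveI := isNoetherian_of_proper (k := k) (X := X)
  obtain ⟨N, hN, ⟨e⟩⟩ := H11Sym.exists_inverse hI
  let a := H10Coh.Tw.assoc (ClSub.idealMod (ptIdeal x)) N L
  let L' := CohB1.tensorMod N L
  have hL' : PicF.IsInvertible L' := H11Ample.isInvertible_tensor hN hL
  have e' : L ≅ CohB1.tensorMod (ClSub.idealMod (ptIdeal x)) L' :=
    (H10Coh.Tw.leftUnitIso L).symm ≪≫
      PicGrp.tensorModIso (e.symm ≪≫ H10Coh.Tw.commIso _ _) (Iso.refl L) ≪≫ a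
  obtain ⟨h1, h2, h3⟩ := twist_point (k := k) hx hL'
    (H16Derived.KFlat.Stalk.isCoh_of_isFinLocFree (H28Pinch.isFinLocFree_of_isInvertible hI))
  have h4 := (hhIso (k := k) e' 0).finrank_eq
  have h5 := H25Euler.euler_congr (k := k) e'
  refine ⟨L', hL', ⟨e'⟩, ?_, by omega, by omega⟩
  simp only [Curv2.deg, Nat.cast_one, one_mul]
  omega

end Groth.Agent.H29RR
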