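import Groth.Agent.H29RR.Generation
import Groth.Agent.H29RR.SubBundle
import Groth.Agent.H22Alg.PB.Local

/-!
# Ideal sheaves of finite colength on a smooth curve
-/

set_option autoImplicit false
set_option linter.style.haveILetI false
universe u

open CategoryTheory CategoryTheory.Limits AlgebraicGeometry TopologicalSpace Opposite

namespace Groth.Agent.H29RR

attribute [local instance 10000] H10Coh.hasSheafifyAb H10Coh.hasWeakSheafifyAb H10Coh.hasExtAb H10Coh.enoughInjAb
attribute [local instance] Curv2.resAlgebra

variable {k : Type u} [Field k] {X : Scheme.{u}} [X.Over (Spec (CommRingCat.of k))]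
  [IsProper (X ↘ Spec (CommRingCat.of k))] [IsIntegral X] [Smooth (X ↘ Spec (CommRingCat.of k))]

/-- A nonzero ideal of a smooth curve is invertible, of degree minus its colength, and the twisted sequence holds. -/
theorem ideal_colength (hdim : topologicalKrullDim X ≤ 1) (I : X.IdealSheafData)
    (hne : ¬ IsZero (ClSub.idealMod I)) :
    PicF.IsInvertible (ClSub.idealMod I) ∧
      Curv2.deg k X (ClSub.idealMod I) 1 = -(Module.finrank k (Coh.HH X (ClSub.quotMod I) 0) : ℤ) := by
  haveI := isNoetherian_of_proper (k := k) (X := X)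
  have hQc : Coh.IsCoh (ClSub.quotMod I) :=
    H24FSch.isCoh_pushforward_of_isClosedImmersion I.subschemeι (H10Coh.isCoh_structureModule' _)
  have hIc : Coh.IsCoh (ClSub.idealMod I) := H10Coh.isCoh_kernel _ (H10Coh.isCoh_structureModule' _) hQc.1
  let ι := ClSub.idealModι I
  haveI : Mono ι := inferInstanceAs (Mono (kernel.ι _))
  have hO := rank_one_of_isInvertible (H11Ample.isInvertible_structureModule (X := X))
  obtain ⟨c, hc⟩ := H25Par.exists_rank k hdim hIc
    (H25Euler.isTorsionFree_of_mono ι (H25Par.isTorsionFree_of_locFree (locFree_of_rank hO)))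
  have hc1 : c ≤ 1 := by
    letI : Field (X.presheaf.stalk (genericPoint X)) := inferInstanceAs (Field X.functionField)
    obtain ⟨-, -, hr⟩ := H25Par.finrank_stalk hc (genericPoint X)
    obtain ⟨-, hfin, hr'⟩ := H25Par.finrank_stalk hO (genericPoint X)
    rw [← hr, ← hr']
    haveI : Module.Finite (X.presheaf.stalk (genericPoint X))
      ((DerSch.stalkFunctor X (genericPoint X)).obj (Coh.structureModule X)) := hfin
    haveI : Mono ((DerSch.stalkFunctor X (genericPoint X)).map ι) := inferInstance
    exact LinearMap.finrank_le_finrank_of_injective (f := ((DerSch.stalkFunctor X (genericPoint X)).map ι).hom)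
      ((ModuleCat.mono_iff_injective _).1 inferInstance)
  obtain rfl : c = 1 := by
    rcases Nat.eq_zero_or_pos c with rfl | h
    · exact absurd (isZero_of_rank_zero hc) hne
    · omega
  refine ⟨H22Alg.PB.isInvertible_of_rank_one hc, ?_⟩
  haveI := H10Coh.epi_toSubscheme I
  have hS : (ShortComplex.mk ι (ClSub.toSubscheme I) (kernel.condition _)).ShortExact :=
    { exact := ShortComplex.exact_kernel _ }
  have e : cokernel ι ≅ ClSub.quotMod I :=
    (cokernelIsCokernel ι).coconePointUniqueUpToIso hS.gIsCokernel
  have hC := H10Coh.isCoh_cokernel ι hIc.1 (H10Coh.isCoh_structureModule' X)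
  have hf := H25Par.finite_of_isClosed_of_notMem hdim (H10Coh.isClosed_support _ hC.2)
    (H25Par.notMem_support_coker hc hO ι)
  have he := H25Euler.euler_add (k := k) (S := ShortComplex.mk ι (cokernel.π ι) (cokernel.condition _))
    { exact := ShortComplex.exact_cokernel _ } hIc (H10Coh.isCoh_structureModule' X) hC
  dsimp only at he
  rw [H25Euler.euler_eq_sum (cokernel ι) 1 fun p hp => H25Par.subsingleton_HH_of_finite_support _
    hf.1 (fun z hz => hf.2 z hz) (fun y hy => not_not.1 hy) hp,
    Finset.sum_range_one, pow_zero, one_mul, (hhIso (k := k) e 0).finrank_eq] at he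
  rw [deg_def]
  omega

end Groth.Agent.H29RR
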