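import Groth.Agent.H29RR.Sections

/-!
# The elementary form of Riemann–Roch and its first consequences
-/

set_option autoImplicit false
set_option linter.style.haveILetI false
universe u

open CategoryTheory CategoryTheory.Limits AlgebraicGeometry Opposite TopologicalSpace

namespace Groth.Agent.H29RR

variable {k : Type u} [Field k] {X : Scheme.{u}} [X.Over (Spec (CommRingCat.of k))]
  [IsProper (X ↘ Spec (CommRingCat.of k))] [IsIntegral X]

omit [IsIntegral X] in
/-- Riemann–Roch in the form that is immediate from the definitions. -/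
theorem riemann_roch (hdim : topologicalKrullDim X ≤ 1) (L : X.Modules) :
    (Module.finrank k (Coh.HH X L 0) : ℤ) - Module.finrank k (Coh.HH X L 1) =
      Curv2.deg k X L 1 + Module.finrank k (Coh.HH X (Coh.structureModule X) 0) - Curv2.genus k X := by
  have h1 := euler_eq_sub (k := k) hdim L
  have h2 := euler_eq_sub (k := k) hdim (Coh.structureModule X)
  rw [deg_def, Curv2.genus]
  omega

/-- In genus zero, invertible modules of nonnegative degree have no higher cohomology. -/
theorem genus_zero_h0 (hdim : topologicalKrullDim X ≤ 1)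
    (h0 : Module.finrank k (Coh.HH X (Coh.structureModule X) 0) = 1) (hg : Curv2.genus k X = 0)
    {L : X.Modules} (hL : PicF.IsInvertible L) (hd : 0 ≤ Curv2.deg k X L 1) :
    Nontrivial (Coh.HH X L 0) ∧ (Module.finrank k (Coh.HH X L 0) : ℤ) = Curv2.deg k X L 1 + 1 ∧
      Subsingleton (Coh.HH X L 1) := by
  have hrr := riemann_roch (k := k) hdim L
  rw [h0, hg] at hrr
  haveI := finite_HH (k := k) L hL 0
  haveI := finite_HH (k := k) L hL 1
  have hpos : 0 < Module.finrank k (Coh.HH X L 0) := by omega
  haveI : Nontrivial (Coh.HH X L 0) := Module.nontrivial_of_finrank_pos hpos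
  obtain ⟨-, -, h1, -⟩ := bounds_of_section (k := k) hdim hL inferInstance
  rw [Curv2.genus] at hg
  refine ⟨inferInstance, by omega, (Module.finrank_zero_iff (R := k)).1 (by omega)⟩

omit [IsProper (X ↘ Spec (CommRingCat.of k))] in
theorem dim_le_one {X : Scheme.{u}} (h : topologicalKrullDim X = 1) : topologicalKrullDim X ≤ 1 := h.le

end Groth.Agent.H29RR
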