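import Groth.Agent.H29RR.EvalPoint
import Groth.Agent.H29Ref.Free
import Groth.Agent.H8Props.FieldDimRing
import Groth.Agent.H22Alg.KModel
import Groth.Agent.H10Coh.Support
import Mathlib.RingTheory.LocalRing.Module
import Mathlib.Algebra.MvPolynomial.Funext
import Mathlib.RingTheory.KrullDimension.Polynomial

/-!
# General sections of globally generated bundles of large rank

If a bundle of rank `r` on an `n`-dimensional variety over an algebraically closed field is spanned by
finitely many sections and `m + n ≤ r`, then `m` general combinations of these sections span a trivial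
subbundle with locally free quotient.
-/

set_option autoImplicit false
set_option linter.style.haveILetI false
universe u

open CategoryTheory CategoryTheory.Limits AlgebraicGeometry TopologicalSpace Opposite

namespace Groth.Agent.H29RR

variable {X : Scheme.{u}}

/-- Finitely many global sections generating every stalk. -/
def SpansStalks (E : X.Modules) {N : ℕ} (g : Fin N → Γ(E, ⊤)) : Prop :=
  ∀ x : X, Submodule.span (X.presheaf.stalk x) (Set.range fun j => E.presheaf.germ ⊤ x trivial (g j)) = ⊤

theorem spansStalks_of_epi {E : X.Modules} {N : ℕ} (ψ : FlatMod.freeMod X N ⟶ E) [Epi ψ] :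
    SpansStalks E fun j => (Sigma.ι (fun _ : Fin N => Coh.structureModule X) j ≫ ψ).app ⊤ (1 : Γ(X, ⊤)) := by
  intro x
  rw [eq_top_iff]
  rintro v -
  let T := DerSch.stalkFunctor X x
  have hs : Function.Surjective (T.map ψ).hom := (ModuleCat.epi_iff_surjective _).1 inferInstance
  obtain ⟨w, rfl⟩ := hs v
  let p : Fin N → (FlatMod.freeMod X N ⟶ Coh.structureModule X) :=
    fun i => Sigma.desc fun j => if j = i then 𝟙 _ else 0
  have hid : ψ = ∑ i, p i ≫ (Sigma.ι (fun _ : Fin N => Coh.structureModule X) i ≫ ψ) := by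
    refine Sigma.hom_ext _ _ fun j => ?_
    rw [Preadditive.comp_sum, Finset.sum_eq_single j]
    · simp [p]
    · intro b _ hb
      simp [p, if_neg (Ne.symm hb)]
    · simp
  have hsum : T.map ψ = ∑ i, T.map (p i ≫ (Sigma.ι (fun _ : Fin N => Coh.structureModule X) i ≫ ψ)) :=
    (congrArg T.map hid).trans (Functor.map_sum T _ _)
  rw [hsum, ModuleCat.hom_sum, LinearMap.sum_apply]
  refine Submodule.sum_mem _ fun i _ => ?_
  rw [Functor.map_comp, ModuleCat.hom_comp, LinearMap.comp_apply]
  obtain ⟨a, ha⟩ := (H11Ample.isGen_one (X := X) ⊤ x trivial).2 ((T.map (p i)).hom w)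
  rw [← ha]
  show H06Mod.stalkLin (Sigma.ι (fun _ : Fin N => Coh.structureModule X) i ≫ ψ) x
    (a • (Coh.structureModule X).presheaf.germ ⊤ x trivial (H11Ample.one ⊤)) ∈ _
  rw [map_smul]
  refine Submodule.smul_mem _ a (Submodule.subset_span ⟨i, ?_⟩)
  exact (germ_app (Sigma.ι (fun _ : Fin N => Coh.structureModule X) i ≫ ψ) x (H11Ample.one ⊤)).symm

theorem spansStalks_map {E E' : X.Modules} (q : E ⟶ E') [Epi q] {N : ℕ} {g : Fin N → Γ(E, ⊤)}
    (hg : SpansStalks E g) : SpansStalks E' fun j => q.app ⊤ (g j) := by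
  intro x
  have hs : Function.Surjective (H06Mod.stalkLin q x) :=
    (ModuleCat.epi_iff_surjective _).1 (inferInstance : Epi ((DerSch.stalkFunctor X x).map q))
  rw [eq_top_iff, ← LinearMap.range_eq_top.2 hs, LinearMap.range_eq_map, ← hg x, Submodule.map_span]
  refine Submodule.span_mono ?_
  rintro _ ⟨_, ⟨j, rfl⟩, rfl⟩
  exact ⟨j, (germ_app q x (g j)).symm⟩

/-- Some `r` of the sections are a frame near each point, with regular coefficients for the others. -/
theorem exists_chart [IsLocallyNoetherian X] {E : X.Modules} {r N : ℕ} (hE : FlatMod.IsFinLocFreeOfRank r E)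
    {g : Fin N → Γ(E, ⊤)} (hg : SpansStalks E g) (x : X) :
    ∃ (U : X.Opens) (p : Fin r → Fin N) (A : Fin N → Fin r → Γ(X, U)),
      x ∈ U ∧ IsAffineOpen U ∧ Function.Injective p ∧ (∀ i i', A (p i) i' = if i' = i then 1 else 0) ∧
      ∀ j, E.presheaf.map (homOfLE (le_top : U ≤ ⊤)).op (g j) =
        ∑ i, A j i • E.presheaf.map (homOfLE (le_top : U ≤ ⊤)).op (g (p i)) := by
  obtain ⟨hf, hfin, hr⟩ := H25Par.finrank_stalk hE x
  haveI := hf
  haveI := hfin
  haveI : Module.FinitePresentation (X.presheaf.stalk x) (E.presheaf.stalk x) :=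
    Module.finitePresentation_of_finite _ _
  have hspan : Submodule.span (X.presheaf.stalk x)
      (Set.range fun j : ULift.{u} (Fin N) => E.presheaf.germ ⊤ x trivial (g j.down)) = ⊤ := by
    rw [← hg x]
    congr 1
    exact Set.ext fun v => ⟨fun ⟨j, hj⟩ => ⟨j.down, hj⟩, fun ⟨j, hj⟩ => ⟨⟨j⟩, hj⟩⟩
  obtain ⟨κ, a, b, hb⟩ := Module.exists_basis_of_span_of_flat _ hspan
  haveI : Finite κ := Module.Finite.finite_basis b
  haveI := Fintype.ofFinite κ
  have hcard : Fintype.card κ = r := (Module.finrank_eq_card_basis b).symm.trans hr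
  let e : Fin r ≃ κ := (Fintype.equivFinOfCardEq hcard).symm
  let p : Fin r → Fin N := fun i => (a (e i)).down
  have hp : Function.Injective p := fun i i' h => e.injective <| b.injective <| by
    rw [hb, hb]; exact congrArg (fun j => E.presheaf.germ ⊤ x trivial (g j)) h
  have hrep : ∀ j, ∃ W : X.Opens, x ∈ W ∧ ∃ A : Fin r → Γ(X, W),
      E.presheaf.map (homOfLE (le_top : W ≤ ⊤)).op (g j) =
        ∑ i, A i • E.presheaf.map (homOfLE (le_top : W ≤ ⊤)).op (g (p i)) := by
    intro j
    choose W hW s hs using fun i : Fin r => X.presheaf.exists_germ_eq (b.repr (E.presheaf.germ ⊤ x trivial (g j)) (e i))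
    let W₀ : X.Opens := ⟨⋂ i, (W i : Set X), isOpen_iInter_of_finite fun i => (W i).2⟩
    have hx₀ : x ∈ W₀ := Set.mem_iInter.2 hW
    have hle : ∀ i, W₀ ≤ W i := fun i => Set.iInter_subset (fun i => (W i : Set X)) i
    let A₀ : Fin r → Γ(X, W₀) := fun i => X.presheaf.map (homOfLE (hle i)).op (s i)
    have heq : E.presheaf.germ W₀ x hx₀ (E.presheaf.map (homOfLE (le_top : W₀ ≤ ⊤)).op (g j)) =
        E.presheaf.germ W₀ x hx₀ (∑ i, A₀ i • E.presheaf.map (homOfLE (le_top : W₀ ≤ ⊤)).op (g (p i))) := by
      rw [map_sum, TopCat.Presheaf.germ_res_apply]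
      conv_lhs => rw [← b.sum_repr (E.presheaf.germ ⊤ x trivial (g j)), ← e.sum_comp]
      refine Finset.sum_congr rfl fun i _ => ?_
      rw [H06Mod.germ_smul, hb]
      congr 1
      · rw [← hs i]
        exact (TopCat.Presheaf.germ_res_apply X.presheaf (homOfLE (hle i)) x hx₀ (s i)).symm
      · exact (TopCat.Presheaf.germ_res_apply E.presheaf (homOfLE (le_top : W₀ ≤ ⊤)) x hx₀ _).symm
    obtain ⟨W₁, hx₁, i₁, i₂, h⟩ := TopCat.Presheaf.germ_eq E.presheaf x hx₀ hx₀ _ _ heq
    refine ⟨W₁, hx₁, fun i => X.presheaf.map i₁.op (A₀ i), ?_⟩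
    have hres : ∀ j', E.presheaf.map i₁.op (E.presheaf.map (homOfLE (le_top : W₀ ≤ ⊤)).op (g j')) =
        E.presheaf.map (homOfLE (le_top : W₁ ≤ ⊤)).op (g j') := fun j' => by
      rw [← ConcreteCategory.comp_apply, ← Functor.map_comp]
      rfl
    rw [Subsingleton.elim i₂ i₁, map_sum, hres] at h
    refine h.trans (Finset.sum_congr rfl fun i _ => ?_)
    rw [Scheme.Modules.map_smul, hres]
  choose W hW A hA using hrep
  let W' : X.Opens := ⟨⋂ j, (W j : Set X), isOpen_iInter_of_finite fun j => (W j).2⟩
  obtain ⟨_, ⟨U, hU, rfl⟩, hxU, hUW⟩ :=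
    X.isBasis_affineOpens.exists_subset_of_mem_open (show x ∈ (W' : Set X) from Set.mem_iInter.2 hW) W'.2
  have hUj : ∀ j, U ≤ W j := fun j => (show (U : Set X) ⊆ _ from hUW).trans (Set.iInter_subset (fun j => (W j : Set X)) j)
  classical
  refine ⟨U, p, fun j i => if h : ∃ i₀, p i₀ = j then (if i = h.choose then 1 else 0)
    else X.presheaf.map (homOfLE (hUj j)).op (A j i), hxU, hU, hp, fun i i' => ?_, fun j => ?_⟩
  · have h : ∃ i₀, p i₀ = p i := ⟨i, rfl⟩
    simp only [dif_pos h]
    rw [hp h.choose_spec]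
  · by_cases h : ∃ i₀, p i₀ = j
    · simp only [dif_pos h]
      rw [Finset.sum_eq_single h.choose]
      · rw [if_pos rfl, one_smul, h.choose_spec]
      · intro i _ hi
        rw [if_neg hi, zero_smul]
      · simp
    · simp only [dif_neg h]
      have h1 := congrArg (E.presheaf.map (homOfLE (hUj j)).op) (hA j)
      have hres : ∀ j', E.presheaf.map (homOfLE (hUj j)).op (E.presheaf.map (homOfLE (le_top : W j ≤ ⊤)).op (g j')) =
          E.presheaf.map (homOfLE (le_top : U ≤ ⊤)).op (g j') := fun j' => by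
        rw [← ConcreteCategory.comp_apply, ← Functor.map_comp]
        rfl
      rw [map_sum, hres] at h1
      refine h1.trans (Finset.sum_congr rfl fun i _ => ?_)
      rw [Scheme.Modules.map_smul, hres]

variable {k : Type u} [Field k] (f : X ⟶ Spec (CommRingCat.of k))

/-- A combination of global sections with constant coefficients. -/
noncomputable def comb {E : X.Modules} {N : ℕ} (g : Fin N → Γ(E, ⊤)) (c : Fin N → k) : Γ(E, ⊤) :=
  ∑ j, (show Γ(X, ⊤) from Coh.toGlobal f (c j)) • g j

theorem app_comb {E E' : X.Modules} (q : E ⟶ E') {N : ℕ} (g : Fin N → Γ(E, ⊤)) (c : Fin N → k) :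
    q.app ⊤ (comb f g c) = comb f (fun j => q.app ⊤ (g j)) c := by
  simp only [comb, map_sum]
  exact Finset.sum_congr rfl fun j _ => Scheme.Modules.Hom.app_smul q _ _

/-- The section is part of a basis at every point, for a general choice of coefficients. -/
theorem exists_comb_unimodular [IsAlgClosed k] [IsIntegral X] [LocallyOfFiniteType f] [CompactSpace X]
    [IsLocallyNoetherian X] {n : ℕ} (hdim : topologicalKrullDim X ≤ (n : WithBot ℕ∞))
    {E : X.Modules} {r N : ℕ} (hE : FlatMod.IsFinLocFreeOfRank r E) (hnr : n < r)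
    {g : Fin N → Γ(E, ⊤)} (hg : SpansStalks E g) :
    ∃ c : Fin N → k, ∀ y : X, ∃ l : E.presheaf.stalk y →ₗ[X.presheaf.stalk y] X.presheaf.stalk y,
      l (E.presheaf.germ ⊤ y trivial (comb f g c)) = 1 := by
  classical
  choose U p A hxU hU hp hdiag heq using exists_chart hE hg
  have key : ∀ x : X, ∃ P : MvPolynomial (Fin N) k, P ≠ 0 ∧ ∀ c : Fin N → k, MvPolynomial.eval c P ≠ 0 →
      ∀ y ∈ U x, ∃ l : E.presheaf.stalk y →ₗ[X.presheaf.stalk y] X.presheaf.stalk y,
        l (E.presheaf.germ ⊤ y trivial (comb f g c)) = 1 := by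
    intro x
    haveI : Nonempty (U x) := ⟨⟨x, hxU x⟩⟩
    let cst : k →+* Γ(X, U x) :=
      (X.presheaf.map (homOfLE (le_top : U x ≤ ⊤)).op).hom.comp (show k →+* Γ(X, ⊤) from Coh.toGlobal f)
    letI : Algebra k Γ(X, U x) := cst.toAlgebra
    haveI : Algebra.FiniteType k Γ(X, U x) := by
      have h1 : RingHom.FiniteType (f.appLE ⊤ (U x) le_top).hom :=
        LocallyOfFiniteType.finiteType_appLE f (isAffineOpen_top _) (hU x) _
      exact h1.comp (RingHom.FiniteType.of_surjective (Scheme.ΓSpecIso (CommRingCat.of k)).inv.hom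
        (ConcreteCategory.bijective_of_isIso (Scheme.ΓSpecIso (CommRingCat.of k)).inv).2)
    let free := {j : Fin N // ¬ ∃ i, p x i = j}
    let Q := MvPolynomial free Γ(X, U x)
    let t : Fin N → Q := fun j => if h : ∃ i, p x i = j then
        -∑ f' : free, MvPolynomial.C (A x f'.1 h.choose) * MvPolynomial.X f'
      else MvPolynomial.X ⟨j, h⟩
    obtain ⟨P, hP0, hPt⟩ : ∃ P : MvPolynomial (Fin N) k, P ≠ 0 ∧ MvPolynomial.aeval t P = 0 := by
      by_contra hno
      push Not at hno
      have hind : AlgebraicIndependent k t := by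
        rw [algebraicIndependent_iff]
        intro P hP
        by_contra hne
        exact hno P hne hP
      have hle := hind.lift_cardinalMk_le_trdeg
      haveI : IsNoetherianRing Γ(X, U x) := Algebra.FiniteType.isNoetherianRing k _
      haveI : Algebra.FiniteType k Q := Algebra.FiniteType.trans (R := k) (S := Γ(X, U x)) (A := Q) inferInstance inferInstance
      obtain ⟨s, hs, htr⟩ := H8Props.FieldDim.exists_dim_trdeg k Q
      rw [MvPolynomial.ringKrullDim_of_isNoetherianRing] at hs
      have hdU : ringKrullDim Γ(X, U x) ≤ (n : WithBot ℕ∞) := by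
        rw [← PrimeSpectrum.topologicalKrullDim_eq_ringKrullDim]
        refine le_trans ?_ hdim
        exact ((hU x).fromSpec.isOpenEmbedding.isInducing).topologicalKrullDim_le
      have hfree : Nat.card free + r = N := by
        rw [Nat.card_eq_fintype_card, Fintype.card_subtype_compl, Fintype.card_fin]
        have h1 : Fintype.card {j : Fin N // ∃ i, p x i = j} = r := by
          rw [Fintype.card_subtype, show (Finset.univ.filter fun j => ∃ i, p x i = j) = Finset.univ.image (p x) by
            ext j; simp, Finset.card_image_of_injective _ (hp x), Finset.card_univ, Fintype.card_fin]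
        have h2 : r ≤ N := by simpa using Fintype.card_le_of_injective _ (hp x)
        omega
      rw [htr] at hle
      have hNs : N ≤ s := by simpa [Cardinal.mk_fintype] using hle
      have h3 : (s : WithBot ℕ∞) ≤ (n : WithBot ℕ∞) + (Nat.card free : WithBot ℕ∞) := by
        rw [← hs]; exact add_le_add_left hdU _
      have h4 : s ≤ n + Nat.card free := by exact_mod_cast h3
      omega
    refine ⟨P, hP0, fun c hc y hy => ?_⟩
    let b : Fin r → E.presheaf.stalk y := fun i => E.presheaf.germ ⊤ y trivial (g (p x i))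
    have hgj : ∀ j, E.presheaf.germ ⊤ y trivial (g j) = ∑ i, X.presheaf.germ (U x) y hy (A x j i) • b i := by
      intro j
      rw [← TopCat.Presheaf.germ_res_apply E.presheaf (homOfLE (le_top : U x ≤ ⊤)) y hy (g j), heq x j, map_sum]
      refine Finset.sum_congr rfl fun i _ => ?_
      rw [H06Mod.germ_smul]
      exact congrArg _ (TopCat.Presheaf.germ_res_apply E.presheaf (homOfLE (le_top : U x ≤ ⊤)) y hy _)
    obtain ⟨hf', hfin', hr'⟩ := H25Par.finrank_stalk hE y
    haveI := hf'
    haveI := hfin'
    let L : (Fin r → X.presheaf.stalk y) →ₗ[X.presheaf.stalk y] E.presheaf.stalk y :=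
      Fintype.linearCombination (X.presheaf.stalk y) b
    have hL : Function.Surjective L := by
      rw [← LinearMap.range_eq_top, eq_top_iff, ← hg y, Submodule.span_le]
      rintro _ ⟨j, rfl⟩
      exact ⟨fun i => X.presheaf.germ (U x) y hy (A x j i), (hgj j).symm⟩
    let B := Module.finBasisOfFinrankEq (X.presheaf.stalk y) (E.presheaf.stalk y) hr'
    have hLbij : Function.Bijective L := by
      have h1 : Function.Injective (B.equivFun.toLinearMap ∘ₗ L) :=
        OrzechProperty.injective_of_surjective_endomorphism _ (B.equivFun.surjective.comp hL)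
      exact ⟨fun v w h => h1 (congrArg B.equivFun h), hL⟩
    let Le := LinearEquiv.ofBijective L hLbij
    let a : Fin r → X.presheaf.stalk y := fun i => ∑ j, X.presheaf.germ (U x) y hy (cst (c j) * A x j i)
    have hv : E.presheaf.germ ⊤ y trivial (comb f g c) = L a := by
      rw [comb, map_sum]
      simp only [L, Fintype.linearCombination_apply, a, Finset.sum_smul]
      rw [Finset.sum_comm]
      refine Finset.sum_congr rfl fun j _ => ?_
      refine (H06Mod.germ_smul E ⊤ trivial _ (g j)).trans ?_
      rw [hgj j, Finset.smul_sum]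
      refine Finset.sum_congr rfl fun i _ => ?_
      rw [smul_smul, map_mul]
      congr 2
      exact (TopCat.Presheaf.germ_res_apply X.presheaf (homOfLE (le_top : U x ≤ ⊤)) y hy _).symm
    obtain ⟨i₀, hi₀⟩ : ∃ i, IsUnit (a i) := by
      by_contra hno
      push Not at hno
      refine hc ?_
      let ev : Γ(X, U x) →+* X.residueField y := (X.residue y).hom.comp (X.presheaf.germ (U x) y hy).hom
      let ι : k →+* X.residueField y := ev.comp cst
      have hrow : ∀ i, ι (c (p x i)) + ∑ f' : free, ι (c f'.1) * ev (A x f'.1 i) = 0 := by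
        intro i
        have h0 : X.residue y (a i) = 0 := (IsLocalRing.residue_eq_zero_iff _).2 (hno i)
        simp only [a, map_sum] at h0
        have h1 : ∑ j, ι (c j) * ev (A x j i) = 0 := by
          rw [← h0]
          exact Finset.sum_congr rfl fun j _ => (map_mul ev (cst (c j)) (A x j i)).symm
        have hsub := Fintype.sum_subtype_add_sum_subtype (fun j => ∃ i₁, p x i₁ = j) fun j => ι (c j) * ev (A x j i)
        rw [h1] at hsub
        rw [← hsub]
        congr 1
        rw [Finset.sum_eq_single (⟨p x i, i, rfl⟩ : {j : Fin N // ∃ i₁, p x i₁ = j})]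
        · rw [hdiag x i i, if_pos rfl, map_one, mul_one]
        · rintro ⟨j, i₁, rfl⟩ _ hne
          rw [hdiag x i₁ i, if_neg fun h => hne (by subst h; rfl), map_zero, mul_zero]
        · simp
      let Φ : Q →+* X.residueField y := MvPolynomial.eval₂Hom ev fun f' : free => ι (c f'.1)
      have ht : ∀ j, Φ (t j) = ι (c j) := by
        intro j
        by_cases h : ∃ i, p x i = j
        · simp only [t, dif_pos h, map_neg, map_sum, map_mul, Φ, MvPolynomial.coe_eval₂Hom, MvPolynomial.eval₂_C, MvPolynomial.eval₂_X]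
          have := hrow h.choose
          rw [h.choose_spec] at this
          rw [eq_comm, eq_neg_iff_add_eq_zero]
          refine Eq.trans ?_ this
          exact congrArg (ι (c j) + ·) (Finset.sum_congr rfl fun f' _ =>
            (congrArg₂ (· * ·) (MvPolynomial.eval₂Hom_C _ _ _) (MvPolynomial.eval₂Hom_X' _ _ _)).trans (mul_comm _ _))
        · simp only [t, dif_neg h, Φ]
          exact MvPolynomial.eval₂Hom_X' _ _ _
      have hcomp : Φ.comp (MvPolynomial.aeval t).toRingHom = ι.comp (MvPolynomial.eval c) := by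
        refine MvPolynomial.ringHom_ext (fun z => ?_) fun j => ?_
        · simp only [RingHom.comp_apply, AlgHom.toRingHom_eq_coe, RingHom.coe_coe, MvPolynomial.aeval_C,
            MvPolynomial.eval_C]
          rw [IsScalarTower.algebraMap_apply k Γ(X, U x) Q, MvPolynomial.algebraMap_eq]
          exact MvPolynomial.eval₂Hom_C _ _ _
        · simp only [RingHom.comp_apply, AlgHom.toRingHom_eq_coe, RingHom.coe_coe, MvPolynomial.aeval_X,
            MvPolynomial.eval_X, ht]
      have h2 := congrArg (fun φ : MvPolynomial (Fin N) k →+* X.residueField y => φ P) hcomp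
      simp only [RingHom.comp_apply, AlgHom.toRingHom_eq_coe, RingHom.coe_coe, hPt, map_zero] at h2
      exact ι.injective (h2.symm.trans (map_zero ι).symm)
    refine ⟨(hi₀.unit⁻¹ : (X.presheaf.stalk y)ˣ).val • ((LinearMap.proj i₀).comp Le.symm.toLinearMap), ?_⟩
    rw [hv, show L a = Le a from rfl]
    simp
  choose P hP0 hP using key
  obtain ⟨S, hS⟩ := isCompact_univ.elim_finite_subcover (fun x : X => (U x : Set X)) (fun x => (U x).2)
    fun x _ => Set.mem_iUnion.2 ⟨x, hxU x⟩
  obtain ⟨c, hc⟩ : ∃ c : Fin N → k, MvPolynomial.eval c (∏ x ∈ S, P x) ≠ 0 := by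
    by_contra h
    push Not at h
    exact Finset.prod_ne_zero_iff.2 (fun x _ => hP0 x) (MvPolynomial.funext fun c => by rw [h c, map_zero])
  refine ⟨c, fun y => ?_⟩
  obtain ⟨x, hxS, hy⟩ := Set.mem_iUnion₂.1 (hS (Set.mem_univ y))
  rw [map_prod] at hc
  exact hP x c (Finset.prod_ne_zero_iff.1 hc x hxS) y hy

/-- A section which is part of a basis everywhere has a bundle quotient. -/
theorem exists_quotient_of_unimodular [IsLocallyNoetherian X] {E : X.Modules} {r : ℕ}
    (hE : FlatMod.IsFinLocFreeOfRank r E) (σ : Γ(E, ⊤))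
    (hσ : ∀ y : X, ∃ l : E.presheaf.stalk y →ₗ[X.presheaf.stalk y] X.presheaf.stalk y,
      l (E.presheaf.germ ⊤ y trivial σ) = 1) :
    Mono (H11Tilde.homOfGlobal E σ) ∧ FlatMod.IsFinLocFreeOfRank (r - 1) (cokernel (H11Tilde.homOfGlobal E σ)) := by
  let s := H11Tilde.homOfGlobal E σ
  have hst : ∀ (y : X) (a : X.presheaf.stalk y),
      H06Mod.stalkLin s y (a • (Coh.structureModule X).presheaf.germ ⊤ y trivial (H11Ample.one ⊤)) =
        a • E.presheaf.germ ⊤ y trivial σ := by
    intro y a
    rw [map_smul, germ_app]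
    congr 2
    exact (H11Tilde.homOfGlobal_app E σ ⊤ _).trans ((one_smul _ _).trans
      (ConcreteCategory.congr_hom (E.presheaf.map_id (op ⊤)) σ))
  have hinj : ∀ y, Function.Injective (H06Mod.stalkLin s y) := by
    intro y
    obtain ⟨l, hl⟩ := hσ y
    rw [injective_iff_map_eq_zero]
    intro w hw
    obtain ⟨a, rfl⟩ := (H11Ample.isGen_one (X := X) ⊤ y trivial).2 w
    have h := congrArg l ((hst y a).symm.trans hw)
    rw [map_smul, hl, map_zero, smul_eq_mul, mul_one] at h
    rw [h]
    exact zero_smul _ _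
  haveI hmono : Mono s := Preadditive.mono_of_kernel_zero
    ((H16Derived.KFlat.Stalk.isZero_of_stalk fun y => by
      haveI : Subsingleton ((DerSch.stalkFunctor X y).obj (kernel s)) :=
        H10Coh.subsingleton_stalk_kernel s y (hinj y)
      exact ModuleCat.isZero_of_subsingleton _).eq_of_src _ _)
  refine ⟨hmono, ?_⟩
  have hEc := isCoh_of_rank hE
  have hC := H10Coh.isCoh_cokernel s (H10Coh.isCoh_structureModule' X).1 hEc
  intro x
  obtain ⟨hf, hfin, hr⟩ := H25Par.finrank_stalk hE x
  obtain ⟨l, hl⟩ := hσ x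
  let π := H06Mod.stalkLin (cokernel.π s) x
  have hπ : Function.Surjective π :=
    (ModuleCat.epi_iff_surjective _).1 (inferInstance : Epi ((DerSch.stalkFunctor X x).map (cokernel.π s)))
  have hker : ∀ v, π v = 0 ↔ ∃ a : X.presheaf.stalk x, a • E.presheaf.germ ⊤ x trivial σ = v := by
    intro v
    constructor
    · intro hv
      have hT : ((ShortComplex.mk s (cokernel.π s) (cokernel.condition s)).map (DerSch.stalkFunctor X x)).Exact :=
        (ShortComplex.exact_cokernel s).map _
      obtain ⟨w, hw⟩ := (ShortComplex.moduleCat_exact_iff _).1 hT v hv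
      obtain ⟨a, rfl⟩ := (H11Ample.isGen_one (X := X) ⊤ x trivial).2 w
      exact ⟨a, (hst x a).symm.trans hw⟩
    · rintro ⟨a, rfl⟩
      rw [← hst x a]
      show π (H06Mod.stalkLin s x _) = 0
      rw [← stalkLin_comp]
      show ((DerSch.stalkFunctor X x).map (s ≫ cokernel.π s)).hom _ = 0
      rw [cokernel.condition, Functor.map_zero]
      rfl
  haveI := hf
  haveI := hfin
  let K := LinearMap.ker l
  let pr : E.presheaf.stalk x →ₗ[X.presheaf.stalk x] K :=
    LinearMap.codRestrict K (LinearMap.id - l.smulRight (E.presheaf.germ ⊤ x trivial σ)) fun v => by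
      simp [K, hl]
  have hpr : ∀ v, (pr v : E.presheaf.stalk x) = v - l v • E.presheaf.germ ⊤ x trivial σ := fun _ => rfl
  have hbij : Function.Bijective (π ∘ₗ K.subtype) := by
    refine ⟨fun v w h => ?_, fun z => ?_⟩
    · have h0 : π ((v : E.presheaf.stalk x) - w) = 0 := by rw [map_sub]; exact sub_eq_zero.2 h
      obtain ⟨a, ha⟩ := (hker _).1 h0
      have h1 := congrArg l ha
      rw [map_smul, hl, smul_eq_mul, mul_one, map_sub, LinearMap.mem_ker.1 v.2, LinearMap.mem_ker.1 w.2, sub_zero] at h1
      rw [h1, zero_smul] at ha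
      exact Subtype.ext (sub_eq_zero.1 ha.symm)
    · obtain ⟨v, rfl⟩ := hπ z
      refine ⟨pr v, ?_⟩
      show π ((v : E.presheaf.stalk x) - l v • E.presheaf.germ ⊤ x trivial σ) = π v
      rw [map_sub, (hker _).2 ⟨l v, rfl⟩, sub_zero]
  let e := LinearEquiv.ofBijective _ hbij
  have hprod : Function.Bijective ((LinearMap.toSpanSingleton (X.presheaf.stalk x) _
      (E.presheaf.germ ⊤ x trivial σ)).coprod K.subtype) := by
    refine ⟨?_, fun v => ⟨(l v, pr v), by simp [hpr]⟩⟩
    rw [injective_iff_map_eq_zero]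
    rintro ⟨a, v⟩ h
    simp only [LinearMap.coprod_apply, LinearMap.toSpanSingleton_apply, Submodule.coe_subtype] at h
    have h1 := congrArg l h
    rw [map_add, map_smul, hl, LinearMap.mem_ker.1 v.2, map_zero, add_zero, smul_eq_mul, mul_one] at h1
    rw [h1, zero_smul, zero_add] at h
    exact Prod.ext h1 (Subtype.ext h)
  haveI : Module.Finite (X.presheaf.stalk x) K := Module.Finite.of_surjective pr fun v => ⟨v, Subtype.ext (by
    simp [hpr, LinearMap.mem_ker.1 v.2])⟩
  haveI : Module.Projective (X.presheaf.stalk x) K := Module.Projective.of_split K.subtype pr (LinearMap.ext fun v =>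
    Subtype.ext (by simp [hpr, LinearMap.mem_ker.1 v.2]))
  haveI : Module.Free (X.presheaf.stalk x) K := Module.free_of_flat_of_isLocalRing
  have hrK : Module.finrank (X.presheaf.stalk x) K = r - 1 := by
    have h := (LinearEquiv.ofBijective _ hprod).finrank_eq
    rw [Module.finrank_prod, Module.finrank_self, hr] at h
    omega
  let b := (Module.finBasisOfFinrankEq (X.presheaf.stalk x) K hrK).map e
  exact H8Props.FunDescent.isFreeOfRankNear_of_stalkFree_of_isFP _ (H10Coh.isFP_of_isCoh _ hC) ⟨b⟩

/-- General combinations span a trivial subbundle with locally free quotient. -/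
theorem exists_trivial_sub [IsAlgClosed k] [IsIntegral X] [LocallyOfFiniteType f] [CompactSpace X]
    [IsLocallyNoetherian X] {n : ℕ} (hdim : topologicalKrullDim X ≤ (n : WithBot ℕ∞)) :
    ∀ (m : ℕ) {E : X.Modules} {r N : ℕ}, FlatMod.IsFinLocFreeOfRank r E → m + n ≤ r →
      ∀ g : Fin N → Γ(E, ⊤), SpansStalks E g → ∃ c : Fin m → Fin N → k,
        Mono (Sigma.desc fun l => H11Tilde.homOfGlobal E (comb f g (c l))) ∧
          FlatMod.IsFinLocFreeOfRank (r - m) (cokernel (Sigma.desc fun l => H11Tilde.homOfGlobal E (comb f g (c l)))) := by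
  intro m
  induction m with
  | zero =>
    intro E r N hE _ g _
    refine ⟨Fin.elim0, ?_, ?_⟩
    · exact Preadditive.mono_of_cancel_zero _ fun a _ => by
        rw [← Category.comp_id a, show 𝟙 (∐ fun _ : Fin 0 => Coh.structureModule X) = 0 from
          Sigma.hom_ext _ _ fun b => b.elim0, comp_zero]
    · have h0 : (Sigma.desc fun l => H11Tilde.homOfGlobal E (comb f g (Fin.elim0 l : Fin N → k)) :
          FlatMod.freeMod X 0 ⟶ E) = 0 := Sigma.hom_ext _ _ fun b => b.elim0
      intro x
      obtain ⟨U, hU, ⟨e⟩⟩ := hE x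
      exact ⟨U, hU, ⟨(Scheme.Modules.restrictFunctor U.ι).mapIso (cokernelIsoOfEq h0 ≪≫ cokernelZeroIsoTarget) ≪≫ e⟩⟩
  | succ m ih =>
    intro E r N hE hle g hg
    obtain ⟨c₀, hc₀⟩ := exists_comb_unimodular f hdim hE (by omega) hg
    obtain ⟨hs, hq⟩ := exists_quotient_of_unimodular hE _ hc₀
    let s := H11Tilde.homOfGlobal E (comb f g c₀)
    let q := cokernel.π s
    obtain ⟨c', hm', hr'⟩ := ih hq (by omega) _ (spansStalks_map q hg)
    let φ' : FlatMod.freeMod X m ⟶ E := Sigma.desc fun l => H11Tilde.homOfGlobal E (comb f g (c' l))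
    have hφ' : (Sigma.desc fun l => H11Tilde.homOfGlobal _ (comb f (fun j => q.app ⊤ (g j)) (c' l))) = φ' ≫ q := by
      refine Sigma.hom_ext _ _ fun l => ?_
      rw [Sigma.ι_desc, ← Category.assoc, Sigma.ι_desc, ← app_comb]
      refine Scheme.Modules.hom_ext _ _ fun V => ConcreteCategory.hom_ext _ _ fun a => ?_
      show _ = q.app V ((H11Tilde.homOfGlobal E (comb f g (c' l))).app V a)
      rw [H11Tilde.homOfGlobal_app, H11Tilde.homOfGlobal_app, Scheme.Modules.Hom.app_smul, H11Tilde.app_map_apply]
    rw [hφ'] at hm'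
    have hr'' : FlatMod.IsFinLocFreeOfRank (r - (m + 1)) (cokernel (φ' ≫ q)) := fun x => by
      obtain ⟨U, hU, ⟨e⟩⟩ := hr' x
      rw [show r - (m + 1) = r - 1 - m by omega]
      exact ⟨U, hU, ⟨(Scheme.Modules.restrictFunctor U.ι).mapIso (cokernelIsoOfEq hφ').symm ≪≫ e⟩⟩
    let c : Fin (m + 1) → Fin N → k := Fin.cases c₀ c'
    have hφ : (Sigma.desc fun l => H11Tilde.homOfGlobal E (comb f g (c l))) =
        (H22Alg.KModel.freeSucc (X := X) m).hom ≫ biprod.desc s φ' := by
      refine Sigma.hom_ext _ _ fun l => ?_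
      cases l using Fin.cases <;> simp [H22Alg.KModel.freeSucc, c, s, φ']
    refine ⟨c, ?_, ?_⟩
    · rw [hφ]
      haveI : Mono (biprod.desc s φ') := Preadditive.mono_of_cancel_zero _ fun {Z} a ha => by
        have hd : a ≫ biprod.fst ≫ s + a ≫ biprod.snd ≫ φ' = 0 := by
          rw [← ha, biprod.desc_eq, Preadditive.comp_add]
        have h2 : a ≫ biprod.snd = 0 := by
          refine (cancel_mono (φ' ≫ q)).1 ?_
          have := congrArg (· ≫ q) hd
          simpa [Preadditive.add_comp, Category.assoc, q, cokernel.condition] using this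
        have h1 : a ≫ biprod.fst = 0 := by
          haveI : Mono s := hs
          rw [← cancel_mono s, Category.assoc, zero_comp]
          rw [← Category.assoc a biprod.snd, h2, zero_comp, add_zero] at hd
          exact hd
        exact biprod.hom_ext _ _ (h1.trans zero_comp.symm) (h2.trans zero_comp.symm)
      exact mono_comp _ _
    · have hz1 : s ≫ cokernel.π (biprod.desc s φ') = 0 :=
        (congrArg (· ≫ cokernel.π (biprod.desc s φ')) (biprod.inl_desc s φ').symm).trans
          (by simp only [Category.assoc, cokernel.condition, comp_zero])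
      have hz2 : φ' ≫ cokernel.π (biprod.desc s φ') = 0 :=
        (congrArg (· ≫ cokernel.π (biprod.desc s φ')) (biprod.inr_desc s φ').symm).trans
          (by simp only [Category.assoc, cokernel.condition, comp_zero])
      let e : cokernel (biprod.desc s φ') ≅ cokernel (φ' ≫ q) :=
        { hom := cokernel.desc _ (q ≫ cokernel.π _) (by
            refine biprod.hom_ext' _ _ ?_ ?_
            · simp [q]
            · rw [biprod.inr_desc_assoc, comp_zero, ← Category.assoc, cokernel.condition])
          inv := cokernel.desc _ (cokernel.desc _ (cokernel.π _) hz1) (by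
            rw [Category.assoc, cokernel.π_desc, hz2])
          hom_inv_id := coequalizer.hom_ext (by simp [q])
          inv_hom_id := by
            refine coequalizer.hom_ext ((cancel_epi q).1 ?_)
            simp [q] }
      intro x
      obtain ⟨U, hU, ⟨e'⟩⟩ := hr'' x
      refine ⟨U, hU, ⟨(Scheme.Modules.restrictFunctor U.ι).mapIso ?_ ≪≫ e'⟩⟩
      exact cokernelIsoOfEq hφ ≪≫ cokernelEpiComp _ _ ≪≫ e

end Groth.Agent.H29RR
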