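import Groth.Agent.H29RR.EvalPoint
import Groth.Agent.H29RR.Pencil

/-!
# Subspaces of sections spanning the fibre at a rational point
-/

set_option autoImplicit false
set_option linter.style.haveILetI false
universe u

open CategoryTheory CategoryTheory.Limits AlgebraicGeometry TopologicalSpace Opposite
open Groth.Agent.H11Tilde

namespace Groth.Agent.H29RR

attribute [local instance] Curv2.resAlgebra
attribute [local instance 10000] H10Coh.hasSheafifyAb H10Coh.hasWeakSheafifyAb H10Coh.hasExtAb H10Coh.enoughInjAb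

variable {k : Type u} [Field k] {X : Scheme.{u}} [X.Over (Spec (CommRingCat.of k))] [IsProper (X ↘ Spec (CommRingCat.of k))]

/-- The inclusion `I_x ⊗ E → E`. -/
noncomputable def ptIncl (x : X) (E : X.Modules) : CohB1.tensorMod (ClSub.idealMod (ptIdeal x)) E ⟶ E :=
  ((DCoh.tensorBi (X := X)).flip.obj E).map (ClSub.idealModι (ptIdeal x)) ≫ (H10Coh.Tw.leftUnitIso E).hom

/-- The sections vanishing at `x`. -/
noncomputable def vanishSub (k : Type u) [Field k] [X.Over (Spec (CommRingCat.of k))] (x : X) (E : X.Modules) :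
    Submodule k (Coh.HH X E 0) :=
  LinearMap.range (Canon.HHlin k (ptIncl x E) 0)

theorem mono_ptIncl {x : X} {E : X.Modules} {n : ℕ} (hE : FlatMod.IsFinLocFreeOfRank n E) : Mono (ptIncl x E) := by
  haveI := H10Coh.epi_toSubscheme (ptIdeal x)
  have hS : (ShortComplex.mk (ClSub.idealModι (ptIdeal x)) (ClSub.toSubscheme (ptIdeal x)) (kernel.condition _)).ShortExact :=
    { exact := ShortComplex.exact_kernel _
      mono_f := inferInstanceAs (Mono (kernel.ι _)) }
  have hS' := H16Derived.KFlat.Stalk.isFlatObj_of_isFlat (H16Derived.KFlat.Stalk.isFlat_of_isFinLocFree (locFree_of_rank hE)) _ hS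
  exact @mono_comp _ _ _ _ _ _ hS'.mono_f (H10Coh.Tw.leftUnitIso E).hom inferInstance

theorem finrank_vanishSub {x : X} {E : X.Modules} {n : ℕ} (hE : FlatMod.IsFinLocFreeOfRank n E) :
    Module.finrank k (vanishSub k x E) =
      Module.finrank k (Coh.HH X (CohB1.tensorMod (ClSub.idealMod (ptIdeal x)) E) 0) := by
  haveI := mono_ptIncl (x := x) hE
  exact LinearMap.finrank_range_of_inj (hhlin_zero_injective (k := k) (ptIncl x E))

/-- If the germs of a subspace of sections generate the stalk, it surjects onto the fibre. -/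
theorem sup_vanishSub_eq_top {x : X} (hx : IsClosed ({x} : Set X))
    (h1 : Module.finrank k (X.residueField x) = 1) {E : X.Modules} {n : ℕ}
    (hE : FlatMod.IsFinLocFreeOfRank n E) (S : Submodule k (Coh.HH X E 0))
    (h : Submodule.span (X.presheaf.stalk x)
      ((fun v => E.presheaf.germ ⊤ x trivial (sec E v)) '' (S : Set (Coh.HH X E 0))) = ⊤) :
    S ⊔ vanishSub k x E = ⊤ := by
  haveI := isNoetherian_of_proper (k := k) (X := X)
  let I := ptIdeal x
  let Q := ClSub.quotMod I
  have hQc : Coh.IsCoh Q :=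
    H24FSch.isCoh_pushforward_of_isClosedImmersion I.subschemeι (H10Coh.isCoh_structureModule' _)
  have hsupp : CohB1.support Q ⊆ {x} := fun y hy => by
    have := LeadProper.support_subset_range (F := Q)
      (@H10Coh.isQuasicoherent_pushforward _ _ I.subschemeι inferInstance inferInstance _ H10Coh.isQuasicoherent_unit)
      I.subschemeι (Iso.refl _) hy
    rwa [range_subscheme_pt hx] at this
  have hEf : FlatMod.IsFinLocFree E := locFree_of_rank hE
  have hEc : Coh.IsCoh E := isCoh_of_rank hE
  let T := (DCoh.tensorBi (X := X)).flip.obj E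
  haveI := H10Coh.epi_toSubscheme I
  have hS : (ShortComplex.mk (ClSub.idealModι I) (ClSub.toSubscheme I) (kernel.condition _)).ShortExact :=
    { exact := ShortComplex.exact_kernel _
      mono_f := inferInstanceAs (Mono (kernel.ι _)) }
  have hS' := H16Derived.KFlat.Stalk.isFlatObj_of_isFlat (H16Derived.KFlat.Stalk.isFlat_of_isFinLocFree hEf) _ hS
  haveI : Mono (T.map (ClSub.idealModι I)) := hS'.mono_f
  haveI : Epi (T.map (ClSub.toSubscheme I)) := hS'.epi_g
  let u : T.obj (Coh.structureModule X) ≅ E := H10Coh.Tw.leftUnitIso E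
  let q : E ⟶ T.obj Q := u.inv ≫ T.map (ClSub.toSubscheme I)
  haveI : Epi q := epi_comp _ _
  haveI : Module.Finite k (Coh.HH X (T.obj Q) 0) :=
    H10Coh.finite_HH_proper k X _ (H10Coh.TT.isCoh_tensorMod hQc hEc) 0
  haveI : Module.Finite k (Coh.HH X (T.obj (Coh.structureModule X)) 0) :=
    H10Coh.finite_HH_proper k X _ (H10Coh.TT.isCoh_tensorMod (H10Coh.isCoh_structureModule' X) hEc) 0
  haveI : Module.Finite k (Coh.HH X E 0) := H10Coh.finite_HH_proper k X E hEc 0
  have hTsupp : ∀ y, y ∉ ({x} : Set X) → Subsingleton ((T.obj Q).presheaf.stalk y) := fun y hy =>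
    not_not.1 fun h => hy (hsupp (H25Euler.support_tensor_subset Q E h))
  have hgerm := H25Par.germs_bijective (k := k) (T.obj Q) (Set.finite_singleton x)
    (fun z hz => by obtain rfl := hz; exact hx) hTsupp
  let W := H25Par.Stk k (T.obj Q) x
  let P : Coh.HH X (T.obj Q) 0 →ₗ[k] W :=
    (LinearMap.proj (R := k) (φ := fun y : ({x} : Set X) => H25Par.Stk k (T.obj Q) y.1) ⟨x, rfl⟩).comp
      (H25Par.germs (k := k) (T.obj Q) {x})
  have hP : Function.Bijective P := by
    refine ⟨fun v w hvw => hgerm.1 (funext fun ⟨y, hy⟩ => by obtain rfl := hy; exact hvw), fun t => ?_⟩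
    let f : ∀ y : ({x} : Set X), H25Par.Stk k (T.obj Q) y.1 := fun ⟨y, hy⟩ => by
      rw [Set.mem_singleton_iff] at hy
      subst hy
      exact t
    obtain ⟨w, hw⟩ := hgerm.2 f
    exact ⟨w, congrFun hw ⟨x, rfl⟩⟩
  have hQ1 : Module.finrank k (Coh.HH X Q 0) = 1 := (finrank_h0_quotMod_pt (k := k) hx).trans h1
  have hqn : Module.finrank k (Coh.HH X (T.obj Q) 0) = n := by
    refine (finrank_h0_tensor_bundle (k := k) hE ((Set.finite_singleton x).subset hsupp)
      (fun z hz => by obtain rfl := hsupp hz; exact hx) (H10Coh.finite_HH_proper k X _ hQc 0)).trans ?_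
    show n * Module.finrank k (Coh.HH X Q 0) = n
    rw [hQ1, mul_one]
  have hW : Module.finrank k W = n := (LinearEquiv.ofBijective P hP).finrank_eq.symm.trans hqn
  haveI : Module.Finite k W := Module.Finite.equiv (LinearEquiv.ofBijective P hP)
  -- the maximal ideal kills the fibre
  have hkQ : ∀ r ∈ IsLocalRing.maximalIdeal (X.presheaf.stalk x), ∀ v : Q.presheaf.stalk x, r • v = 0 := by
    have hgQ := H25Par.germs_bijective (k := k) Q (Set.finite_singleton x)
      (fun z hz => by obtain rfl := hz; exact hx) (fun y hy => not_not.1 fun h => hy (hsupp h))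
    let PQ : Coh.HH X Q 0 →ₗ[k] H25Par.Stk k Q x :=
      (LinearMap.proj (R := k) (φ := fun y : ({x} : Set X) => H25Par.Stk k Q y.1) ⟨x, rfl⟩).comp
        (H25Par.germs (k := k) Q {x})
    have hPQ : Function.Bijective PQ := by
      refine ⟨fun v w hvw => hgQ.1 (funext fun ⟨y, hy⟩ => by obtain rfl := hy; exact hvw), fun t => ?_⟩
      let f : ∀ y : ({x} : Set X), H25Par.Stk k Q y.1 := fun ⟨y, hy⟩ => by
        rw [Set.mem_singleton_iff] at hy
        subst hy
        exact t
      obtain ⟨w, hw⟩ := hgQ.2 f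
      exact ⟨w, congrFun hw ⟨x, rfl⟩⟩
    have hd : Module.finrank k (H25Par.Stk k Q x) = 1 :=
      (LinearEquiv.ofBijective PQ hPQ).finrank_eq.symm.trans hQ1
    intro r hr v
    by_contra hrv
    have hv : (v : H25Par.Stk k Q x) ≠ 0 := fun h => hrv (by rw [show v = 0 from h, smul_zero])
    obtain ⟨c, hc⟩ := exists_smul_eq_of_finrank_eq_one hd hv (r • v)
    change H25Par.constStalk (k := k) x c • v = r • v at hc
    by_cases hc0 : c = 0
    · rw [hc0, map_zero, zero_smul] at hc
      exact hrv hc.symm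
    · have hu : IsUnit (H25Par.constStalk (k := k) x c - r) := by
        have hcu : IsUnit (H25Par.constStalk (k := k) x c) := (Ne.isUnit hc0).map _
        by_contra h
        exact (IsLocalRing.nonunits_add (hr : r ∈ nonunits _) (h : _ ∈ nonunits _)) (by simpa using hcu)
      exact hrv (by rw [hu.smul_eq_zero.1 (by rw [sub_smul, hc, sub_self] : (H25Par.constStalk (k := k) x c - r) • v = 0), smul_zero])
  have hkW : ∀ r ∈ IsLocalRing.maximalIdeal (X.presheaf.stalk x), ∀ w : (T.obj Q).presheaf.stalk x, r • w = 0 := by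
    intro r hr w
    obtain ⟨z, rfl⟩ := (H16Derived.KFlat.Stalk.stalkEquiv Q E x).surjective w
    refine ((H16Derived.KFlat.Stalk.stalkEquiv Q E x).map_smul r z).symm.trans ?_
    have : r • z = 0 := by
      induction z using TensorProduct.induction_on with
      | zero => rw [smul_zero]
      | tmul a b => rw [TensorProduct.smul_tmul', hkQ r hr, TensorProduct.zero_tmul]
      | add a b ha hb => rw [smul_add, ha, hb, add_zero]
    rw [this]
    exact LinearEquiv.map_zero _
  -- residues are constants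
  have hres : ∀ r : X.presheaf.stalk x, ∃ c : k,
      r - H25Par.constStalk (k := k) x c ∈ IsLocalRing.maximalIdeal (X.presheaf.stalk x) := by
    intro r
    haveI : Module.Finite k (X.residueField x) := Module.finite_of_finrank_eq_succ h1
    have hsurj : Function.Surjective (algebraMap k (X.residueField x)) :=
      (LinearMap.injective_iff_surjective_of_finrank_eq_finrank ((Module.finrank_self k).trans h1.symm)
        (f := (Algebra.linearMap k (X.residueField x)))).1 (algebraMap k (X.residueField x)).injective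
    obtain ⟨c, hc⟩ := hsurj (X.residue x r)
    refine ⟨c, ?_⟩
    rw [← IsLocalRing.residue_eq_zero_iff, map_sub, sub_eq_zero]
    exact hc.symm
  let qs := H06Mod.stalkLin q x
  have hqsurj : Function.Surjective qs :=
    (ModuleCat.epi_iff_surjective _).1 (inferInstance : Epi ((DerSch.stalkFunctor X x).map q))
  let qW : E.presheaf.stalk x →+ W := qs.toAddMonoidHom
  have hqW : ∀ (r : X.presheaf.stalk x) (c : k), r - H25Par.constStalk (k := k) x c ∈ IsLocalRing.maximalIdeal (X.presheaf.stalk x) →
      ∀ z : E.presheaf.stalk x, qW (r • z) = c • qW z := by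
    intro r c hrc z
    show qs (r • z) = H25Par.constStalk (k := k) x c • qs z
    rw [map_smul, ← sub_eq_zero, ← sub_smul]
    exact hkW _ hrc _
  have hcomp : ∀ v : Coh.HH X E 0, P (Canon.HHlin k q 0 v) = qs (E.presheaf.germ ⊤ x trivial (sec E v)) := by
    intro v
    rw [germ_app]
    exact congrArg ((T.obj Q).presheaf.germ ⊤ x trivial) (sec_natural (k := k) q v)
  rw [eq_top_iff]
  intro v₀ _
  suffices ∀ v ∈ Submodule.span (X.presheaf.stalk x)
      ((fun v => E.presheaf.germ ⊤ x trivial (sec E v)) '' (S : Set (Coh.HH X E 0))),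
      ∃ t ∈ S, P (Canon.HHlin k q 0 t) = qs v by
    obtain ⟨t, htS, ht⟩ := this (E.presheaf.germ ⊤ x trivial (sec E v₀)) (h ▸ Submodule.mem_top)
    rw [← hcomp] at ht
    have hd : Canon.HHlin k q 0 (v₀ - t) = 0 := by rw [map_sub, hP.1 ht, sub_self]
    have hker : Canon.HHlin k (T.map (ClSub.toSubscheme I)) 0 (Canon.HHlin k u.inv 0 (v₀ - t)) = 0 :=
      (hhlin_comp (k := k) _ _ 0 _).symm.trans hd
    have hex := H25Par.hhlin_exact (k := k) hS'
    obtain ⟨w, hw⟩ : Canon.HHlin k u.inv 0 (v₀ - t) ∈ LinearMap.range (Canon.HHlin k (T.map (ClSub.idealModι I)) 0) :=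
      (show LinearMap.ker (Canon.HHlin k (T.map (ClSub.toSubscheme I)) 0) =
        LinearMap.range (Canon.HHlin k (T.map (ClSub.idealModι I)) 0) from hex) ▸ LinearMap.mem_ker.2 hker
    refine Submodule.mem_sup.2 ⟨t, htS, v₀ - t, ⟨w, ?_⟩, add_sub_cancel _ _⟩
    show Canon.HHlin k (T.map (ClSub.idealModι I) ≫ u.hom) 0 w = _
    rw [hhlin_comp (k := k), hw, ← hhlin_comp (k := k), Iso.inv_hom_id, hhlin_id]
  intro v hv
  induction hv using Submodule.span_induction with
  | mem y hy =>
    obtain ⟨g, hg, rfl⟩ := hy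
    exact ⟨g, hg, hcomp g⟩
  | zero => exact ⟨0, zero_mem _, by rw [map_zero, map_zero, map_zero]; rfl⟩
  | add y z _ _ hy hz =>
    obtain ⟨a, haS, ha⟩ := hy
    obtain ⟨b, hbS, hb⟩ := hz
    exact ⟨a + b, add_mem haS hbS, by rw [map_add, map_add, map_add, ha, hb]; rfl⟩
  | smul r y _ hy =>
    obtain ⟨a, haS, ha⟩ := hy
    obtain ⟨c, hc⟩ := hres r
    refine ⟨c • a, Submodule.smul_mem _ c haS, ?_⟩
    rw [map_smul (Canon.HHlin k q 0), map_smul P, ha]
    exact (hqW r c hc y).symm

end Groth.Agent.H29RR
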