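import Groth.Agent.H29RR.Twist
import Groth.Agent.H29RR.Choice
import Groth.Agent.H29RR.RankTwo
import Groth.Agent.H29CurveDual.Canonical
import Groth.Agent.H29RR.Invert

/-!
# Sections of bundles whose line subsheaves have bounded degree
-/

set_option autoImplicit false
set_option linter.style.haveILetI false
set_option linter.unusedSectionVars false
set_option maxHeartbeats 1000000
universe u

open CategoryTheory CategoryTheory.Limits AlgebraicGeometry

namespace Groth.Agent.H29RR.LineBound

open Groth.Agent.H29RR

attribute [local instance] H29CurveDual.homModule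
attribute [local instance 10000] H10Coh.hasSheafifyAb H10Coh.hasWeakSheafifyAb H10Coh.hasExtAb H10Coh.enoughInjAb

variable {k : Type u} [Field k] [IsAlgClosed k] {X : Scheme.{u}} [X.Over (Spec (CommRingCat.of k))]
  [IsProper (X ↘ Spec (CommRingCat.of k))] [IsIntegral X] [Smooth (X ↘ Spec (CommRingCat.of k))]

/-- If line subsheaves have degree less than `N` then there are at most `rank · N` sections. -/
theorem h0_le (hdim : topologicalKrullDim X = 1) :
    ∀ (N : ℕ) (G : X.Modules) (s : ℕ), FlatMod.IsFinLocFreeOfRank s G →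
      (∀ (M : X.Modules) (φ : M ⟶ G), PicF.IsInvertible M → φ ≠ 0 → Curv2.deg k X M 1 < (N : ℤ)) →
      Module.finrank k (Coh.HH X G 0) ≤ s * N := by
  haveI := isNoetherian_of_proper (k := k) (X := X)
  intro N
  induction N with
  | zero =>
    intro G s hG hb
    by_contra hne
    haveI : Nontrivial (Coh.HH X G 0) := Module.nontrivial_of_finrank_pos (R := k) (by omega)
    obtain ⟨g, hg⟩ := exists_global_ne_zero G inferInstance
    have h := hb _ (H11Tilde.homOfGlobal G g) (H11Ample.isInvertible_structureModule (X := X))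
      (homOfGlobal_ne_zero' hg)
    rw [deg_structureModule] at h
    simp at h
  | succ N ih =>
    intro G s hG hb
    obtain ⟨x, -, hx, hI⟩ := exists_point (k := k) hdim ⊤ trivial
    have hIc := H16Derived.KFlat.Stalk.isCoh_of_isFinLocFree (H28Pinch.isFinLocFree_of_isInvertible hI)
    have h1 := finrank_residue_eq_one (k := k) hx
    obtain ⟨-, -, he⟩ := twist_point (k := k) hx (H11Ample.isInvertible_structureModule (X := X)) hIc
    rw [H25Euler.euler_congr (k := k) (H10Coh.Tw.rightUnitIso (ClSub.idealMod (ptIdeal x))), h1] at he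
    have hdI : Curv2.deg k X (ClSub.idealMod (ptIdeal x)) 1 = -1 := by
      rw [deg_def]; omega
    obtain ⟨J, hJ, ⟨eJ⟩⟩ := exists_inverse_comm hI
    have hdJ : Curv2.deg k X J 1 = 1 := by
      have h := deg_tensor (k := k) hdim.le hI hJ
      rw [deg_congr (k := k) eJ, deg_structureModule] at h
      omega
    let G' := CohB1.tensorMod G (ClSub.idealMod (ptIdeal x))
    have hih := ih G' s (rank_tensor hG hI) fun M φ hM hφ => by
      have h := hb (CohB1.tensorMod M J) ((twist J).map φ ≫ (twistInv eJ).hom.app G)
        (H11Ample.isInvertible_tensor hM hJ) fun h0 => hφ (twist_map_eq_zero hJ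
          ((cancel_mono ((twistInv eJ).hom.app G)).1 (h0.trans zero_comp.symm)))
      rw [deg_tensor (k := k) hdim.le hM hJ, hdJ] at h
      push_cast at h
      omega
    have hle := h0_le_twist_point (k := k) hx hG hIc
    rw [h1, (hhIso (k := k) (H10Coh.Tw.commIso (ClSub.idealMod (ptIdeal x)) G) 0).finrank_eq, mul_one] at hle
    change _ ≤ Module.finrank k (Coh.HH X G' 0) + s at hle
    rw [Nat.mul_succ]
    omega

/-- A bundle either has no first cohomology or few sections. -/
theorem h0_le_or (hdim : topologicalKrullDim X = 1) (N : ℕ) (G : X.Modules) (s : ℕ)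
    (hG : FlatMod.IsFinLocFreeOfRank s G)
    (hb : ∀ (M : X.Modules) (φ : M ⟶ G), PicF.IsInvertible M → φ ≠ 0 → Curv2.deg k X M 1 < (N : ℤ)) :
    Module.finrank k (Coh.HH X G 0) ≤ (s - 1) * N + Curv2.genus k X ∨
      (Module.finrank k (Coh.HH X G 0) : ℤ) = Curv2.euler k X G := by
  haveI := isNoetherian_of_proper (k := k) (X := X)
  rcases Nat.eq_zero_or_pos (Module.finrank k (Coh.HH X G 1)) with h1 | h1
  · right
    rw [euler_eq_sub (k := k) hdim.le, h1]
    simp
  · left
    rw [H29CurveDual.finrank_h1_eq (k := k) hdim (isCoh_of_rank hG)] at h1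
    haveI := Module.nontrivial_of_finrank_pos (R := k) h1
    obtain ⟨φ, hφ⟩ := exists_ne (0 : G ⟶ Omega.sheaf (X ↘ Spec (CommRingCat.of k)))
    have hΩ := rank_one_of_isInvertible (H29CurveDual.isInvertible_omega_curve (k := k) hdim)
    obtain ⟨a, r, hK, hI, har, -, hr0, -, -⟩ := exists_image_data (k := k) hdim.le hG hΩ φ
    have hr := hr0 hφ
    have hKh := h0_le (k := k) hdim N (kernel φ) a hK fun M ψ hM hψ =>
      hb M (ψ ≫ kernel.ι φ) hM fun h => hψ ((cancel_mono (kernel.ι φ)).1 (h.trans zero_comp.symm))
    have hIh : Module.finrank k (Coh.HH X (Abelian.image φ) 0) ≤ Curv2.genus k X := by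
      haveI := H10Coh.finite_HH_proper k X _ (isCoh_of_rank hΩ) 0
      rw [← H29CurveDual.finrank_h1_structure (k := k) hdim]
      exact LinearMap.finrank_le_finrank_of_injective (hhlin_zero_injective (k := k) (Abelian.image.ι φ))
    have hfac : Abelian.factorThruImage φ ≫ Abelian.image.ι φ = φ := Abelian.image.fac φ
    have hS : (ShortComplex.mk (kernel.ι φ) (Abelian.factorThruImage φ)
        (by rw [← cancel_mono (Abelian.image.ι φ), Category.assoc, hfac, kernel.condition, zero_comp])).ShortExact :=
      { exact := ShortComplex.exact_of_f_is_kernel _ (KernelFork.IsLimit.ofι' _ _ fun {A} x hx =>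
          ⟨kernel.lift φ x (by
            rw [← hfac, ← Category.assoc]
            show (x ≫ Abelian.factorThruImage φ) ≫ _ = 0
            rw [show x ≫ Abelian.factorThruImage φ = 0 from hx, zero_comp]), kernel.lift_ι _ _ _⟩) }
    haveI : Module.Finite k (Coh.HH X (kernel φ) 0) := H10Coh.finite_HH_proper k X _ (isCoh_of_rank hK) 0
    haveI : Module.Finite k (Coh.HH X G 0) := H10Coh.finite_HH_proper k X _ (isCoh_of_rank hG) 0
    haveI : Module.Finite k (Coh.HH X (Abelian.image φ) 0) := H10Coh.finite_HH_proper k X _ (isCoh_of_rank hI) 0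
    have hex := H25Par.hhlin_exact (k := k) hS
    have h0 := LinearMap.finrank_range_add_finrank_ker (Canon.HHlin k (Abelian.factorThruImage φ) 0)
    rw [show LinearMap.ker (Canon.HHlin k (Abelian.factorThruImage φ) 0) =
      LinearMap.range (Canon.HHlin k (kernel.ι φ) 0) from hex] at h0
    have h2 := Submodule.finrank_le (LinearMap.range (Canon.HHlin k (Abelian.factorThruImage φ) 0))
    have h3 := LinearMap.finrank_range_le (Canon.HHlin k (kernel.ι φ) 0)
    have h4 : a * N ≤ (s - 1) * N := Nat.mul_le_mul_right N (by omega)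
    omega

end Groth.Agent.H29RR.LineBound
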