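import Groth.Agent.H29RR.Clifford
import Groth.Agent.H29RR.Consts
import Groth.Agent.H29RR.Sections

/-!
# The inequalities behind linear (semi)stability
-/

set_option autoImplicit false
set_option linter.style.haveILetI false
universe u

open CategoryTheory CategoryTheory.Limits AlgebraicGeometry TopologicalSpace Opposite

namespace Groth.Agent.H29RR

attribute [local instance 10000] H10Coh.hasSheafifyAb H10Coh.hasWeakSheafifyAb H10Coh.hasExtAb H10Coh.enoughInjAb

variable {k : Type u} [Field k] [IsAlgClosed k] {X : Scheme.{u}} [X.Over (Spec (CommRingCat.of k))]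
  [IsProper (X ↘ Spec (CommRingCat.of k))] [IsIntegral X]

/-- Clifford's theorem combined with Riemann–Roch: sections are bounded by half the degree, or by
degree minus genus in the nonspecial case. -/
theorem h0_bound (hdim : topologicalKrullDim X ≤ 1) {M : X.Modules} (hM : PicF.IsInvertible M) {m : ℕ}
    (hsec : m + 1 ≤ Module.finrank k (Coh.HH X M 0)) :
    0 ≤ Curv2.deg k X M 1 ∧
      (2 * (m : ℤ) ≤ Curv2.deg k X M 1 ∨ (m : ℤ) ≤ Curv2.deg k X M 1 - Curv2.genus k X) := by
  haveI : Nontrivial (Coh.HH X M 0) := Module.nontrivial_of_finrank_pos (R := k) (by omega)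
  haveI := finite_HH (k := k) M hM 1
  have hrr := riemann_roch (k := k) hdim M
  rw [finrank_h0_structure k X] at hrr
  refine ⟨(bounds_of_section (k := k) hdim hM inferInstance).1, ?_⟩
  rcases subsingleton_or_nontrivial (Coh.HH X M 1) with h | h
  · rw [Module.finrank_zero_of_subsingleton (M := Coh.HH X M 1)] at hrr
    exact Or.inr (by omega)
  · have := h0_add_h1_le (k := k) hdim hM inferInstance h
    exact Or.inl (by omega)

theorem slope_le (hdim : topologicalKrullDim X ≤ 1) {M : X.Modules} (hM : PicF.IsInvertible M) {m : ℕ}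
    (hsec : m + 1 ≤ Module.finrank k (Coh.HH X M 0)) {d : ℤ} (hd : 2 * (Curv2.genus k X : ℤ) ≤ d)
    (hdeg : Curv2.deg k X M 1 ≤ d) :
    d * (m : ℤ) ≤ Curv2.deg k X M 1 * (d - Curv2.genus k X) := by
  obtain ⟨h0, h | h⟩ := h0_bound (k := k) hdim hM hsec
  · nlinarith
  · nlinarith [(Nat.cast_nonneg (Curv2.genus k X) : (0 : ℤ) ≤ _)]

theorem slope_lt (hdim : topologicalKrullDim X ≤ 1) (hg : 1 ≤ Curv2.genus k X) {M : X.Modules}
    (hM : PicF.IsInvertible M) {m : ℕ} (hm : 1 ≤ m)
    (hsec : m + 1 ≤ Module.finrank k (Coh.HH X M 0)) {d : ℤ} (hd : 2 * (Curv2.genus k X : ℤ) < d)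
    (hdeg : Curv2.deg k X M 1 ≤ d) (hlt : Curv2.deg k X M 1 < d ∨ (m : ℤ) < d - Curv2.genus k X) :
    d * (m : ℤ) < Curv2.deg k X M 1 * (d - Curv2.genus k X) := by
  have hg' : (1 : ℤ) ≤ Curv2.genus k X := by exact_mod_cast hg
  have hm' : (1 : ℤ) ≤ m := by exact_mod_cast hm
  obtain ⟨h0, h | h⟩ := h0_bound (k := k) hdim hM hsec
  · nlinarith
  · rcases hlt with h' | h' <;> nlinarith

end Groth.Agent.H29RR
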