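import Groth.Agent.H29RR.RankTwo
import Groth.Agent.H29RR.EvalPoint

/-!
# Pairs of sections spanning a rank two bundle generically
-/

set_option autoImplicit false
set_option linter.style.haveILetI false
universe u

open CategoryTheory CategoryTheory.Limits AlgebraicGeometry TopologicalSpace Opposite
open Groth.Agent.H11Tilde

namespace Groth.Agent.H29RR

attribute [local instance 10000] H10Coh.hasSheafifyAb H10Coh.hasWeakSheafifyAb H10Coh.hasExtAb H10Coh.enoughInjAb

variable {k : Type u} [Field k] {X : Scheme.{u}} [X.Over (Spec (CommRingCat.of k))]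
  [IsProper (X ↘ Spec (CommRingCat.of k))] [IsIntegral X] [Smooth (X ↘ Spec (CommRingCat.of k))]

/-- If no line subsheaf contains all sections, two sections give an injection of the trivial rank two bundle. -/
theorem exists_pair_mono (hdim : topologicalKrullDim X ≤ 1) {E : X.Modules}
    (hE : FlatMod.IsFinLocFreeOfRank 2 E) (hn : Nontrivial (Coh.HH X E 0))
    (hline : ∀ (L : X.Modules) (i : L ⟶ E), Mono i → PicF.IsInvertible L →
      Module.finrank k (Coh.HH X L 0) < Module.finrank k (Coh.HH X E 0)) :
    ∃ φ : Coh.structureModule X ⊞ Coh.structureModule X ⟶ E, Mono φ := by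
  haveI := isNoetherian_of_proper (k := k) (X := X)
  obtain ⟨g, hg⟩ := exists_global_ne_zero E hn
  have hO := H11Ample.isInvertible_structureModule (X := X)
  let s : Coh.structureModule X ⟶ E := homOfGlobal E g
  haveI : Mono s := mono_of_invertible (k := k) hdim hO hE (homOfGlobal_ne_zero' hg)
  obtain ⟨G', j, ι', hj, hι', hji, hG', hC⟩ := H25Par.exists_saturation k hdim (rank_one_of_isInvertible hO) hE s
  haveI := hι'
  obtain ⟨c, hc⟩ := H25Par.exists_rank k hdim (H16Derived.KFlat.Stalk.isCoh_of_isFinLocFree hC)
    (H25Par.isTorsionFree_of_locFree hC)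
  by_cases hall : ∀ g' : Γ(E, ⊤), homOfGlobal E g' ≫ cokernel.π ι' = 0
  · exfalso
    have hzero : ∀ v : Coh.HH X E 0, Canon.HHlin k (cokernel.π ι') 0 v = 0 := by
      intro v
      refine (sec (cokernel ι')).injective ?_
      rw [sec_natural, map_zero]
      have h := congrArg (fun φ : Coh.structureModule X ⟶ cokernel ι' => φ.app ⊤ (1 : Γ(X, ⊤))) (hall (sec E v))
      simpa [homOfGlobal_app] using h
    have hex := H25Par.hhlin_exact (k := k)
      (S := ShortComplex.mk ι' (cokernel.π ι') (cokernel.condition ι')) { exact := ShortComplex.exact_cokernel _ }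
    have hs : Function.Surjective (Canon.HHlin k ι' 0) := fun v => by
      have hv : v ∈ LinearMap.ker (Canon.HHlin k (cokernel.π ι') 0) := hzero v
      exact (show v ∈ LinearMap.range (Canon.HHlin k ι' 0) from hex ▸ hv)
    have hGi := H22Alg.PB.isInvertible_of_rank_one hG'
    haveI := finite_HH (k := k) G' hGi 0
    exact absurd (LinearMap.finrank_le_finrank_of_surjective hs) (not_le.2 (hline G' ι' hι' hGi))
  · push Not at hall
    obtain ⟨g', hg'⟩ := hall
    haveI : Mono (homOfGlobal E g' ≫ cokernel.π ι') := mono_of_invertible (k := k) hdim hO hc hg'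
    have hs0 : s ≫ cokernel.π ι' = 0 := by rw [← hji, Category.assoc, cokernel.condition, comp_zero]
    refine ⟨biprod.desc s (homOfGlobal E g'), Preadditive.mono_of_cancel_zero _ fun {A} x hx => ?_⟩
    have hd : x ≫ biprod.fst ≫ s + x ≫ biprod.snd ≫ homOfGlobal E g' = 0 := by
      rw [← hx, biprod.desc_eq, Preadditive.comp_add]
    have h2 : x ≫ biprod.snd = 0 := by
      refine (cancel_mono (homOfGlobal E g' ≫ cokernel.π ι')).1 ?_
      have := congrArg (· ≫ cokernel.π ι') hd
      simpa [Preadditive.add_comp, Category.assoc, hs0] using this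
    have h1 : x ≫ biprod.fst = 0 := by
      rw [← cancel_mono s, Category.assoc, zero_comp]
      rw [← Category.assoc x biprod.snd, h2, zero_comp, add_zero] at hd
      exact hd
    exact biprod.hom_ext _ _ (h1.trans zero_comp.symm) (h2.trans zero_comp.symm)

/-- Where such a pair generates, all global sections span. -/
theorem spansAt_of_notMem {E : X.Modules} (φ : Coh.structureModule X ⊞ Coh.structureModule X ⟶ E) {x : X}
    (hx : x ∉ CohB1.support (cokernel φ)) : SpansAt E x :=
  spansAt_of_surjective φ (spansAt_biprod (spansAt_structureModule x) (spansAt_structureModule x))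
    (surjective_stalk_of_notMem_support φ hx)

/-- The trivial rank two bundle. -/
theorem rank_two_trivial (hdim : topologicalKrullDim X ≤ 1) :
    FlatMod.IsFinLocFreeOfRank 2 (Coh.structureModule X ⊞ Coh.structureModule X) ∧
      Curv2.deg k X (Coh.structureModule X ⊞ Coh.structureModule X) 2 = 0 := by
  haveI := isNoetherian_of_proper (k := k) (X := X)
  have hO := rank_one_of_isInvertible (H11Ample.isInvertible_structureModule (X := X))
  have hS := (ShortComplex.Splitting.ofHasBinaryBiproduct (Coh.structureModule X) (Coh.structureModule X)).shortExact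
  have h := exists_rank_of_extension (k := k) hdim hS hO hO
  refine ⟨h, ?_⟩
  obtain ⟨-, hd⟩ := deg_add_of_shortExact (k := k) hS hO h hO
  refine hd.trans ?_
  simp [deg_structureModule]

end Groth.Agent.H29RR
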