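import Groth.Agent.H29RR.EvalSub
import Groth.Agent.H29RR.SectionPair
import Groth.Agent.H29RR.Generation
import Groth.Agent.H29RR.PointAux

/-!
# Sections in line subsheaves of a rank two bundle, at points
-/

set_option autoImplicit false
set_option linter.style.haveILetI false
universe u

open CategoryTheory CategoryTheory.Limits AlgebraicGeometry TopologicalSpace Opposite MonoidalCategory
open Groth.Agent.H11Tilde

namespace Groth.Agent.H29RR

attribute [local instance] Curv2.resAlgebra
attribute [local instance 10000] H10Coh.hasSheafifyAb H10Coh.hasWeakSheafifyAb H10Coh.hasExtAb H10Coh.enoughInjAb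

variable {k : Type u} [Field k] {X : Scheme.{u}} [X.Over (Spec (CommRingCat.of k))]

theorem leftUnit_natural {M E : X.Modules} (j : M ⟶ E) :
    ((DCoh.tensorBi (X := X)).obj (Coh.structureModule X)).map j ≫ (H10Coh.Tw.leftUnitIso E).hom =
      (H10Coh.Tw.leftUnitIso M).hom ≫ j := by
  let c := (PresheafOfModules.sheafificationAdjunction (𝟙 X.ringCatSheaf.obj)).counit
  have h2 := congrArg (CohB1.sheafifyMod X).map (MonoidalCategory.leftUnitor_naturality (DCoh.toP.map j : (CohB1.toPMod M) ⟶ CohB1.toPMod E))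
  replace h2 := ((CohB1.sheafifyMod X).map_comp _ _).symm.trans (h2.trans ((CohB1.sheafifyMod X).map_comp _ _))
  have h3 := c.naturality j
  exact (Category.assoc _ _ _).symm.trans ((congrArg (· ≫ c.app E) h2).trans ((Category.assoc _ _ _).trans
    ((congrArg ((CohB1.sheafifyMod X).map (λ_ (CohB1.toPMod M)).hom ≫ ·) h3).trans (Category.assoc _ _ _).symm)))

theorem ptIncl_natural (x : X) {M E : X.Modules} (j : M ⟶ E) :
    ((DCoh.tensorBi (X := X)).obj (ClSub.idealMod (ptIdeal x))).map j ≫ ptIncl x E = ptIncl x M ≫ j := by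
  show _ ≫ ((DCoh.tensorBi (X := X)).map (ClSub.idealModι (ptIdeal x))).app E ≫ _ =
    (((DCoh.tensorBi (X := X)).map (ClSub.idealModι (ptIdeal x))).app M ≫ _) ≫ j
  exact (Category.assoc _ _ _).symm.trans ((congrArg (· ≫ (H10Coh.Tw.leftUnitIso E).hom)
    (((DCoh.tensorBi (X := X)).map (ClSub.idealModι (ptIdeal x))).naturality j)).trans ((Category.assoc _ _ _).trans
    ((congrArg (((DCoh.tensorBi (X := X)).map (ClSub.idealModι (ptIdeal x))).app M ≫ ·) (leftUnit_natural j)).trans
      (Category.assoc _ _ _).symm)))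

variable [IsProper (X ↘ Spec (CommRingCat.of k))]

/-- A line of sections loses at most one dimension at a rational point. -/
theorem finrank_range_le_inf {x : X} (hx : IsClosed ({x} : Set X))
    (h1 : Module.finrank k (X.residueField x) = 1) {M E : X.Modules} (hM : PicF.IsInvertible M)
    (hEc : Coh.IsCoh E) (j : M ⟶ E) [Mono j] :
    Module.finrank k (LinearMap.range (Canon.HHlin k j 0)) ≤
      Module.finrank k ↥(LinearMap.range (Canon.HHlin k j 0) ⊓ vanishSub k x E) + 1 := by
  haveI := isNoetherian_of_proper (k := k) (X := X)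
  obtain ⟨-, hb, -⟩ := twist_point (k := k) hx hM (isCoh_idealMod_pt x hx)
  rw [h1] at hb
  rw [LinearMap.finrank_range_of_inj (hhlin_zero_injective (k := k) j)]
  haveI : Module.Finite k (Coh.HH X E 0) := H10Coh.finite_HH_proper k X E hEc 0
  haveI := mono_ptIncl (x := x) (rank_one_of_isInvertible hM)
  have hinj : Function.Injective (Canon.HHlin k j 0 ∘ₗ Canon.HHlin k (ptIncl x M) 0) :=
    (hhlin_zero_injective (k := k) j).comp (hhlin_zero_injective (k := k) (ptIncl x M))
  have hle : LinearMap.range (Canon.HHlin k j 0 ∘ₗ Canon.HHlin k (ptIncl x M) 0) ≤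
      LinearMap.range (Canon.HHlin k j 0) ⊓ vanishSub k x E := by
    rintro _ ⟨v, rfl⟩
    refine ⟨⟨_, rfl⟩, Canon.HHlin k (((DCoh.tensorBi (X := X)).obj (ClSub.idealMod (ptIdeal x))).map j) 0 v, ?_⟩
    exact (hhlin_comp (k := k) _ _ 0 v).symm.trans
      ((congrArg (fun f => Canon.HHlin k f 0 v) (ptIncl_natural x j)).trans (hhlin_comp (k := k) _ _ 0 v))
  have := Submodule.finrank_mono hle
  rw [LinearMap.finrank_range_of_inj hinj] at this
  omega

variable [IsIntegral X] [Smooth (X ↘ Spec (CommRingCat.of k))]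

theorem app_top_one {E : X.Modules} (v : Coh.HH X E 0) :
    (homOfGlobal E (sec E v)).app ⊤ (1 : Γ(X, ⊤)) = sec E v := by
  simp [homOfGlobal_app]

/-- A nonzero section lies in the sections of a saturated line, which absorbs every line through it. -/
theorem exists_line_of_section (hdim : topologicalKrullDim X ≤ 1) {E : X.Modules}
    (hE : FlatMod.IsFinLocFreeOfRank 2 E) {w : Coh.HH X E 0} (hw : w ≠ 0) :
    ∃ (G : X.Modules) (i : G ⟶ E), Mono i ∧ PicF.IsInvertible G ∧ w ∈ LinearMap.range (Canon.HHlin k i 0) ∧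
      ∀ (M : X.Modules) (j : M ⟶ E), PicF.IsInvertible M → Mono j → w ∈ LinearMap.range (Canon.HHlin k j 0) →
        LinearMap.range (Canon.HHlin k j 0) ≤ LinearMap.range (Canon.HHlin k i 0) := by
  haveI := isNoetherian_of_proper (k := k) (X := X)
  have hO := H11Ample.isInvertible_structureModule (X := X)
  let s : Coh.structureModule X ⟶ E := homOfGlobal E (sec E w)
  haveI : Mono s := mono_of_invertible (k := k) hdim hO hE
    (homOfGlobal_ne_zero' fun h => hw ((sec E).injective (h.trans (map_zero _).symm)))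
  obtain ⟨G', j', ι', hj', hι', hji, hG', hC⟩ := H25Par.exists_saturation k hdim (rank_one_of_isInvertible hO) hE s
  haveI := hι'
  obtain ⟨c, hc⟩ := H25Par.exists_rank k hdim (H16Derived.KFlat.Stalk.isCoh_of_isFinLocFree hC)
    (H25Par.isTorsionFree_of_locFree hC)
  have hwG : w ∈ LinearMap.range (Canon.HHlin k ι' 0) := by
    refine ⟨(sec G').symm (j'.app ⊤ (1 : Γ(X, ⊤))), (sec E).injective ?_⟩
    rw [sec_natural, AddEquiv.apply_symm_apply]
    exact (congrArg (fun φ : Coh.structureModule X ⟶ E => φ.app ⊤ (1 : Γ(X, ⊤))) hji).trans (app_top_one w)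
  refine ⟨G', ι', hι', H22Alg.PB.isInvertible_of_rank_one hG', hwG, fun M j hM hj hwM => ?_⟩
  haveI := hj
  have hex := H25Par.hhlin_exact (k := k)
    (S := ShortComplex.mk ι' (cokernel.π ι') (cokernel.condition ι')) { exact := ShortComplex.exact_cokernel _ }
  have hjπ : j ≫ cokernel.π ι' = 0 := by
    by_contra hne
    haveI : Mono (j ≫ cokernel.π ι') := mono_of_invertible (k := k) hdim hM hc hne
    obtain ⟨m, rfl⟩ := hwM
    obtain ⟨g, hg⟩ := hwG
    have h0 : Canon.HHlin k (j ≫ cokernel.π ι') 0 m = 0 := by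
      rw [hhlin_comp (k := k), ← hg, ← hhlin_comp (k := k), cokernel.condition, hhlin_zero]
    exact hw (by rw [hhlin_zero_injective (k := k) (j ≫ cokernel.π ι') (h0.trans (map_zero _).symm), map_zero])
  rintro _ ⟨m, rfl⟩
  have hm : Canon.HHlin k j 0 m ∈ LinearMap.ker (Canon.HHlin k (cokernel.π ι') 0) := by
    rw [LinearMap.mem_ker, ← hhlin_comp (k := k), hjπ, hhlin_zero]
  exact (show Canon.HHlin k j 0 m ∈ LinearMap.range (Canon.HHlin k ι' 0) from hex ▸ hm)

/-- Two sections not in one line span the fibre at all but finitely many closed points. -/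
theorem exists_span_pair [IsAlgClosed k] (hdim : topologicalKrullDim X ≤ 1) {E : X.Modules}
    (hE : FlatMod.IsFinLocFreeOfRank 2 E) {u v : Coh.HH X E 0} (hu : u ≠ 0)
    (huv : ∀ (G : X.Modules) (i : G ⟶ E), Mono i → PicF.IsInvertible G → u ∈ LinearMap.range (Canon.HHlin k i 0) →
      v ∉ LinearMap.range (Canon.HHlin k i 0)) :
    ∃ Z : Set X, Z.Finite ∧ ∀ p : X, IsClosed ({p} : Set X) → p ∉ Z →
      Submodule.span k ({u, v} : Set (Coh.HH X E 0)) ⊔ vanishSub k p E = ⊤ := by
  haveI := isNoetherian_of_proper (k := k) (X := X)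
  have hO := H11Ample.isInvertible_structureModule (X := X)
  let s : Coh.structureModule X ⟶ E := homOfGlobal E (sec E u)
  let t : Coh.structureModule X ⟶ E := homOfGlobal E (sec E v)
  haveI : Mono s := mono_of_invertible (k := k) hdim hO hE
    (homOfGlobal_ne_zero' fun h => hu ((sec E).injective (h.trans (map_zero _).symm)))
  obtain ⟨G', j', ι', hj', hι', hji, hG', hC⟩ := H25Par.exists_saturation k hdim (rank_one_of_isInvertible hO) hE s
  haveI := hι'
  obtain ⟨c, hc⟩ := H25Par.exists_rank k hdim (H16Derived.KFlat.Stalk.isCoh_of_isFinLocFree hC)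
    (H25Par.isTorsionFree_of_locFree hC)
  have huG : u ∈ LinearMap.range (Canon.HHlin k ι' 0) := by
    refine ⟨(sec G').symm (j'.app ⊤ (1 : Γ(X, ⊤))), (sec E).injective ?_⟩
    rw [sec_natural, AddEquiv.apply_symm_apply]
    exact (congrArg (fun φ : Coh.structureModule X ⟶ E => φ.app ⊤ (1 : Γ(X, ⊤))) hji).trans (app_top_one u)
  have hs0 : s ≫ cokernel.π ι' = 0 := by rw [← hji, Category.assoc, cokernel.condition, comp_zero]
  haveI : Mono (t ≫ cokernel.π ι') := by
    refine mono_of_invertible (k := k) hdim hO hc fun h0 => ?_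
    refine huv G' ι' hι' (H22Alg.PB.isInvertible_of_rank_one hG') huG ?_
    have hv : v ∈ LinearMap.ker (Canon.HHlin k (cokernel.π ι') 0) := by
      rw [LinearMap.mem_ker]
      refine (sec (cokernel ι')).injective ?_
      rw [sec_natural, map_zero, ← app_top_one v]
      exact congrArg (fun φ : Coh.structureModule X ⟶ cokernel ι' => φ.app ⊤ (1 : Γ(X, ⊤))) h0
    have hex := H25Par.hhlin_exact (k := k)
      (S := ShortComplex.mk ι' (cokernel.π ι') (cokernel.condition ι')) { exact := ShortComplex.exact_cokernel _ }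
    exact (show v ∈ LinearMap.range (Canon.HHlin k ι' 0) from hex ▸ hv)
  let φ := biprod.desc s t
  haveI : Mono φ := Preadditive.mono_of_cancel_zero _ fun {A} x hx => by
    have hd : x ≫ biprod.fst ≫ s + x ≫ biprod.snd ≫ t = 0 := by
      rw [← hx, show φ = biprod.desc s t from rfl, biprod.desc_eq, Preadditive.comp_add]
    have h2 : x ≫ biprod.snd = 0 := by
      refine (cancel_mono (t ≫ cokernel.π ι')).1 ?_
      have := congrArg (· ≫ cokernel.π ι') hd
      simpa [Preadditive.add_comp, Category.assoc, hs0] using this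
    have h1 : x ≫ biprod.fst = 0 := by
      rw [← cancel_mono s, Category.assoc, zero_comp]
      rw [← Category.assoc x biprod.snd, h2, zero_comp, add_zero] at hd
      exact hd
    exact biprod.hom_ext _ _ (h1.trans zero_comp.symm) (h2.trans zero_comp.symm)
  obtain ⟨hB, -⟩ := rank_two_trivial (k := k) (X := X) hdim
  have hC' := H10Coh.isCoh_cokernel φ (isCoh_of_rank hB).1 (isCoh_of_rank hE)
  have hfin := H25Par.finite_of_isClosed_of_notMem hdim (H10Coh.isClosed_support _ hC'.2)
    (H25Par.notMem_support_coker hB hE φ)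
  refine ⟨CohB1.support (cokernel φ), hfin.1, fun p hp hpZ => ?_⟩
  refine sup_vanishSub_eq_top (k := k) hp (finrank_residue_eq_one (k := k) hp) hE _ ?_
  rw [eq_top_iff]
  rintro e -
  obtain ⟨b, rfl⟩ := surjective_stalk_of_notMem_support φ hpZ e
  have key : ∀ (w : Coh.HH X E 0) (a : (Coh.structureModule X).presheaf.stalk p),
      w ∈ ({u, v} : Set (Coh.HH X E 0)) → H06Mod.stalkLin (homOfGlobal E (sec E w)) p a ∈
        Submodule.span (X.presheaf.stalk p)
          ((fun v => E.presheaf.germ ⊤ p trivial (sec E v)) '' (Submodule.span k ({u, v} : Set (Coh.HH X E 0)) : Set _)) := by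
    intro w a hw
    obtain ⟨r, hr⟩ := (H11Ample.isGen_one (X := X) ⊤ p trivial).2 a
    rw [← hr, map_smul]
    refine Submodule.smul_mem _ _ ?_
    rw [germ_app]
    exact Submodule.subset_span ⟨w, Submodule.subset_span hw, (congrArg _ (app_top_one w)).symm⟩
  have hφ : φ = biprod.fst ≫ s + biprod.snd ≫ t := biprod.desc_eq
  rw [hφ, stalkLin_add, stalkLin_comp, stalkLin_comp]
  exact add_mem (key u _ (by simp)) (key v _ (by simp))

end Groth.Agent.H29RR
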