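import Groth.Agent.H29RR.MonoHom
import Groth.Agent.H25Par.GPSlope
import Groth.Agent.H10Coh.Stab.Simple

/-!
# Maps of vector bundles on a smooth proper curve and slopes
-/

set_option autoImplicit false
set_option linter.style.haveILetI false
set_option maxHeartbeats 400000
universe u

open CategoryTheory CategoryTheory.Limits AlgebraicGeometry

namespace Groth.Agent.H29RR

attribute [local instance 10000] H10Coh.hasSheafifyAb H10Coh.hasWeakSheafifyAb H10Coh.hasExtAb H10Coh.enoughInjAb

theorem locFree_of_rank {X : Scheme.{u}} {n : ℕ} {M : X.Modules} (h : FlatMod.IsFinLocFreeOfRank n M) :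
    FlatMod.IsFinLocFree M := fun y => let ⟨U, hU⟩ := h y; ⟨U, n, hU⟩

theorem isCoh_of_rank {X : Scheme.{u}} [IsLocallyNoetherian X] {n : ℕ} {M : X.Modules}
    (h : FlatMod.IsFinLocFreeOfRank n M) : Coh.IsCoh M :=
  H16Derived.KFlat.Stalk.isCoh_of_isFinLocFree (locFree_of_rank h)

variable {k : Type u} [Field k] {X : Scheme.{u}} [X.Over (Spec (CommRingCat.of k))]
  [IsProper (X ↘ Spec (CommRingCat.of k))] [IsIntegral X]

theorem isZero_of_rank_zero [IsLocallyNoetherian X] {M : X.Modules} (h : FlatMod.IsFinLocFreeOfRank 0 M) :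
    IsZero M :=
  H25Par.isZero_of_stalks _ fun y => by
    obtain ⟨hf, hfin, h0⟩ := H25Par.finrank_stalk h y
    exact Module.finrank_zero_iff.1 h0

/-- Rank and degree are additive. -/
theorem deg_add_of_shortExact {S : ShortComplex X.Modules} (hS : S.ShortExact) {a b c : ℕ}
    (h₁ : FlatMod.IsFinLocFreeOfRank a S.X₁) (h₂ : FlatMod.IsFinLocFreeOfRank b S.X₂)
    (h₃ : FlatMod.IsFinLocFreeOfRank c S.X₃) :
    a + c = b ∧ Curv2.deg k X S.X₂ b = Curv2.deg k X S.X₁ a + Curv2.deg k X S.X₃ c := by
  haveI := isNoetherian_of_proper (k := k) (X := X)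
  have hr := H25Par.rank_add hS h₁ h₂ h₃
  have he := H25Euler.euler_add (k := k) hS (isCoh_of_rank h₁) (isCoh_of_rank h₂) (isCoh_of_rank h₃)
  refine ⟨hr, ?_⟩
  subst hr
  simp only [Curv2.deg, he]
  push_cast
  ring

/-- The kernel and image of a map of vector bundles on a smooth curve. -/
theorem exists_image_data [Smooth (X ↘ Spec (CommRingCat.of k))] (hdim : topologicalKrullDim X ≤ 1) {n m : ℕ}
    {E F : X.Modules} (hE : FlatMod.IsFinLocFreeOfRank n E) (hF : FlatMod.IsFinLocFreeOfRank m F) (f : E ⟶ F) :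
    ∃ a r : ℕ, FlatMod.IsFinLocFreeOfRank a (kernel f) ∧ FlatMod.IsFinLocFreeOfRank r (Abelian.image f) ∧
      a + r = n ∧ r ≤ m ∧ (f ≠ 0 → 0 < r) ∧ (a = 0 → Mono f) ∧
      Curv2.deg k X E n = Curv2.deg k X (kernel f) a + Curv2.deg k X (Abelian.image f) r := by
  haveI := isNoetherian_of_proper (k := k) (X := X)
  have hC := H10Coh.isCoh_cokernel f (isCoh_of_rank hE).1 (isCoh_of_rank hF)
  have hGc : Coh.IsCoh (Abelian.image f) := H10Coh.isCoh_kernel (cokernel.π f) (isCoh_of_rank hF) hC.1
  have hKc : Coh.IsCoh (kernel f) := H10Coh.isCoh_kernel f (isCoh_of_rank hE) (isCoh_of_rank hF).1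
  obtain ⟨a, hK⟩ := H25Par.exists_rank k hdim hKc
    (H25Euler.isTorsionFree_of_mono (kernel.ι f) (H25Par.isTorsionFree_of_locFree (locFree_of_rank hE)))
  obtain ⟨r, hG⟩ := H25Par.exists_rank k hdim hGc
    (H25Euler.isTorsionFree_of_mono (Abelian.image.ι f) (H25Par.isTorsionFree_of_locFree (locFree_of_rank hF)))
  let π := Abelian.factorThruImage f
  have hfac : π ≫ Abelian.image.ι f = f := Abelian.image.fac f
  have hS : (ShortComplex.mk (kernel.ι f) π
      (by rw [← cancel_mono (Abelian.image.ι f), Category.assoc, hfac, kernel.condition, zero_comp])).ShortExact :=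
    { exact := ShortComplex.exact_of_f_is_kernel _ (KernelFork.IsLimit.ofι' _ _ fun {A} x hx =>
        ⟨kernel.lift f x (by
          rw [← hfac, ← Category.assoc]
          show (x ≫ π) ≫ _ = 0
          rw [show x ≫ π = 0 from hx, zero_comp]), kernel.lift_ι _ _ _⟩) }
  obtain ⟨hr, hd⟩ := deg_add_of_shortExact (k := k) hS hK hE hG
  refine ⟨a, r, hK, hG, hr, H25Par.rank_le_of_mono (genericPoint X) hG hF (Abelian.image.ι f), fun hf => ?_,
    fun ha => ?_, hd⟩
  · refine Nat.pos_of_ne_zero fun h0 => hf ?_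
    subst h0
    rw [← hfac, (isZero_of_rank_zero hG).eq_of_src (Abelian.image.ι f) 0, comp_zero]
  · subst ha
    exact Preadditive.mono_of_kernel_zero ((isZero_of_rank_zero hK).eq_of_src _ _)

/-- Strict inequality for subbundles of smaller rank. -/
def StableBundle (k : Type u) [Field k] (X : Scheme.{u}) [X.Over (Spec (CommRingCat.of k))] (E : X.Modules)
    (n : ℕ) : Prop :=
  ∀ (G : X.Modules) (s : ℕ) (i : G ⟶ E), Mono i → 0 < s → s < n → FlatMod.IsFinLocFreeOfRank s G →
    Curv2.deg k X G s * (n : ℤ) < Curv2.deg k X E n * (s : ℤ)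

/-- The weak inequality for all nonzero subbundles. -/
def SemistableBundle (k : Type u) [Field k] (X : Scheme.{u}) [X.Over (Spec (CommRingCat.of k))] (E : X.Modules)
    (n : ℕ) : Prop :=
  ∀ (G : X.Modules) (s : ℕ) (i : G ⟶ E), Mono i → 0 < s → FlatMod.IsFinLocFreeOfRank s G →
    Curv2.deg k X G s * (n : ℤ) ≤ Curv2.deg k X E n * (s : ℤ)

/-- A monomorphism of bundles of the same rank and degree is an isomorphism. -/
theorem isIso_of_deg_eq (hdim : topologicalKrullDim X ≤ 1) {n : ℕ} {E F : X.Modules}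
    (hE : FlatMod.IsFinLocFreeOfRank n E) (hF : FlatMod.IsFinLocFreeOfRank n F) (f : E ⟶ F) [Mono f]
    (hd : Curv2.deg k X E n = Curv2.deg k X F n) : IsIso f :=
  H25Par.isIso_of_euler_eq (k := k) hdim hE hF f (by simp only [Curv2.deg] at hd; linarith)

variable [Smooth (X ↘ Spec (CommRingCat.of k))]

/-- Stable bundles are simple. -/
theorem isIso_endo_of_stable (hdim : topologicalKrullDim X ≤ 1) {n : ℕ} {E : X.Modules}
    (hE : FlatMod.IsFinLocFreeOfRank n E) (hst : StableBundle k X E n) (f : E ⟶ E) (hf : f ≠ 0) : IsIso f := by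
  obtain ⟨a, r, hK, hG, hr, -, hr0, hmono, hd⟩ := exists_image_data (k := k) hdim hE hE f
  have hr' := hr0 hf
  rcases Nat.eq_zero_or_pos a with ha | ha
  · haveI := hmono ha
    exact isIso_of_deg_eq (k := k) hdim hE hE f rfl
  · exfalso
    have h1 := hst (kernel f) a (kernel.ι f) inferInstance ha (by omega) hK
    have h2 := hst (Abelian.image f) r (Abelian.image.ι f) inferInstance hr' (by omega) hG
    have hn : (n : ℤ) = (a : ℤ) + r := by omega
    rw [hd, hn] at h1 h2
    nlinarith

/-- A nonzero map between semistable bundles of equal slope, one stable of the larger rank, is an isomorphism. -/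
theorem isIso_of_stable (hdim : topologicalKrullDim X ≤ 1) {n m : ℕ} {E F : X.Modules}
    (hE : FlatMod.IsFinLocFreeOfRank n E) (hF : FlatMod.IsFinLocFreeOfRank m F)
    (hEss : SemistableBundle k X E n) (hFss : SemistableBundle k X F m)
    (hst : (StableBundle k X E n ∧ m ≤ n) ∨ (StableBundle k X F m ∧ n ≤ m) ∨
      (StableBundle k X E n ∧ StableBundle k X F m))
    (hμ : Curv2.deg k X E n * (m : ℤ) = Curv2.deg k X F m * (n : ℤ))
    (f : E ⟶ F) (hf : f ≠ 0) : IsIso f := by
  haveI := isNoetherian_of_proper (k := k) (X := X)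
  obtain ⟨a, r, hK, hG, hr, hrm, hr0, hmono, hd⟩ := exists_image_data (k := k) hdim hE hF f
  have hr' := hr0 hf
  have hG2 := hFss (Abelian.image f) r (Abelian.image.ι f) inferInstance hr' hG
  have hn : (n : ℤ) = (a : ℤ) + r := by omega
  have hm : (0 : ℤ) < m := by omega
  have hn0 : (0 : ℤ) < n := by omega
  have hlow : Curv2.deg k X E n * (r : ℤ) ≤ Curv2.deg k X (Abelian.image f) r * (n : ℤ) := by
    rcases Nat.eq_zero_or_pos a with ha | ha
    · subst ha
      have := hd
      have h0 : Curv2.deg k X (kernel f) 0 = 0 := by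
        have := H25Euler.euler_eq_zero_of_isZero (k := k) (isZero_of_rank_zero (X := X) hK)
        simp [Curv2.deg, this]
      rw [hd, h0, hn]
      simp
    · have h1 := hEss (kernel f) a (kernel.ι f) inferInstance ha hK
      rw [hd, hn] at h1 ⊢
      nlinarith
  have hab : a = 0 ∧ r = m := by
    constructor
    · rcases hst with ⟨he, -⟩ | ⟨hf', hle⟩ | ⟨he, -⟩
      on_goal 2 =>
        refine not_not.1 fun ha => ?_
        have h2 := hf' (Abelian.image f) r (Abelian.image.ι f) inferInstance hr' (by omega) hG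
        nlinarith
      all_goals
        refine not_not.1 fun ha => ?_
        have h1 := he (kernel f) a (kernel.ι f) inferInstance (Nat.pos_of_ne_zero ha) (by omega) hK
        rw [hd, hn] at h1 hlow
        have h3 : (Curv2.deg k X (kernel f) a + Curv2.deg k X (Abelian.image f) r) * (r : ℤ) <
            Curv2.deg k X (Abelian.image f) r * ((a : ℤ) + r) := by nlinarith
        rw [← hd, ← hn] at h3
        nlinarith
    · by_contra hne
      rcases hst with ⟨he, hle⟩ | ⟨hf', -⟩ | ⟨-, hf'⟩
      on_goal 1 =>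
        have h1 := he (kernel f) a (kernel.ι f) inferInstance (by omega) (by omega) hK
        rw [hd, hn] at h1 hlow
        have h3 : (Curv2.deg k X (kernel f) a + Curv2.deg k X (Abelian.image f) r) * (r : ℤ) <
            Curv2.deg k X (Abelian.image f) r * ((a : ℤ) + r) := by nlinarith
        rw [← hd, ← hn] at h3
        nlinarith
      all_goals
        have h2 := hf' (Abelian.image f) r (Abelian.image.ι f) inferInstance hr' (by omega) hG
        nlinarith
  obtain ⟨ha, rfl⟩ := hab
  subst ha
  haveI := hmono rfl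
  obtain rfl : r = n := by omega
  exact isIso_of_deg_eq (k := k) hdim hE hF f (mul_right_cancel₀ hn0.ne' hμ)

/-- Endomorphisms of stable bundles over an algebraically closed field are scalars. -/
theorem scalar_of_stable [IsAlgClosed k] (hdim : topologicalKrullDim X ≤ 1) {n : ℕ} {E : X.Modules}
    (hE : FlatMod.IsFinLocFreeOfRank n E) (hst : StableBundle k X E n) (f : E ⟶ E) :
    ∃ c : k, f = Formal.smulMod k E c := by
  haveI := isNoetherian_of_proper (k := k) (X := X)
  by_cases h0 : IsZero E
  · exact ⟨0, h0.eq_of_src _ _⟩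
  obtain ⟨c, hc⟩ := H10Coh.Stab.exists_scalar_not_isIso k (isCoh_of_rank hE) h0 f
  exact ⟨c, sub_eq_zero.1 (by_contra fun h => hc (isIso_endo_of_stable (k := k) hdim hE hst _ h))⟩

end Groth.Agent.H29RR
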