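import Groth.Agent.H11Ample.ToPn
import Groth.Agent.H11Tilde.ProjUP

/-!
# Independence of the coordinate sections of O(1) on projective space over a field
-/

set_option autoImplicit false
set_option linter.style.haveILetI false
universe u

open CategoryTheory CategoryTheory.Limits AlgebraicGeometry Opposite TopologicalSpace CohB1
open Groth.Agent.H11Tilde

namespace Groth.Agent.H29RR

variable {n : ℕ} {R : Type u} [CommRing R]

theorem fval_toGlobal_toSpec (c : R) (i : Fin (n + 1))
    (x : Proj.basicOpen (polyGrading n R) (MvPolynomial.X i)) :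
    fval (polyGrading n R) ((ProjSpace n R).presheaf.map
        (homOfLE (le_top : Proj.basicOpen (polyGrading n R) (MvPolynomial.X i) ≤ ⊤)).op
        (ProjUP.toGlobal (ProjSpace.toSpec n R) c)) x =
      Localization.mk (algebraMap R (MvPolynomial (Fin (n + 1)) R) c) ⟨1, one_notMem _ x.1⟩ := by
  let 𝒮 := polyGrading n R
  let f : MvPolynomial (Fin (n + 1)) R := MvPolynomial.X i
  have hf : f ∈ 𝒮 1 := MvPolynomial.isHomogeneous_X R i
  let V := Proj.basicOpen 𝒮 f
  let g := CommRingCat.ofHom (algebraMap R (𝒮 0)) ≫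
    CommRingCat.ofHom (HomogeneousLocalization.fromZeroRingHom 𝒮 (.powers f)) ≫ Proj.awayToSection 𝒮 f
  have h1 : V.ι ≫ ProjSpace.toSpec n R = V.toSpecΓ ≫ Spec.map g := by
    have hι : V.ι = (Proj.basicOpenIsoSpec 𝒮 f hf one_pos).hom ≫ Proj.awayι 𝒮 f hf one_pos := by
      rw [← Proj.basicOpenIsoSpec_inv_ι, Iso.hom_inv_id_assoc]
    show V.ι ≫ Proj.toSpecZero 𝒮 ≫ _ = _
    rw [hι, Category.assoc, Proj.awayι_toSpecZero_assoc, Proj.basicOpenIsoSpec_hom]
    simp only [g, Proj.basicOpenToSpec, Category.assoc, Spec.map_comp]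
    rfl
  have h2 : (Proj 𝒮).presheaf.map (homOfLE (le_top : V ≤ ⊤)).op (ProjUP.toGlobal (ProjSpace.toSpec n R) c) = g c := by
    have h3 := congrArg Scheme.Hom.appTop h1
    rw [Scheme.Hom.comp_appTop, Scheme.Hom.comp_appTop] at h3
    have h4 := congrArg (fun φ => V.topIso.hom (φ ((Scheme.ΓSpecIso (CommRingCat.of R)).inv c))) h3
    refine Eq.trans ?_ (h4.trans ?_)
    · simp [ProjUP.toGlobal, Scheme.Opens.ι_appTop, Scheme.Opens.topIso_hom]
      rfl
    · simp [Scheme.Opens.toSpecΓ, Scheme.toSpecΓ_appTop]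
      erw [← ConcreteCategory.comp_apply, ← Functor.map_comp]
  show fval 𝒮 _ x = _
  erw [h2]
  show fval 𝒮 (Proj.awayToSection 𝒮 f (HomogeneousLocalization.fromZeroRingHom 𝒮 _ (algebraMap R (𝒮 0) c))) x = _
  rw [awayToSection_algebraMap 𝒮 hf c]
  erw [fval_ratio]
  exact congrArg (Localization.mk _) (Subtype.ext (pow_zero f))

/-- The coordinate sections of `O(1)` are linearly independent. -/
theorem coord_independent [IsDomain R] (c : Fin (n + 1) → R)
    (h : ∑ i, ProjUP.toGlobal (ProjSpace.toSpec n R) (c i) • ProjUP.coord n R i = 0) (i : Fin (n + 1)) :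
    c i = 0 := by
  classical
  let 𝒮 := polyGrading n R
  by_contra hc
  let O : (ProjSpace n R).Opens := Proj.basicOpen 𝒮 (MvPolynomial.X i)
  obtain ⟨x, hx⟩ : ∃ x : Proj 𝒮, x ∈ O := by
    have hX : MvPolynomial.X i ∈ 𝒮 1 := MvPolynomial.isHomogeneous_X R i
    have hx0 : (MvPolynomial.X i : MvPolynomial (Fin (n + 1)) R) ≠ 0 := MvPolynomial.X_ne_zero i
    haveI : Nontrivial (Localization.Away (MvPolynomial.X i : MvPolynomial (Fin (n + 1)) R)) :=
      (IsLocalization.injective _ (powers_le_nonZeroDivisors_of_noZeroDivisors hx0)).nontrivial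
    haveI : Nontrivial (HomogeneousLocalization.Away 𝒮 (MvPolynomial.X i)) :=
      ⟨⟨0, 1, fun he => zero_ne_one (α := Localization.Away (MvPolynomial.X i : MvPolynomial (Fin (n + 1)) R))
        (by have := congrArg HomogeneousLocalization.val he; simpa using this)⟩⟩
    obtain ⟨q⟩ : Nonempty (Spec (CommRingCat.of (HomogeneousLocalization.Away 𝒮 (MvPolynomial.X i)))) :=
      inferInstanceAs (Nonempty (PrimeSpectrum (HomogeneousLocalization.Away 𝒮 (MvPolynomial.X i))))
    exact ⟨_, ((Proj.basicOpenIsoSpec 𝒮 _ hX one_pos).inv q).2⟩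
  let ρ := (Twist.twistProjSpace n R 1).presheaf.map (homOfLE (le_top : O ≤ ⊤)).op
  have h0 : ρ (∑ j, ProjUP.toGlobal (ProjSpace.toSpec n R) (c j) • ProjUP.coord n R j) = 0 := by
    rw [h, map_zero]
  rw [map_sum] at h0
  let φ : Γ(GrTwist.twist 𝒮 1, O) →+ GrTwist.Loc 𝒮 x :=
    { toFun := fun s => sval 𝒮 𝒮 s ⟨x, hx⟩
      map_zero' := rfl
      map_add' := fun _ _ => rfl }
  have h1 := (map_sum φ _ Finset.univ).symm.trans ((congrArg φ h0).trans (map_zero φ))
  have key : ∀ j, φ (ρ (ProjUP.toGlobal (ProjSpace.toSpec n R) (c j) • ProjUP.coord n R j)) =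
      algebraMap (MvPolynomial (Fin (n + 1)) R) (GrTwist.Loc 𝒮 x) (MvPolynomial.C (c j) * MvPolynomial.X j) := by
    intro j
    show sval 𝒮 𝒮 _ _ = _
    erw [Scheme.Modules.map_smul, sval_smul, fval_toGlobal_toSpec (c j) i ⟨x, hx⟩]
    change Localization.mk _ _ * Localization.mk (MvPolynomial.X j) ⟨1, _⟩ = _
    rw [Localization.mk_mul, ← Localization.mk_one_eq_algebraMap]
    exact congrArg₂ Localization.mk rfl (Subtype.ext (one_mul 1))
  simp only [key] at h1
  rw [← map_sum] at h1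
  have h2 := IsLocalization.injective (GrTwist.Loc 𝒮 x) (M := x.asHomogeneousIdeal.toIdeal.primeCompl)
    (Ideal.primeCompl_le_nonZeroDivisors _) (h1.trans (map_zero _).symm)
  have h3 := congrArg (MvPolynomial.coeff (Finsupp.single i 1)) h2
  simp [MvPolynomial.coeff_sum, MvPolynomial.coeff_X', Finsupp.single_eq_single_iff] at h3
  exact hc h3

end Groth.Agent.H29RR
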