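import Groth.Agent.H29RR.PnPic
import Groth.Agent.H29RR.Invert

/-!
# Extensions of twisting sheaves on projective space split
-/

set_option autoImplicit false
set_option linter.style.haveILetI false
universe u

open CategoryTheory CategoryTheory.Limits AlgebraicGeometry TopologicalSpace Opposite

namespace Groth.Agent.H29RR.PnPic

attribute [local instance 10000] H10Coh.hasSheafifyAb H10Coh.hasWeakSheafifyAb H10Coh.hasExtAb H10Coh.enoughInjAb

/-- For `n ≥ 2` every extension of `O(b)` by `O(a)` splits. -/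
theorem nonempty_splitting {k : Type u} [Field k] {n : ℕ} (hn : 2 ≤ n) {a b : ℤ}
    {S : ShortComplex (CohB1.ProjSpace n k).Modules} (hS : S.ShortExact)
    (ea : S.X₁ ≅ Twist.twistProjSpace n k a) (eb : S.X₃ ≅ Twist.twistProjSpace n k b) :
    Nonempty S.Splitting := by
  letI : (CohB1.ProjSpace n k).Over (Spec (CommRingCat.of k)) := ⟨CohB1.ProjSpace.toSpec n k⟩
  have h := H10Coh.Stab.isTwistFamily_projSpace n k
  obtain ⟨e0⟩ := h.zero
  obtain ⟨e1⟩ := h.add b (-b)
  obtain ⟨e2⟩ := h.add a (-b)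
  have h1 : Subsingleton (Coh.HH (CohB1.ProjSpace n k) (CohB1.tensorMod S.X₁ (Twist.twistProjSpace n k (-b))) 1) :=
    H10Coh.subsingleton_HH_of_iso (e2.symm ≪≫ PicGrp.tensorModIso ea.symm (Iso.refl _)) 1
      (H10Coh.Pn.subsingleton_HH_Od 1 (by omega) (by omega))
  haveI := isSplitEpi_of_h1 (k := k) hS (h.inv (-b)) (PicGrp.tensorModIso eb (Iso.refl _) ≪≫ e1 ≪≫
    eqToIso (congrArg _ (add_neg_cancel b)) ≪≫ e0) h1
  haveI := hS.mono_f
  exact ⟨ShortComplex.Splitting.ofExactOfSection S hS.exact (section_ S.g) (IsSplitEpi.id S.g) inferInstance⟩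

end Groth.Agent.H29RR.PnPic
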