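import Groth.Agent.H29RR.Twist
import Groth.Agent.H29RR.Invert

/-!
# Untwisting a trivial subbundle
-/

set_option autoImplicit false
set_option linter.style.haveILetI false
universe u

open CategoryTheory CategoryTheory.Limits AlgebraicGeometry TopologicalSpace Opposite

namespace Groth.Agent.H29RR

variable {X : Scheme.{u}} [IsIntegral X] [IsLocallyNoetherian X]

/-- A trivial subbundle of a twist gives a subbundle by copies of the inverse. -/
theorem exists_twist_back {E L M : X.Modules} {j n : ℕ} (hM : PicF.IsInvertible M)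
    (eLM : CohB1.tensorMod L M ≅ Coh.structureModule X) (φ : FlatMod.freeMod X j ⟶ CohB1.tensorMod E L) [Mono φ]
    (hq : FlatMod.IsFinLocFreeOfRank n (cokernel φ)) :
    ∃ ψ : (∐ fun _ : Fin j => M) ⟶ E, Mono ψ ∧ FlatMod.IsFinLocFreeOfRank n (cokernel ψ) := by
  let T : X.Modules ⥤ X.Modules := twist M
  haveI : T.Additive := inferInstanceAs ((DCoh.tensorBi (X := X)).flip.obj M).Additive
  have hS : (ShortComplex.mk φ (cokernel.π φ) (cokernel.condition φ)).ShortExact :=
    { exact := ShortComplex.exact_cokernel _ }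
  have hS' := H16Derived.KFlat.Stalk.isFlatObj_of_isFlat
    (H16Derived.KFlat.Stalk.isFlat_of_isFinLocFree (H28Pinch.isFinLocFree_of_isInvertible hM)) _ hS
  haveI hmono : Mono (T.map φ) := hS'.mono_f
  let e : T.obj (CohB1.tensorMod E L) ≅ E := (twistInv eLM).app E
  let f : Fin j → X.Modules := fun _ => Coh.structureModule X
  let ep : T.obj (∐ f) ≅ ∐ fun b => T.obj (f b) := PreservesCoproduct.iso T f
  let es : (∐ fun _ : Fin j => M) ≅ ∐ fun b => T.obj (f b) :=
    Sigma.mapIso fun _ => (H10Coh.Tw.leftUnitIso M).symm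
  let ej : (∐ fun _ : Fin j => M) ≅ T.obj (FlatMod.freeMod X j) := es ≪≫ ep.symm
  refine ⟨ej.hom ≫ T.map φ ≫ e.hom, ?_, fun x => ?_⟩
  · haveI : Mono (T.map φ ≫ e.hom) := mono_comp _ _
    exact mono_comp _ _
  obtain ⟨U, hU, ⟨e'⟩⟩ := rank_tensor hq hM x
  let c : cokernel (T.map φ) ≅ CohB1.tensorMod (cokernel φ) M :=
    (cokernelIsCokernel (T.map φ)).coconePointUniqueUpToIso hS'.gIsCokernel
  refine ⟨U, hU, ⟨(Scheme.Modules.restrictFunctor U.ι).mapIso ?_ ≪≫ e'⟩⟩
  exact cokernelEpiComp ej.hom (T.map φ ≫ e.hom) ≪≫ cokernelCompIsIso (T.map φ) e.hom ≪≫ c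

end Groth.Agent.H29RR
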